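import Mathlib
import Cfsg.Agent.Helper10.Layer
import Cfsg.Agent.Helper10.NormP
import Cfsg.Agent.Helper10.Coprime
import Cfsg.Agent.Helper10.PCons
import Cfsg.Agent.Helper10.PLocal
import Cfsg.Agent.Helper10.Wielandt
import Cfsg.Agent.S0010
import Cfsg.Agent.S0023
import Cfsg.Agent.S3734

/-!
# `O_{q',q}` is characteristic; a criterion for `U ≤ O_{q'}(K)` under a noncyclic coprime action
-/

set_option autoImplicit false

universe u

open scoped commutatorElement

namespace Cfsg.Agent.Helper10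

open Cfsg

/-- `O_{p',p}(M)` is invariant under automorphisms. -/
theorem pPrimePCore_char (p : ℕ) [Fact p.Prime] {M : Type u} [Group M] [Finite M] (φ : M ≃* M) :
    (pPrimePCore p M).map (φ : M →* M) ≤ pPrimePCore p M := by
  have hNle : pPrimeCore p M ≤ (pPrimeCore p M).map (φ : M →* M) := by
    intro x hx
    have h1 : φ.symm x ∈ pPrimeCore p M := pPrimeCore_char p φ.symm ⟨x, hx, rfl⟩
    exact ⟨φ.symm x, h1, by simp⟩
  have hker : (QuotientGroup.mk' (pPrimeCore p M)).ker ≤ (pPrimePCore p M).map (φ : M →* M) := by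
    rw [QuotientGroup.ker_mk']
    exact hNle.trans (Subgroup.map_mono (pPrimeCore_le_pPrimePCore p M))
  have hcard := card_eq_card_ker_mul_card_map (QuotientGroup.mk' (pPrimeCore p M))
    ((pPrimePCore p M).map (φ : M →* M)) hker
  have hcard2 : Nat.card ((pPrimePCore p M).map (φ : M →* M)) = Nat.card (pPrimePCore p M) :=
    Subgroup.card_map_of_injective φ.injective
  have hcard3 := card_comap_of_surjective (QuotientGroup.mk' (pPrimeCore p M))
    (QuotientGroup.mk'_surjective _) (pCore p (M ⧸ pPrimeCore p M))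
  have hcard4 : Nat.card (((pPrimePCore p M).map (φ : M →* M)).map
      (QuotientGroup.mk' (pPrimeCore p M))) = Nat.card (pCore p (M ⧸ pPrimeCore p M)) := by
    have h5 : Nat.card (pPrimePCore p M) = Nat.card (QuotientGroup.mk' (pPrimeCore p M)).ker *
        Nat.card (pCore p (M ⧸ pPrimeCore p M)) := hcard3
    rw [hcard2, h5] at hcard
    exact (Nat.eq_of_mul_eq_mul_left Nat.card_pos hcard).symm
  have hpg : IsPGroup p (((pPrimePCore p M).map (φ : M →* M)).map
      (QuotientGroup.mk' (pPrimeCore p M))) := by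
    obtain ⟨k, hk⟩ := IsPGroup.iff_card.mp
      (Cfsg.Agent.S0010.pCore_isPGroup p (G := M ⧸ pPrimeCore p M))
    exact IsPGroup.of_card (n := k) (by rw [hcard4, hk])
  have hnorm : (((pPrimePCore p M).map (φ : M →* M)).map
      (QuotientGroup.mk' (pPrimeCore p M))).Normal :=
    Subgroup.Normal.map (Subgroup.Normal.map (pPrimePCore_normal p M) _ φ.surjective) _
      (QuotientGroup.mk'_surjective _)
  have hle := Cfsg.Agent.S0010.le_pCore p _ hnorm hpg
  exact Subgroup.map_le_iff_le_comap.mp hle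

/-- Signalizer-functor style lemma: a `q'`-subgroup `U` of the solvable `p'`-group `K` with
`[U, C_K(B)]` a `q'`-group for all hyperplanes `B` of the noncyclic elementary abelian `p`-group
`A` acting on `K` lies in `O_{q'}(K)`. -/
theorem le_pPrimeCore_of_comm_centralizers {H : Type u} [Group H] [Finite H] (p : ℕ)
    [hp : Fact p.Prime] (A K : Subgroup H) (hA : Cfsg.IsElementaryAbelian p A)
    (hA2 : p ^ 2 ≤ Nat.card ↥A) (hK : ¬ p ∣ Nat.card ↥K) (hKs : Group.IsSolvable ↥K)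
    (hAK : A ≤ Subgroup.normalizer (K : Set H)) (q : ℕ) [hq : Fact q.Prime] (U : Subgroup H)
    (hU : U ≤ K) (hUq : ¬ q ∣ Nat.card ↥U)
    (hcomm : ∀ B : Subgroup H, B ≤ A → B.relIndex A = p →
      ¬ q ∣ Nat.card ↥⁅U, K ⊓ Subgroup.centralizer (B : Set H)⁆) :
    U ≤ (Cfsg.pPrimeCore q ↥K).map K.subtype := by
  classical
  let π : ↥K →* ↥K ⧸ pPrimeCore q ↥K := QuotientGroup.mk' (pPrimeCore q ↥K)
  have hcent : Subgroup.centralizer (pCore q (↥K ⧸ pPrimeCore q ↥K) : Set (↥K ⧸ pPrimeCore q ↥K)) ≤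
      pCore q (↥K ⧸ pPrimeCore q ↥K) :=
    centralizer_pCore_le_of_layer_bot q ((pLayer_eq_bot_iff q).mp (pLayer_eq_bot_of_solvable q hKs))
  have hQbar : IsPGroup q (pCore q (↥K ⧸ pPrimeCore q ↥K)) := Cfsg.Agent.S0010.pCore_isPGroup q
  haveI hQbarN : (pCore q (↥K ⧸ pPrimeCore q ↥K)).Normal := Cfsg.Agent.S0010.pCore_normal q
  let Q₁ : Subgroup H := (pPrimePCore q ↥K).map K.subtype
  have hQ₁K : Q₁ ≤ K := Subgroup.map_subtype_le _
  have hAQ₁ : A ≤ Subgroup.normalizer (Q₁ : Set H) :=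
    hAK.trans (char_normalizer K (pPrimePCore q ↥K) (fun φ => pPrimePCore_char q φ))
  have hAp : IsPGroup p A := fun a => ⟨1, by rw [pow_one]; exact Subtype.ext (hA.2 a a.2)⟩
  obtain ⟨k, hk⟩ := IsPGroup.iff_card.mp hAp
  have hAcomm : ∀ a ∈ A, ∀ b ∈ A, a * b = b * a := by
    intro a ha b hb
    have := hA.1.is_comm.comm ⟨a, ha⟩ ⟨b, hb⟩
    exact congrArg Subtype.val this
  have hAsolv : Group.IsSolvable A := solvable_of_pGroup hAp
  have hcopA : ∀ T : Subgroup H, T ≤ K → (Nat.card A).Coprime (Nat.card T) := by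
    intro T hT
    rw [hk]
    exact Nat.Coprime.pow_left k ((Nat.Prime.coprime_iff_not_dvd hp.out).mpr
      (fun h => hK (h.trans (Subgroup.card_dvd_of_le hT))))
  obtain ⟨Q, hQ⟩ := Cfsg.Agent.S0023.result A Q₁ hAQ₁ (hcopA Q₁ hQ₁K) (Or.inl hAsolv) q
  have hQQ₁ : (Q : Subgroup Q₁).map Q₁.subtype ≤ Q₁ := Subgroup.map_subtype_le _
  have hgen := (Cfsg.Agent.S3734.result A ((Q : Subgroup Q₁).map Q₁.subtype) hA.1 hQ
    (hcopA _ (hQQ₁.trans hQ₁K))).1
  -- a hyperplane of `A`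
  have hk2 : 2 ≤ k := by
    by_contra hlt
    have hk1 : k ≤ 1 := by omega
    have h1 : p ^ k ≤ p ^ 1 := Nat.pow_le_pow_right hp.out.pos hk1
    have h2 : p ^ 1 < p ^ 2 := Nat.pow_lt_pow_right hp.out.one_lt (by norm_num)
    omega
  obtain ⟨B₁, hB₁⟩ := Sylow.exists_subgroup_card_pow_prime p
    (hk ▸ pow_dvd_pow p (Nat.sub_le k 1) : p ^ (k - 1) ∣ Nat.card A)
  have hB₀A : B₁.map A.subtype ≤ A := Subgroup.map_subtype_le _
  have hB₀ : (B₁.map A.subtype).relIndex A = p := by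
    have h1 := card_eq_card_mul_relIndex hB₀A
    rw [Subgroup.card_map_of_injective A.subtype_injective, hB₁, hk] at h1
    have h2 : p ^ k = p ^ (k - 1) * p := by
      rw [← pow_succ]; congr 1; omega
    rw [h2] at h1
    exact (Nat.eq_of_mul_eq_mul_left (pow_pos hp.out.pos _) h1).symm
  have hfam : ∀ B : Subgroup H, B ≤ A → (∃ a ∈ A, B ⊔ Subgroup.zpowers a = A) →
      ¬ q ∣ Nat.card ↥⁅U, K ⊓ Subgroup.centralizer (B : Set H)⁆ := by
    rintro B hBA ⟨a, ha, hBa⟩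
    by_cases hBeq : B = A
    · intro hdvd
      apply hcomm _ hB₀A hB₀
      have hle : ⁅U, K ⊓ Subgroup.centralizer (B : Set H)⁆ ≤
          ⁅U, K ⊓ Subgroup.centralizer ((B₁.map A.subtype : Subgroup H) : Set H)⁆ := by
        apply Subgroup.commutator_mono le_rfl
        apply inf_le_inf_left
        apply Subgroup.centralizer_le
        rw [hBeq]
        exact SetLike.coe_subset_coe.mpr hB₀A
      exact hdvd.trans (Subgroup.card_dvd_of_le hle)
    · apply hcomm B hBA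
      have h1 : Nat.card A = Nat.card B * B.relIndex A := card_eq_card_mul_relIndex hBA
      have hn : Subgroup.zpowers a ≤ Subgroup.normalizer (B : Set H) :=
        (Subgroup.zpowers_le.mpr ha).trans (le_normalizer_of_comm hBA hAcomm)
      have h2 : Nat.card (B ⊔ Subgroup.zpowers a : Subgroup H) ∣
          Nat.card B * Nat.card (Subgroup.zpowers a) := card_sup_dvd_mul_of_le_normalizer hn
      rw [hBa, Nat.card_zpowers] at h2
      have h3 : orderOf a ∣ p := orderOf_dvd_of_pow_eq_one (hA.2 a ha)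
      have h4 : Nat.card B * B.relIndex A ∣ Nat.card B * p :=
        h1 ▸ h2.trans (mul_dvd_mul_left _ h3)
      have h5 : B.relIndex A ∣ p := Nat.dvd_of_mul_dvd_mul_left Nat.card_pos h4
      rcases (Nat.dvd_prime hp.out).mp h5 with h6 | h6
      · exfalso
        apply hBeq
        apply Subgroup.eq_of_le_of_card_ge hBA
        rw [h1, h6, mul_one]
      · exact h6
  intro u hu
  refine ⟨⟨u, hU hu⟩, ?_, rfl⟩
  -- elements of `K` commuting with `u` modulo `O_{q'}(K)`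
  let D : Subgroup H :=
    ((Subgroup.centralizer ({π ⟨u, hU hu⟩} : Set (↥K ⧸ pPrimeCore q ↥K))).comap π).map K.subtype
  have hXD : ∀ B : Subgroup H, B ≤ A → (∃ a ∈ A, B ⊔ Subgroup.zpowers a = A) →
      (Q : Subgroup Q₁).map Q₁.subtype ⊓ Subgroup.centralizer (B : Set H) ≤ D := by
    intro B hBA hBex x hx
    have hxK : x ∈ K := hQ₁K (hQQ₁ hx.1)
    refine ⟨⟨x, hxK⟩, ?_, rfl⟩
    show π ⟨x, hxK⟩ ∈ Subgroup.centralizer ({π ⟨u, hU hu⟩} : Set (↥K ⧸ pPrimeCore q ↥K))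
    refine Subgroup.mem_centralizer_iff.mpr ?_
    intro y hy
    rw [Set.mem_singleton_iff.mp hy]
    have hc : ⁅u, x⁆ ∈ ⁅U, K ⊓ Subgroup.centralizer (B : Set H)⁆ :=
      Subgroup.commutator_mem_commutator hu ⟨hxK, hx.2⟩
    have hord : ¬ q ∣ orderOf ⁅u, x⁆ := fun h =>
      hfam B hBA hBex (h.trans (Subgroup.orderOf_dvd_natCard _ hc))
    have hx'Q : π ⟨x, hxK⟩ ∈ pCore q (↥K ⧸ pPrimeCore q ↥K) := by
      obtain ⟨y, hy, hyx⟩ := hQQ₁ hx.1
      have : y = ⟨x, hxK⟩ := Subtype.ext hyx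
      rw [← this]
      exact hy
    have hcomQ : ⁅π ⟨u, hU hu⟩, π ⟨x, hxK⟩⁆ ∈ pCore q (↥K ⧸ pPrimeCore q ↥K) := by
      rw [commutatorElement_def]
      exact Subgroup.mul_mem _ (hQbarN.conj_mem _ hx'Q _) (Subgroup.inv_mem _ hx'Q)
    have h1 : ⁅π ⟨u, hU hu⟩, π ⟨x, hxK⟩⁆ = 1 := by
      have e1 : ⁅π ⟨u, hU hu⟩, π ⟨x, hxK⟩⁆ = π ⁅(⟨u, hU hu⟩ : K), (⟨x, hxK⟩ : K)⁆ :=
        (map_commutatorElement π _ _).symm
      have e2 : orderOf ⁅(⟨u, hU hu⟩ : K), (⟨x, hxK⟩ : K)⁆ = orderOf ⁅u, x⁆ := by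
        rw [← Subgroup.orderOf_coe]; rfl
      have hd : orderOf ⁅π ⟨u, hU hu⟩, π ⟨x, hxK⟩⁆ ∣ orderOf ⁅u, x⁆ := by
        rw [e1, ← e2]; exact orderOf_map_dvd π _
      obtain ⟨j, hj⟩ := (IsPGroup.iff_orderOf.mp hQbar)
        (⟨_, hcomQ⟩ : pCore q (↥K ⧸ pPrimeCore q ↥K))
      rw [Subgroup.orderOf_mk] at hj
      rcases Nat.eq_zero_or_pos j with hj0 | hj0
      · rw [hj0, pow_zero] at hj
        exact orderOf_eq_one_iff.mp hj
      · exfalso
        apply hord
        exact (dvd_pow_self q hj0.ne').trans (hj ▸ hd)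
    exact (commutatorElement_eq_one_iff_mul_comm.mp h1)
  have hQD : (Q : Subgroup Q₁).map Q₁.subtype ≤ D := by
    rw [← hgen]
    exact iSup₂_le (fun B hB => hXD B hB.1 hB.2)
  -- the image of `Q` is `O_q(K / O_{q'}(K))`
  let QG : Subgroup ↥K := ((Q : Subgroup Q₁).map Q₁.subtype).subgroupOf K
  have hQGle : QG ≤ pPrimePCore q ↥K := by
    intro y hy
    obtain ⟨z, hz, hzy⟩ := hQQ₁ (show (y : H) ∈ (Q : Subgroup Q₁).map Q₁.subtype from hy)
    have : z = y := Subtype.ext hzy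
    rw [← this]; exact hz
  have hcardQG : Nat.card (QG.subgroupOf (pPrimePCore q ↥K)) =
      q ^ (Nat.card (pPrimePCore q ↥K)).factorization q := by
    rw [Nat.card_congr (Subgroup.subgroupOfEquivOfLe hQGle).toEquiv,
      Nat.card_congr (Subgroup.subgroupOfEquivOfLe (hQQ₁.trans hQ₁K)).toEquiv,
      Subgroup.card_map_of_injective Q₁.subtype_injective, Q.card_eq_multiplicity,
      Subgroup.card_map_of_injective K.subtype_injective]
  let P' : Sylow q ↥(pPrimePCore q ↥K) := Sylow.ofCard _ hcardQG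
  have hP' := sylow_pPrimePCore_map q P'
  have hP'QG : (P' : Subgroup ↥(pPrimePCore q ↥K)).map (pPrimePCore q ↥K).subtype = QG := by
    show (QG.subgroupOf (pPrimePCore q ↥K)).map (pPrimePCore q ↥K).subtype = QG
    rw [Subgroup.subgroupOf_map_subtype]
    exact inf_eq_left.mpr hQGle
  rw [hP'QG] at hP'
  have hu_cent : π ⟨u, hU hu⟩ ∈
      Subgroup.centralizer (pCore q (↥K ⧸ pPrimeCore q ↥K) : Set (↥K ⧸ pPrimeCore q ↥K)) := by
    refine Subgroup.mem_centralizer_iff.mpr ?_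
    intro z hz
    have hz' : z ∈ QG.map (QuotientGroup.mk' (pPrimeCore q ↥K)) := by rw [hP']; exact hz
    obtain ⟨x, hx, rfl⟩ := hz'
    obtain ⟨y, hy, hyx⟩ := hQD (show (x : H) ∈ (Q : Subgroup Q₁).map Q₁.subtype from hx)
    have hyx' : y = x := Subtype.ext hyx
    rw [hyx'] at hy
    have := Subgroup.mem_centralizer_iff.mp hy (π ⟨u, hU hu⟩) rfl
    exact this.symm
  have hu_Q : π ⟨u, hU hu⟩ ∈ pCore q (↥K ⧸ pPrimeCore q ↥K) := hcent hu_cent
  have hu1 : π ⟨u, hU hu⟩ = 1 := by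
    obtain ⟨j, hj⟩ := (IsPGroup.iff_orderOf.mp hQbar)
      (⟨_, hu_Q⟩ : pCore q (↥K ⧸ pPrimeCore q ↥K))
    rw [Subgroup.orderOf_mk] at hj
    have hd : orderOf (π ⟨u, hU hu⟩) ∣ orderOf u := by
      have e2 : orderOf (⟨u, hU hu⟩ : K) = orderOf u := by
        rw [← Subgroup.orderOf_coe]
      rw [← e2]; exact orderOf_map_dvd π _
    rcases Nat.eq_zero_or_pos j with hj0 | hj0
    · rw [hj0, pow_zero] at hj
      exact orderOf_eq_one_iff.mp hj
    · exfalso
      apply hUq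
      exact ((dvd_pow_self q hj0.ne').trans (hj ▸ hd)).trans (Subgroup.orderOf_dvd_natCard _ hu)
  exact (QuotientGroup.eq_one_iff _).mp hu1

end Cfsg.Agent.Helper10
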