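import Mathlib
import Cfsg.Agent.Helper10.AxB
import Cfsg.Agent.Helper10.QPrime
import Cfsg.Agent.Helper10.FStar
import Cfsg.Agent.Helper13.PSolv
import Cfsg.Agent.Helper13.PSolv2
import Cfsg.Agent.Helper5.PStabSolv
import Cfsg.Agent.Helper11.PLen2

/-!
# Signalizers in `q`-solvable groups (helper10)

* `ss_exists_fixed_coset`: a `p`-group acting by conjugation on an invariant coset of a `p'`-subgroup
  has a fixed point.
* `ss_coprime_factor`: `H = C_H(P) [H, P]` for a `p`-group `P` acting on a `p'`-group `H`.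
* `ss_isPSolvable`: a group with a solvable normal subgroup of index prime to `q` is `q`-solvable.
* `ss_signalizer`: `Y ⊴ G` `q`-solvable, `z` a `q`-element, `D ≤ Y` a `q'`-subgroup centralized by `z`
  and normalized by `C_Y(z)`: then `D ≤ O_{q'}(Y)`.
* `ss_main`: statement S3819.
-/

set_option autoImplicit false
open Cfsg
open scoped commutatorElement Pointwise

namespace Cfsg.Agent.Helper10

universe u

/-- A `p`-subgroup `P` acting by conjugation on a `P`-invariant coset `x₀ D` with `p ∤ |D|`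
has a common fixed point. -/
theorem ss_exists_fixed_coset {G : Type*} [Group G] {p : ℕ} [Fact p.Prime] (P : Subgroup G)
    (hP : IsPGroup p P) (x₀ : G) (D : Subgroup G) [Finite D] (hD : ¬ p ∣ Nat.card D)
    (hinv : ∀ a ∈ P, ∀ d ∈ D, x₀⁻¹ * (a * (x₀ * d) * a⁻¹) ∈ D) :
    ∃ d ∈ D, ∀ a ∈ P, a * (x₀ * d) * a⁻¹ = x₀ * d := by
  letI act : MulAction P D :=
    { smul := fun a d => ⟨x₀⁻¹ * ((a : G) * (x₀ * d) * (a : G)⁻¹), hinv a a.2 d d.2⟩
      one_smul := by
        intro d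
        apply Subtype.ext
        show x₀⁻¹ * (((1 : P) : G) * (x₀ * d) * ((1 : P) : G)⁻¹) = d
        simp
      mul_smul := by
        intro a b d
        apply Subtype.ext
        show x₀⁻¹ * (((a * b : P) : G) * (x₀ * d) * ((a * b : P) : G)⁻¹) =
          x₀⁻¹ * ((a : G) * (x₀ * (x₀⁻¹ * ((b : G) * (x₀ * d) * (b : G)⁻¹))) * (a : G)⁻¹)
        rw [Subgroup.coe_mul]
        group }
  obtain ⟨d, hd⟩ := hP.nonempty_fixed_point_of_prime_not_dvd_card D hD
  refine ⟨d, d.2, fun a ha => ?_⟩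
  have h := hd ⟨a, ha⟩
  have h' : x₀⁻¹ * (a * (x₀ * d) * a⁻¹) = d := congrArg Subtype.val h
  calc a * (x₀ * d) * a⁻¹ = x₀ * (x₀⁻¹ * (a * (x₀ * d) * a⁻¹)) := by group
    _ = x₀ * d := by rw [h']

/-- Coprime action: `H = C_H(P) [H, P]`. -/
theorem ss_coprime_factor {G : Type*} [Group G] [Finite G] {p : ℕ} [Fact p.Prime]
    (H P : Subgroup G) (hP : IsPGroup p P) (hH : ¬ p ∣ Nat.card H)
    (hPH : P ≤ Subgroup.normalizer (H : Set G)) {h : G} (hh : h ∈ H) :
    ∃ c ∈ H ⊓ Subgroup.centralizer (P : Set G), ∃ k ∈ ⁅H, P⁆, h = c * k := by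
  have hKH : ⁅H, P⁆ ≤ H := by
    rw [Subgroup.commutator_le]
    intro x hx a ha
    have h1 : a * x⁻¹ * a⁻¹ ∈ H :=
      (Subgroup.mem_normalizer_iff.mp (hPH ha) x⁻¹).mp (H.inv_mem hx)
    have e : ⁅x, a⁆ = x * (a * x⁻¹ * a⁻¹) := by rw [commutatorElement_def]; group
    rw [e]; exact H.mul_mem hx h1
  have hKc : ¬ p ∣ Nat.card (⁅H, P⁆ : Subgroup G) :=
    fun hd => hH (hd.trans (Subgroup.card_dvd_of_le hKH))
  have hPK : P ≤ Subgroup.normalizer ((⁅H, P⁆ : Subgroup G) : Set G) :=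
    le_normalizer_commutator_right H P
  obtain ⟨d, hd, hfix⟩ := ss_exists_fixed_coset P hP h ⁅H, P⁆ hKc (by
    intro a ha d hd
    have h1 : a * d * a⁻¹ ∈ ⁅H, P⁆ := (Subgroup.mem_normalizer_iff.mp (hPK ha) d).mp hd
    have h2 : ⁅h⁻¹, a⁆ ∈ ⁅H, P⁆ := Subgroup.commutator_mem_commutator (H.inv_mem hh) ha
    have e : h⁻¹ * (a * (h * d) * a⁻¹) = ⁅h⁻¹, a⁆ * (a * d * a⁻¹) := by
      rw [commutatorElement_def]; group
    rw [e]; exact Subgroup.mul_mem _ h2 h1)
  refine ⟨h * d, Subgroup.mem_inf.mpr ⟨H.mul_mem hh (hKH hd), ?_⟩, d⁻¹,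
    Subgroup.inv_mem _ hd, by group⟩
  rw [Subgroup.mem_centralizer_iff]
  intro a ha
  have := hfix a ha
  calc a * (h * d) = a * (h * d) * a⁻¹ * a := by group
    _ = h * d * a := by rw [this]

theorem ss_pCore_char (q : ℕ) [Fact q.Prime] {M : Type*} [Group M] [Finite M] (φ : M ≃* M) :
    (pCore q M).map (φ : M →* M) ≤ pCore q M :=
  Cfsg.Agent.S0010.le_pCore q _
    (Subgroup.Normal.map (Cfsg.Agent.S0010.pCore_normal q) _ φ.surjective)
    ((Cfsg.Agent.S0010.pCore_isPGroup q).map _)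

/-- A finite group with a solvable normal subgroup of index prime to `q` is `q`-solvable. -/
theorem ss_isPSolvable_aux (q : ℕ) [Fact q.Prime] : ∀ (n : ℕ) (G : Type u) [Group G] [Finite G]
    (N : Subgroup G) [N.Normal], Group.IsSolvable N → N.index.Coprime q → Nat.card G = n →
    IsPSolvable q G := by
  intro n
  induction n using Nat.strong_induction_on with
  | _ n ih =>
  intro G _ _ N hNn hsol hidx hn
  by_cases hN : N = ⊥
  · rw [hN, Subgroup.index_bot] at hidx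
    apply Cfsg.Agent.Helper11.isPSolvable_of_pCore_index_coprime q G
    exact Nat.Coprime.coprime_dvd_left (Subgroup.index_dvd_card _) hidx
  · haveI : Nontrivial N := (Subgroup.nontrivial_iff_ne_bot N).mpr hN
    have hNps : IsPSolvable q N := Cfsg.Agent.Helper5.isPSolvable_of_isSolvable q
    have key : ∀ C : Subgroup N, (∀ φ : N ≃* N, C.map (φ : N →* N) ≤ C) → C ≠ ⊥ →
        ((∃ m : ℕ, Nat.card C = q ^ m) ∨ (Nat.card C).Coprime q) → IsPSolvable q G := by
      intro C hchar hC hcard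
      haveI hMn : (C.map N.subtype).Normal := map_subtype_normal_of_char N C hchar
      have hM : C.map N.subtype ≠ ⊥ := by
        rw [Ne, Subgroup.map_eq_bot_iff_of_injective _ N.subtype_injective]
        exact hC
      have hMN : C.map N.subtype ≤ N := Subgroup.map_subtype_le _
      have hMc : Nat.card (C.map N.subtype) = Nat.card C :=
        Subgroup.card_map_of_injective N.subtype_injective
      have hlt : Nat.card (G ⧸ C.map N.subtype) < n := by
        rw [← hn]; exact Cfsg.Agent.Helper13.card_quotient_lt _ hM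
      haveI hN'n : (N.map (QuotientGroup.mk' (C.map N.subtype))).Normal :=
        Subgroup.Normal.map hNn _ (QuotientGroup.mk'_surjective _)
      have hsol' : Group.IsSolvable (N.map (QuotientGroup.mk' (C.map N.subtype))) :=
        Group.isSolvable_of_surjective
          (MonoidHom.subgroupMap_surjective (QuotientGroup.mk' (C.map N.subtype)) N)
      have hidx' : (N.map (QuotientGroup.mk' (C.map N.subtype))).index.Coprime q := by
        rw [Subgroup.index_map_eq N (QuotientGroup.mk'_surjective _)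
          (by rw [QuotientGroup.ker_mk']; exact hMN)]
        exact hidx
      have hq := ih _ hlt (G ⧸ C.map N.subtype) (N.map (QuotientGroup.mk' (C.map N.subtype)))
        hsol' hidx' rfl
      apply Cfsg.Agent.Helper5.isPSolvable_of_normal_step (C.map N.subtype) _ hq
      rw [hMc]; exact hcard
    rcases Cfsg.Agent.Helper13.core_ne_bot_of_isPSolvable hNps with h | h
    · apply key (pCore q N) (fun φ => ss_pCore_char q φ) h
      left
      exact IsPGroup.iff_card.mp (Cfsg.Agent.S0010.pCore_isPGroup q)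
    · apply key (pPrimeCore q N) (fun φ => pPrimeCore_char q φ) h
      right
      exact pPrimeCore_coprime q N

theorem ss_isPSolvable (q : ℕ) [Fact q.Prime] {G : Type u} [Group G] [Finite G]
    (N : Subgroup G) [N.Normal] (hsol : Group.IsSolvable N) (hidx : N.index.Coprime q) :
    IsPSolvable q G :=
  ss_isPSolvable_aux q _ G N hsol hidx rfl

/-- **Signalizer lemma for `q`-solvable groups.** `Y ⊴ G` is `q`-solvable, `z` a `q`-element of
`G`, `D ≤ Y` a `q'`-subgroup centralized by `z` and normalized by `C_Y(z)`: then `D ≤ O_{q'}(Y)`. -/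
theorem ss_signalizer {G : Type u} [Group G] [Finite G] {q : ℕ} [hq : Fact q.Prime]
    (Y : Subgroup G) [hYn : Y.Normal] (hY : IsPSolvable q ↥Y) (z : G)
    (hz : ∃ k : ℕ, orderOf z = q ^ k) (D : Subgroup G) (hDY : D ≤ Y) (hDq : ¬ q ∣ Nat.card D)
    (hDz : ∀ d ∈ D, z * d = d * z)
    (hDn : Y ⊓ Subgroup.centralizer ({z} : Set G) ≤ Subgroup.normalizer (D : Set G)) :
    D ≤ (pPrimeCore q ↥Y).map Y.subtype := by
  classical
  obtain ⟨W, hW⟩ : ∃ W : Subgroup G, W = (pPrimeCore q ↥Y).map Y.subtype := ⟨_, rfl⟩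
  obtain ⟨Q, hQ⟩ : ∃ Q : Subgroup G, Q = (pPrimePCore q ↥Y).map Y.subtype := ⟨_, rfl⟩
  rw [← hW]
  haveI hWn : W.Normal := by
    rw [hW]; exact map_subtype_normal_of_char Y _ (fun φ => pPrimeCore_char q φ)
  haveI hQn : Q.Normal := by
    rw [hQ]; exact map_subtype_normal_of_char Y _ (fun φ => pPrimePCore_char q φ)
  have hQY : Q ≤ Y := by rw [hQ]; exact Subgroup.map_subtype_le _
  have hWQ : W ≤ Q := by
    rw [hW, hQ]; exact Subgroup.map_mono (pPrimeCore_le_pPrimePCore q ↥Y)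
  have hWc : (Nat.card W).Coprime q := by
    rw [hW, Subgroup.card_map_of_injective Y.subtype_injective]
    exact pPrimeCore_coprime q ↥Y
  have hWnd : ¬ q ∣ Nat.card W := by
    intro hd
    exact hq.out.one_lt.ne' (Nat.Coprime.eq_one_of_dvd hWc.symm hd)
  haveI hcn : (pPrimeCore q ↥Y).Normal := pPrimeCore_normal q ↥Y
  have hYq : IsPSolvable q (↥Y ⧸ pPrimeCore q ↥Y) := Cfsg.Agent.Helper13.isPSolvable_quotient hY _
  have hcent := Cfsg.Agent.Helper13.centralizer_pCore_le_of_isPSolvable hYq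
    (pPrimeCore_quotient q ↥Y)
  have hQbar : IsPGroup q (pCore q (↥Y ⧸ pPrimeCore q ↥Y)) := Cfsg.Agent.S0010.pCore_isPGroup q
  obtain ⟨π, hπ⟩ : ∃ π : G →* G ⧸ W, π = QuotientGroup.mk' W := ⟨_, rfl⟩
  have hπ1 : ∀ x : G, π x = 1 ↔ x ∈ W := by
    intro x; rw [hπ]; exact QuotientGroup.eq_one_iff x
  have hπs : Function.Surjective π := by rw [hπ]; exact QuotientGroup.mk'_surjective W
  -- `Q / W` is a `q`-group
  have hQpow : ∀ x ∈ Q, ∃ k : ℕ, x ^ q ^ k ∈ W := by
    intro x hx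
    rw [hQ] at hx
    obtain ⟨y, hy, rfl⟩ := hx
    have hy' : QuotientGroup.mk' (pPrimeCore q ↥Y) y ∈ pCore q (↥Y ⧸ pPrimeCore q ↥Y) := hy
    obtain ⟨k, hk⟩ := hQbar ⟨_, hy'⟩
    refine ⟨k, ?_⟩
    have h1 : (QuotientGroup.mk' (pPrimeCore q ↥Y) y) ^ q ^ k = 1 := by
      have := congrArg Subtype.val hk
      simpa using this
    have h2 : y ^ q ^ k ∈ pPrimeCore q ↥Y := by
      rw [← map_pow] at h1
      exact (QuotientGroup.eq_one_iff _).mp h1
    rw [hW]
    exact ⟨y ^ q ^ k, h2, by simp⟩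
  have hPq : IsPGroup q (Q.map π) := by
    rintro ⟨_, x, hx, rfl⟩
    obtain ⟨k, hk⟩ := hQpow x hx
    refine ⟨k, ?_⟩
    apply Subtype.ext
    rw [Subgroup.coe_pow]
    show π x ^ q ^ k = 1
    rw [← map_pow]
    exact (hπ1 _).mpr hk
  -- Hall–Higman 1.2.3 inside `Y`
  have hHH : ∀ y ∈ Y, (∀ x ∈ Q, y * x * y⁻¹ * x⁻¹ ∈ W) → y ∈ Q := by
    intro y hy hcomm
    have h1 : QuotientGroup.mk' (pPrimeCore q ↥Y) ⟨y, hy⟩ ∈
        Subgroup.centralizer (pCore q (↥Y ⧸ pPrimeCore q ↥Y) : Set (↥Y ⧸ pPrimeCore q ↥Y)) := by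
      rw [Subgroup.mem_centralizer_iff]
      intro t ht
      obtain ⟨x, rfl⟩ := QuotientGroup.mk'_surjective (pPrimeCore q ↥Y) t
      have hxQ : (x : G) ∈ Q := by rw [hQ]; exact ⟨x, ht, rfl⟩
      have h2 := hcomm x hxQ
      rw [hW] at h2
      obtain ⟨w, hw, hwe⟩ := h2
      have h3 : (⟨y, hy⟩ : ↥Y) * x * (⟨y, hy⟩ : ↥Y)⁻¹ * x⁻¹ = w := by
        apply Subtype.ext
        exact hwe.symm
      have h4 : QuotientGroup.mk' (pPrimeCore q ↥Y)
          ((⟨y, hy⟩ : ↥Y) * x * (⟨y, hy⟩ : ↥Y)⁻¹ * x⁻¹) = 1 := by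
        rw [h3]; exact (QuotientGroup.eq_one_iff _).mpr hw
      rw [map_mul, map_mul, map_inv, map_inv] at h4
      have h5 := mul_inv_eq_one.mp h4
      exact (mul_inv_eq_iff_eq_mul.mp h5).symm
    have h5 := hcent h1
    rw [hQ]
    exact ⟨⟨y, hy⟩, h5, rfl⟩
  have hzp : IsPGroup q (Subgroup.zpowers z) := by
    obtain ⟨k, hk⟩ := hz
    exact IsPGroup.of_card (n := k) (by rw [Nat.card_zpowers, hk])
  obtain ⟨A, hAdef⟩ : ∃ A : Subgroup (G ⧸ W), A = (Subgroup.zpowers z).map π := ⟨_, rfl⟩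
  obtain ⟨B, hBdef⟩ : ∃ B : Subgroup (G ⧸ W), B = D.map π := ⟨_, rfl⟩
  obtain ⟨Pb, hPbdef⟩ : ∃ Pb : Subgroup (G ⧸ W), Pb = Q.map π := ⟨_, rfl⟩
  have hA : IsPGroup q A := by rw [hAdef]; exact hzp.map π
  have hPb : IsPGroup q Pb := by rw [hPbdef]; exact hPq
  have hB : ∀ b ∈ B, (orderOf b).Coprime q := by
    rw [hBdef]
    rintro _ ⟨d, hd, rfl⟩
    have h1 : orderOf (π d) ∣ orderOf d := orderOf_map_dvd π d
    have h2 : orderOf d ∣ Nat.card D := D.orderOf_dvd_natCard hd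
    exact Nat.Coprime.coprime_dvd_left (h1.trans h2)
      ((Nat.Prime.coprime_iff_not_dvd hq.out).mpr hDq).symm
  have hAB : ⁅A, B⁆ = ⊥ := by
    have h0 : ⁅Subgroup.zpowers z, D⁆ = ⊥ := by
      rw [Subgroup.commutator_eq_bot_iff_le_centralizer, Subgroup.zpowers_le,
        Subgroup.mem_centralizer_iff]
      intro d hd
      exact (hDz d hd).symm
    rw [hAdef, hBdef, ← Subgroup.map_commutator, h0, Subgroup.map_bot]
  haveI hPbn : Pb.Normal := by rw [hPbdef]; exact Subgroup.Normal.map hQn π hπs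
  have hAP : A ≤ Subgroup.normalizer (Pb : Set (G ⧸ W)) := by
    rw [Subgroup.normalizer_eq_top]; exact le_top
  have hBP : B ≤ Subgroup.normalizer (Pb : Set (G ⧸ W)) := by
    rw [Subgroup.normalizer_eq_top]; exact le_top
  have hPB : Pb ⊓ B = ⊥ := inf_eq_bot_of_pGroup_coprime hPb hB
  have hC : ⁅Pb ⊓ Subgroup.centralizer (A : Set (G ⧸ W)), B⁆ = ⊥ := by
    rw [Subgroup.commutator_eq_bot_iff_le_centralizer]
    intro t ht
    obtain ⟨htP, htA⟩ := Subgroup.mem_inf.mp ht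
    rw [hPbdef] at htP
    obtain ⟨x, hxQ, rfl⟩ := htP
    have hinv : ∀ a ∈ Subgroup.zpowers z, ∀ d ∈ W, x⁻¹ * (a * (x * d) * a⁻¹) ∈ W := by
      intro a ha d hd
      rw [← hπ1]
      have hd1 : π d = 1 := (hπ1 d).mpr hd
      have hax : π a * π x = π x * π a :=
        Subgroup.mem_centralizer_iff.mp htA (π a) (by rw [hAdef]; exact ⟨a, ha, rfl⟩)
      rw [map_mul, map_mul, map_mul, map_mul, map_inv, map_inv, hd1, mul_one, hax]
      group
    obtain ⟨w, hw, hfix⟩ := ss_exists_fixed_coset (Subgroup.zpowers z) hzp x W hWnd hinv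
    have hx'Q : x * w ∈ Q := Q.mul_mem hxQ (hWQ hw)
    have hx'z : x * w ∈ Subgroup.centralizer ({z} : Set G) := by
      rw [Subgroup.mem_centralizer_iff]
      intro g hg
      rw [Set.mem_singleton_iff] at hg
      subst hg
      have := hfix g (Subgroup.mem_zpowers g)
      calc g * (x * w) = g * (x * w) * g⁻¹ * g := by group
        _ = x * w * g := by rw [this]
    have hx'N : x * w ∈ Subgroup.normalizer (D : Set G) :=
      hDn (Subgroup.mem_inf.mpr ⟨hQY hx'Q, hx'z⟩)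
    have hπx : π (x * w) = π x := by
      rw [map_mul, (hπ1 w).mpr hw, mul_one]
    rw [Subgroup.mem_centralizer_iff]
    rw [hBdef]
    rintro _ ⟨d, hd, rfl⟩
    have h1 : (x * w) * d * (x * w)⁻¹ * d⁻¹ ∈ D :=
      D.mul_mem ((Subgroup.mem_normalizer_iff.mp hx'N d).mp hd) (D.inv_mem hd)
    have h2 : (x * w) * d * (x * w)⁻¹ * d⁻¹ ∈ Q := by
      have h3 : d * (x * w)⁻¹ * d⁻¹ ∈ Q := hQn.conj_mem _ (Q.inv_mem hx'Q) d
      have e : (x * w) * d * (x * w)⁻¹ * d⁻¹ = (x * w) * (d * (x * w)⁻¹ * d⁻¹) := by group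
      rw [e]; exact Q.mul_mem hx'Q h3
    have h4 : π ((x * w) * d * (x * w)⁻¹ * d⁻¹) ∈ Pb ⊓ B := by
      rw [hPbdef, hBdef]
      exact Subgroup.mem_inf.mpr ⟨⟨_, h2, rfl⟩, ⟨_, h1, rfl⟩⟩
    rw [hPB, Subgroup.mem_bot] at h4
    rw [map_mul, map_mul, map_mul, map_inv, map_inv, hπx] at h4
    have h5 := mul_inv_eq_one.mp h4
    have h6 := mul_inv_eq_iff_eq_mul.mp h5
    exact h6.symm
  have hfin := thompson_AxB A B Pb hPb hA hB hAB hAP hBP hC
  have hfin' := Subgroup.commutator_eq_bot_iff_le_centralizer.mp hfin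
  have hDQ : D ≤ Q := by
    intro d hd
    apply hHH d (hDY hd)
    intro x hx
    rw [← hπ1]
    have h1 : π x ∈ Subgroup.centralizer (B : Set (G ⧸ W)) :=
      hfin' (by rw [hPbdef]; exact ⟨x, hx, rfl⟩)
    have h2 : π d * π x = π x * π d :=
      Subgroup.mem_centralizer_iff.mp h1 (π d) (by rw [hBdef]; exact ⟨d, hd, rfl⟩)
    rw [map_mul, map_mul, map_mul, map_inv, map_inv, h2]
    group
  intro d hd
  rw [← hπ1]
  have h1 : π d ∈ Pb ⊓ B := by
    rw [hPbdef, hBdef]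
    exact Subgroup.mem_inf.mpr ⟨⟨d, hDQ hd, rfl⟩, ⟨d, hd, rfl⟩⟩
  rw [hPB, Subgroup.mem_bot] at h1
  exact h1

theorem ss_normalizer_inf {G : Type*} [Group G] (A B : Subgroup G) :
    Subgroup.normalizer (A : Set G) ⊓ Subgroup.normalizer (B : Set G) ≤
      Subgroup.normalizer ((A ⊓ B : Subgroup G) : Set G) := by
  intro g hg
  obtain ⟨h1, h2⟩ := Subgroup.mem_inf.mp hg
  rw [Subgroup.mem_normalizer_iff] at h1 h2 ⊢
  intro x
  rw [Subgroup.mem_inf, Subgroup.mem_inf, h1 x, h2 x]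

theorem ss_normalizer_sup {G : Type*} [Group G] (A B : Subgroup G) :
    Subgroup.normalizer (A : Set G) ⊓ Subgroup.normalizer (B : Set G) ≤
      Subgroup.normalizer ((A ⊔ B : Subgroup G) : Set G) := by
  intro g hg
  obtain ⟨h1, h2⟩ := Subgroup.mem_inf.mp hg
  apply mem_normalizer_of_map_conj_eq
  rw [Subgroup.map_sup, map_conj_eq_of_mem_normalizer h1, map_conj_eq_of_mem_normalizer h2]

/-- Statement S3819: `G = PH`, `H = O_{p'}(G)`, `[H, P]` solvable, `z` a `q`-element of `C_H(P)`: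
`(O_{q'}(C_H(z)) ∩ O_{q'}(C_H(P))) [O_{q'}(C_H(z)), P] ≤ O_{q'}(H)`. -/
theorem ss_main {G : Type u} [Group G] [Finite G] {p : ℕ} [hp : Fact p.Prime]
    (P : Sylow p G) (hPH : pPrimeCore p G ⊔ (P : Subgroup G) = ⊤)
    (hsol : Group.IsSolvable ↥⁅pPrimeCore p G, (P : Subgroup G)⁆)
    {q : ℕ} [hq : Fact q.Prime] (z : G) (hzH : z ∈ pPrimeCore p G)
    (hzP : z ∈ Subgroup.centralizer ((P : Subgroup G) : Set G))
    (hz : ∃ k : ℕ, orderOf z = q ^ k) :
    ((pPrimeCore q ↥(pPrimeCore p G ⊓ Subgroup.centralizer ({z} : Set G))).map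
        (pPrimeCore p G ⊓ Subgroup.centralizer ({z} : Set G)).subtype ⊓
      (pPrimeCore q ↥(pPrimeCore p G ⊓ Subgroup.centralizer ((P : Subgroup G) : Set G))).map
        (pPrimeCore p G ⊓ Subgroup.centralizer ((P : Subgroup G) : Set G)).subtype) ⊔
    ⁅(pPrimeCore q ↥(pPrimeCore p G ⊓ Subgroup.centralizer ({z} : Set G))).map
        (pPrimeCore p G ⊓ Subgroup.centralizer ({z} : Set G)).subtype, (P : Subgroup G)⁆ ≤
    (pPrimeCore q ↥(pPrimeCore p G)).map (pPrimeCore p G).subtype := by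
  classical
  obtain ⟨H, hH⟩ : ∃ H : Subgroup G, H = pPrimeCore p G := ⟨_, rfl⟩
  rw [← hH] at hPH hsol hzH ⊢
  haveI hHn : H.Normal := by rw [hH]; exact pPrimeCore_normal p G
  have hHc : (Nat.card H).Coprime p := by rw [hH]; exact pPrimeCore_coprime p G
  have hHnd : ¬ p ∣ Nat.card H :=
    fun hd => hp.out.one_lt.ne' (Nat.Coprime.eq_one_of_dvd hHc.symm hd)
  have hPp : IsPGroup p (P : Subgroup G) := P.isPGroup'
  have hPN : (P : Subgroup G) ≤ Subgroup.normalizer (H : Set G) := by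
    rw [Subgroup.normalizer_eq_top]; exact le_top
  obtain ⟨K, hK⟩ : ∃ K : Subgroup G, K = ⁅H, (P : Subgroup G)⁆ := ⟨_, rfl⟩
  have hKH : K ≤ H := by rw [hK]; exact Subgroup.commutator_le_left H P
  have hKnorm : Subgroup.normalizer (K : Set G) = ⊤ := by
    rw [eq_top_iff, ← hPH]
    apply sup_le
    · rw [hK]; exact le_normalizer_commutator_left H P
    · rw [hK]; exact le_normalizer_commutator_right H P
  haveI hKn : K.Normal := Subgroup.normalizer_eq_top_iff.mp hKnorm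
  have hKsol : Group.IsSolvable ↥K := by rw [hK]; exact hsol
  obtain ⟨Cz, hCz⟩ : ∃ Cz : Subgroup G, Cz = H ⊓ Subgroup.centralizer ({z} : Set G) := ⟨_, rfl⟩
  obtain ⟨CP, hCP⟩ : ∃ CP : Subgroup G,
    CP = H ⊓ Subgroup.centralizer ((P : Subgroup G) : Set G) := ⟨_, rfl⟩
  rw [← hCz, ← hCP]
  obtain ⟨D, hD⟩ : ∃ D : Subgroup G, D = (pPrimeCore q ↥Cz).map Cz.subtype := ⟨_, rfl⟩
  obtain ⟨O, hO⟩ : ∃ O : Subgroup G, O = (pPrimeCore q ↥CP).map CP.subtype := ⟨_, rfl⟩
  rw [← hD, ← hO]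
  have hDCz : D ≤ Cz := by rw [hD]; exact Subgroup.map_subtype_le _
  have hOCP : O ≤ CP := by rw [hO]; exact Subgroup.map_subtype_le _
  have hCzH : Cz ≤ H := by rw [hCz]; exact inf_le_left
  have hCPH : CP ≤ H := by rw [hCP]; exact inf_le_left
  have hDc : (Nat.card D).Coprime q := by
    rw [hD, Subgroup.card_map_of_injective Cz.subtype_injective]
    exact pPrimeCore_coprime q ↥Cz
  have hOc : (Nat.card O).Coprime q := by
    rw [hO, Subgroup.card_map_of_injective CP.subtype_injective]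
    exact pPrimeCore_coprime q ↥CP
  have hDnd : ¬ q ∣ Nat.card D :=
    fun hd => hq.out.one_lt.ne' (Nat.Coprime.eq_one_of_dvd hDc.symm hd)
  have hCzD : Subgroup.normalizer (Cz : Set G) ≤ Subgroup.normalizer (D : Set G) := by
    rw [hD]; exact char_normalizer Cz _ (fun φ => pPrimeCore_char q φ)
  have hCPO : Subgroup.normalizer (CP : Set G) ≤ Subgroup.normalizer (O : Set G) := by
    rw [hO]; exact char_normalizer CP _ (fun φ => pPrimeCore_char q φ)
  have hPCz : (P : Subgroup G) ≤ Subgroup.normalizer (Cz : Set G) := by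
    intro a ha
    rw [hCz]
    apply ss_normalizer_inf
    refine Subgroup.mem_inf.mpr ⟨hPN ha, Subgroup.le_normalizer ?_⟩
    rw [Subgroup.mem_centralizer_iff]
    intro g hg
    rw [Set.mem_singleton_iff] at hg
    subst hg
    exact (Subgroup.mem_centralizer_iff.mp hzP a ha).symm
  have hPD : (P : Subgroup G) ≤ Subgroup.normalizer (D : Set G) := hPCz.trans hCzD
  obtain ⟨Y, hYdef⟩ : ∃ Y : Subgroup G, Y = K ⊔ O := ⟨_, rfl⟩
  have hKY : K ≤ Y := by rw [hYdef]; exact le_sup_left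
  have hOY : O ≤ Y := by rw [hYdef]; exact le_sup_right
  have hYH : Y ≤ H := by rw [hYdef]; exact sup_le hKH (hOCP.trans hCPH)
  have hYnorm : Subgroup.normalizer (Y : Set G) = ⊤ := by
    rw [eq_top_iff, ← hPH]
    apply sup_le
    · intro h hh
      obtain ⟨c, hc, k, hk, rfl⟩ := ss_coprime_factor H P hPp hHnd hPN hh
      apply Subgroup.mul_mem
      · rw [hYdef]
        apply ss_normalizer_sup
        refine Subgroup.mem_inf.mpr ⟨by rw [hKnorm]; trivial,
          hCPO (Subgroup.le_normalizer (by rw [hCP]; exact hc))⟩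
      · exact Subgroup.le_normalizer (hKY (by rw [hK]; exact hk))
    · intro a ha
      rw [hYdef]
      apply ss_normalizer_sup
      refine Subgroup.mem_inf.mpr ⟨by rw [hKnorm]; trivial, ?_⟩
      apply Subgroup.centralizer_le_normalizer
      rw [Subgroup.mem_centralizer_iff]
      intro o ho
      have h1 : o ∈ Subgroup.centralizer ((P : Subgroup G) : Set G) := by
        have := hOCP ho
        rw [hCP] at this
        exact (Subgroup.mem_inf.mp this).2
      exact (Subgroup.mem_centralizer_iff.mp h1 a ha).symm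
  haveI hYn : Y.Normal := Subgroup.normalizer_eq_top_iff.mp hYnorm
  have hYps : IsPSolvable q ↥Y := by
    haveI : (K.subgroupOf Y).Normal := hKn.subgroupOf Y
    apply ss_isPSolvable q (K.subgroupOf Y)
    · exact Group.isSolvable_of_isSolvable_injective
        (f := (Subgroup.subgroupOfEquivOfLe hKY).toMonoidHom)
        (Subgroup.subgroupOfEquivOfLe hKY).injective
    · show (K.relIndex Y).Coprime q
      rw [hYdef, Subgroup.relIndex_sup_left]
      exact Nat.Coprime.coprime_dvd_left (Subgroup.relIndex_dvd_card K O) hOc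
  have hsig : D ⊓ Y ≤ (pPrimeCore q ↥Y).map Y.subtype := by
    apply ss_signalizer Y hYps z hz (D ⊓ Y) inf_le_right
    · exact fun hd => hDnd (hd.trans (Subgroup.card_dvd_of_le inf_le_left))
    · intro d hd
      have h1 := hDCz (Subgroup.mem_inf.mp hd).1
      rw [hCz] at h1
      exact Subgroup.mem_centralizer_iff.mp (Subgroup.mem_inf.mp h1).2 z rfl
    · intro g hg
      obtain ⟨hgY, hgz⟩ := Subgroup.mem_inf.mp hg
      apply ss_normalizer_inf
      refine Subgroup.mem_inf.mpr ⟨hCzD (Subgroup.le_normalizer ?_), by rw [hYnorm]; trivial⟩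
      rw [hCz]
      exact Subgroup.mem_inf.mpr ⟨hYH hgY, hgz⟩
  have hWH : (pPrimeCore q ↥Y).map Y.subtype ≤ (pPrimeCore q ↥H).map H.subtype := by
    haveI hWn : ((pPrimeCore q ↥Y).map Y.subtype).Normal :=
      map_subtype_normal_of_char Y _ (fun φ => pPrimeCore_char q φ)
    have hWle : (pPrimeCore q ↥Y).map Y.subtype ≤ H := (Subgroup.map_subtype_le _).trans hYH
    have hWc : (Nat.card ((pPrimeCore q ↥Y).map Y.subtype)).Coprime q := by
      rw [Subgroup.card_map_of_injective Y.subtype_injective]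
      exact pPrimeCore_coprime q ↥Y
    have h1 : ((pPrimeCore q ↥Y).map Y.subtype).subgroupOf H ≤ pPrimeCore q ↥H := by
      apply le_pPrimeCore q (hWn.subgroupOf H)
      rw [Nat.card_congr (Subgroup.subgroupOfEquivOfLe hWle).toEquiv]
      exact hWc
    intro x hx
    exact ⟨⟨x, hWle hx⟩, h1 (by rw [Subgroup.mem_subgroupOf]; exact hx), rfl⟩
  apply sup_le
  · exact (le_inf inf_le_left (inf_le_right.trans hOY)).trans (hsig.trans hWH)
  · have h1 : ⁅D, (P : Subgroup G)⁆ ≤ D := Subgroup.le_normalizer_iff_commutator_le_left.mp hPD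
    have h2 : ⁅D, (P : Subgroup G)⁆ ≤ Y :=
      (Subgroup.commutator_mono (hDCz.trans hCzH) le_rfl).trans (by rw [← hK]; exact hKY)
    exact (le_inf h1 h2).trans (hsig.trans hWH)

end Cfsg.Agent.Helper10
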