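import Mathlib
import Cfsg.Agent.Helper10.SolvSig
import Cfsg.Agent.Helper21.PExp
import Cfsg.Agent.S3734

/-!
# Subgroups generated by two conjugates in `p`-soluble groups (helper10)

`tc_main`: statement S3754 (Kurzweil–Stellmacher): `M` `p`-soluble, `A` a `p`-subgroup with
`Φ(A) ≤ O_p(M)`, `A ≰ O_p(M)`; then there is `x ∈ O_{p,p'}(M)` with `L = ⟨A, A^x⟩` such that
`x ∈ O^p(L) ≤ O_{p,p'}(M)`, `[O^p(L), A] = O^p(L)`, `|A : A ∩ O_p(L)| = p`,
`[A ∩ O_p(L), L] ≤ O_p(M)`.
-/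

set_option autoImplicit false
open Cfsg
open scoped commutatorElement Pointwise

namespace Cfsg.Agent.Helper10

universe u

/-- In a finite `p`-group, `p`-th powers and commutators lie in the Frattini subgroup. -/
theorem tc_frattini {P : Type*} [Group P] [Finite P] {p : ℕ} [hp : Fact p.Prime]
    (hP : IsPGroup p P) :
    (∀ x : P, x ^ p ∈ frattini P) ∧ (∀ x y : P, x * y * x⁻¹ * y⁻¹ ∈ frattini P) := by
  have key : ∀ K : Subgroup P, IsCoatom K →
      (∀ x : P, x ^ p ∈ K) ∧ (∀ x y : P, x * y * x⁻¹ * y⁻¹ ∈ K) := by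
    intro K hK
    haveI : Group.IsNilpotent P := hP.isNilpotent
    haveI hKn : K.Normal :=
      Subgroup.NormalizerCondition.normal_of_coatom K Group.normalizerCondition_of_isNilpotent hK
    have hidx : K.index = p := by
      obtain ⟨k, hk⟩ := IsPGroup.iff_card.mp (hP.to_subgroup K)
      obtain ⟨n, hn⟩ := IsPGroup.iff_card.mp hP
      have hkn : k < n := by
        by_contra hc
        have h1 : Nat.card P ≤ Nat.card K := by
          rw [hk, hn]; exact Nat.pow_le_pow_right hp.out.pos (not_lt.mp hc)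
        exact hK.1 (Subgroup.eq_top_of_card_eq K
          (le_antisymm (Subgroup.card_le_card_group K) h1))
      have hdvd : p ^ (k + 1) ∣ Nat.card P := by rw [hn]; exact pow_dvd_pow p hkn
      obtain ⟨K', hK', hKK'⟩ := Sylow.exists_subgroup_card_pow_succ hdvd hk
      have hlt : K < K' := by
        refine lt_of_le_of_ne hKK' ?_
        intro heq
        rw [heq, hK'] at hk
        have := Nat.pow_right_injective hp.out.two_le hk
        omega
      have hKt : K' = ⊤ := hK.2 K' hlt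
      have h1 := K.card_mul_index
      rw [hKt, Subgroup.card_top] at hK'
      rw [hk, hK', pow_succ] at h1
      exact Nat.eq_of_mul_eq_mul_left (pow_pos hp.out.pos k) h1
    have hcard : Nat.card (P ⧸ K) = p := by rw [← Subgroup.index_eq_card]; exact hidx
    constructor
    · intro x
      rw [← QuotientGroup.eq_one_iff]
      have := pow_card_eq_one' (G := P ⧸ K) (x := (x : P ⧸ K))
      rw [hcard] at this
      exact this
    · intro x y
      haveI := isCyclic_of_prime_card hcard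
      obtain ⟨g, hg⟩ := IsCyclic.exists_generator (α := P ⧸ K)
      rw [← QuotientGroup.eq_one_iff]
      obtain ⟨i, hi⟩ := Subgroup.mem_zpowers_iff.mp (hg (x : P ⧸ K))
      obtain ⟨j, hj⟩ := Subgroup.mem_zpowers_iff.mp (hg (y : P ⧸ K))
      show ((x : P ⧸ K) * (y : P ⧸ K) * (x : P ⧸ K)⁻¹ * (y : P ⧸ K)⁻¹) = 1
      rw [← hi, ← hj, mul_inv_eq_one, mul_inv_eq_iff_eq_mul, ← zpow_add, ← zpow_add, add_comm]
  constructor
  · intro x
    unfold frattini Order.radical
    simp only [Subgroup.mem_iInf]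
    intro M hM
    exact (key M hM).1 x
  · intro x y
    unfold frattini Order.radical
    simp only [Subgroup.mem_iInf]
    intro M hM
    exact (key M hM).2 x y

/-- `P` a `p`-group normalizing `N`: the `p'`-elements of `N P` lie in `N`. -/
theorem tc_pprime_mem {G : Type*} [Group G] {p : ℕ} [Fact p.Prime]
    (N P : Subgroup G) (hP : IsPGroup p P) (hPN : P ≤ Subgroup.normalizer (N : Set G)) {y : G}
    (hy : y ∈ N ⊔ P) (hyo : (orderOf y).Coprime p) : y ∈ N := by
  obtain ⟨n, hn, b, hb, rfl⟩ := mem_sup_of_le_normalizer hPN hy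
  have hpow : ∀ j : ℕ, ∃ m ∈ N, (n * b) ^ j = m * b ^ j := by
    intro j
    induction j with
    | zero => exact ⟨1, N.one_mem, by simp⟩
    | succ j ih =>
      obtain ⟨m, hm, he⟩ := ih
      refine ⟨n * (b * m * b⁻¹),
        N.mul_mem hn ((Subgroup.mem_normalizer_iff.mp (hPN hb) m).mp hm), ?_⟩
      rw [pow_succ', he, pow_succ']
      group
  obtain ⟨k, hk⟩ := hP ⟨b, hb⟩
  have hbk : b ^ p ^ k = 1 := by
    have := congrArg Subtype.val hk
    simpa using this
  obtain ⟨m, hm, he⟩ := hpow (p ^ k)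
  rw [hbk, mul_one] at he
  have hc : (orderOf (n * b)).Coprime (p ^ k) := Nat.Coprime.pow_right k hyo
  have h1 : (n * b) ^ (p ^ k) ∈ N := by rw [he]; exact hm
  obtain ⟨c, hc1, hc0⟩ := Nat.chineseRemainder hc 1 0
  have h2 : (n * b) ^ c = n * b := by
    have := (pow_eq_pow_iff_modEq (x := n * b) (n := c) (m := 1)).mpr hc1
    rwa [pow_one] at this
  obtain ⟨d, hd⟩ := (Nat.modEq_zero_iff_dvd.mp hc0)
  rw [← h2, hd, pow_mul]
  exact N.pow_mem h1 d

theorem tc_le_normalizer_closure {G : Type*} [Group G] (B : Subgroup G) (S : Set G)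
    (h : ∀ b ∈ B, ∀ s ∈ S, b * s * b⁻¹ ∈ S) :
    B ≤ Subgroup.normalizer ((Subgroup.closure S : Subgroup G) : Set G) := by
  have key : ∀ b ∈ B, ∀ y ∈ Subgroup.closure S, b * y * b⁻¹ ∈ Subgroup.closure S := by
    intro b hb y hy
    induction hy using Subgroup.closure_induction with
    | mem s hs => exact Subgroup.subset_closure (h b hb s hs)
    | one => simp
    | mul u v _ _ hu hv =>
      have e : b * (u * v) * b⁻¹ = (b * u * b⁻¹) * (b * v * b⁻¹) := by group
      rw [e]; exact Subgroup.mul_mem _ hu hv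
    | inv u _ hu =>
      have e : b * u⁻¹ * b⁻¹ = (b * u * b⁻¹)⁻¹ := by group
      rw [e]; exact Subgroup.inv_mem _ hu
  intro b hb
  rw [Subgroup.mem_normalizer_iff]
  intro y
  constructor
  · exact key b hb y
  · intro hy
    have := key b⁻¹ (B.inv_mem hb) _ hy
    have e : b⁻¹ * (b * y * b⁻¹) * b⁻¹⁻¹ = y := by group
    rwa [e] at this

/-- The quotient part: an elementary abelian `p`-group `A` acting nontrivially on a normal
`p'`-subgroup `K`. -/
theorem tc_quot {X : Type*} [Group X] [Finite X] {p : ℕ} [hp : Fact p.Prime] (A K : Subgroup X)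
    (hAab : ∀ u ∈ A, ∀ v ∈ A, u * v = v * u) (hAexp : ∀ u ∈ A, u ^ p = 1)
    [hKn : K.Normal] (hKc : (Nat.card K).Coprime p)
    (hne : ¬ K ≤ Subgroup.centralizer (A : Set X)) :
    ∃ (B : Subgroup X) (a : X) (K₀ : Subgroup X) (x : X), B ≤ A ∧ a ∈ A ∧
      B ⊔ Subgroup.zpowers a = A ∧ K₀ ≤ K ∧ K₀ ≤ Subgroup.centralizer (B : Set X) ∧
      a ∈ Subgroup.normalizer (K₀ : Set X) ∧ ¬ K₀ ≤ Subgroup.centralizer ({a} : Set X) ∧
      x ∈ K₀ ∧ K₀ ≤ Subgroup.zpowers a ⊔ Subgroup.zpowers (x * a * x⁻¹) := by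
  classical
  have hAcomm : IsMulCommutative A := ⟨⟨fun u v => Subtype.ext (hAab u u.2 v v.2)⟩⟩
  have hAp : IsPGroup p A := fun u => ⟨1, by rw [pow_one]; exact Subtype.ext (hAexp u u.2)⟩
  have hAK : A ≤ Subgroup.normalizer (K : Set X) := by
    rw [Subgroup.normalizer_eq_top]; exact le_top
  have hcop : (Nat.card A).Coprime (Nat.card K) := by
    obtain ⟨k, hk⟩ := IsPGroup.iff_card.mp hAp
    rw [hk]; exact Nat.Coprime.pow_left k hKc.symm
  have hgen := (Cfsg.Agent.S3734.result A K hAcomm hAK hcop).1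
  have hex : ∃ B ∈ {B : Subgroup X | B ≤ A ∧ ∃ a ∈ A, B ⊔ Subgroup.zpowers a = A},
      ¬ K ⊓ Subgroup.centralizer (B : Set X) ≤ Subgroup.centralizer (A : Set X) := by
    by_contra hcon
    apply hne
    rw [← hgen]
    apply iSup₂_le
    intro B hB
    by_contra h
    exact hcon ⟨B, hB, h⟩
  obtain ⟨B, ⟨hBA, a, haA, hBa⟩, hB⟩ := hex
  have haK₁ : ¬ K ⊓ Subgroup.centralizer (B : Set X) ≤ Subgroup.centralizer ({a} : Set X) := by
    intro h
    apply hB
    intro k hk
    have h1 : B ⊔ Subgroup.zpowers a ≤ Subgroup.centralizer ({k} : Set X) := by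
      apply sup_le
      · intro b hb
        rw [Subgroup.mem_centralizer_iff]
        intro g hg
        rw [Set.mem_singleton_iff] at hg
        subst hg
        exact (Subgroup.mem_centralizer_iff.mp (Subgroup.mem_inf.mp hk).2 b hb).symm
      · rw [Subgroup.zpowers_le, Subgroup.mem_centralizer_iff]
        intro g hg
        rw [Set.mem_singleton_iff] at hg
        subst hg
        exact (Subgroup.mem_centralizer_iff.mp (h hk) a rfl).symm
    rw [hBa] at h1
    rw [Subgroup.mem_centralizer_iff]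
    intro u hu
    exact (Subgroup.mem_centralizer_iff.mp (h1 hu) k rfl).symm
  have haN₁ : a ∈ Subgroup.normalizer
      ((K ⊓ Subgroup.centralizer (B : Set X) : Subgroup X) : Set X) := by
    apply ss_normalizer_inf
    refine Subgroup.mem_inf.mpr ⟨by rw [Subgroup.normalizer_eq_top]; trivial,
      Subgroup.le_normalizer ?_⟩
    rw [Subgroup.mem_centralizer_iff]
    intro b hb
    exact hAab b (hBA hb) a haA
  obtain ⟨K₀, hK₀le, hK₀min⟩ := Finite.exists_le_minimal
    (p := fun U : Subgroup X => U ≤ K ⊓ Subgroup.centralizer (B : Set X) ∧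
      a ∈ Subgroup.normalizer (U : Set X) ∧ ¬ U ≤ Subgroup.centralizer ({a} : Set X))
    (a := K ⊓ Subgroup.centralizer (B : Set X)) ⟨le_rfl, haN₁, haK₁⟩
  obtain ⟨⟨hK₀1, hK₀N, hK₀a⟩, hmin⟩ := hK₀min
  have hap : a ^ p = 1 := hAexp a haA
  have hK₀ord : ∀ k ∈ K₀, (orderOf k).Coprime p := fun k hk =>
    Nat.Coprime.coprime_dvd_left (K.orderOf_dvd_natCard (Subgroup.mem_inf.mp (hK₀1 hk)).1) hKc
  have hx : ∃ x ∈ K₀, K₀ ≤ Subgroup.zpowers a ⊔ Subgroup.zpowers (x * a * x⁻¹) := by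
    by_contra hcon
    apply hK₀a
    intro x hx
    have hnot : ¬ K₀ ≤ Subgroup.zpowers a ⊔ Subgroup.zpowers (x * a * x⁻¹) :=
      fun h => hcon ⟨x, hx, h⟩
    have hKx : K₀ ⊓ (Subgroup.zpowers a ⊔ Subgroup.zpowers (x * a * x⁻¹)) ≤
        Subgroup.centralizer ({a} : Set X) := by
      by_contra hne'
      have h1 : a ∈ Subgroup.normalizer
          ((K₀ ⊓ (Subgroup.zpowers a ⊔ Subgroup.zpowers (x * a * x⁻¹)) : Subgroup X) :
            Set X) := by
        apply ss_normalizer_inf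
        exact Subgroup.mem_inf.mpr ⟨hK₀N,
          Subgroup.le_normalizer (Subgroup.mem_sup_left (Subgroup.mem_zpowers a))⟩
      have h2 := hmin ⟨inf_le_left.trans hK₀1, h1, hne'⟩ inf_le_left
      exact hnot (h2.trans inf_le_right)
    have hc1 : x * a * x⁻¹ * a⁻¹ ∈ K₀ := by
      have h3 : a * x⁻¹ * a⁻¹ ∈ K₀ :=
        (Subgroup.mem_normalizer_iff.mp hK₀N x⁻¹).mp (K₀.inv_mem hx)
      have e : x * a * x⁻¹ * a⁻¹ = x * (a * x⁻¹ * a⁻¹) := by group
      rw [e]; exact K₀.mul_mem hx h3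
    have hc2 : x * a * x⁻¹ * a⁻¹ ∈ Subgroup.zpowers a ⊔ Subgroup.zpowers (x * a * x⁻¹) :=
      Subgroup.mul_mem _ (Subgroup.mem_sup_right (Subgroup.mem_zpowers _))
        (Subgroup.inv_mem _ (Subgroup.mem_sup_left (Subgroup.mem_zpowers a)))
    have hc3 : x * a * x⁻¹ * a⁻¹ ∈ Subgroup.centralizer ({a} : Set X) :=
      hKx (Subgroup.mem_inf.mpr ⟨hc1, hc2⟩)
    have hca : Commute (x * a * x⁻¹ * a⁻¹) a :=
      (Subgroup.mem_centralizer_iff.mp hc3 a rfl).symm
    have hcp : (x * a * x⁻¹ * a⁻¹) ^ p = 1 := by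
      have h4 : (x * a * x⁻¹) ^ p = (x * a * x⁻¹ * a⁻¹) ^ p * a ^ p := by
        rw [← hca.mul_pow]
        congr 1
        group
      rw [hap, mul_one, conj_pow, hap] at h4
      rw [← h4]
      group
    have hc0 : x * a * x⁻¹ * a⁻¹ = 1 := by
      have h5 : orderOf (x * a * x⁻¹ * a⁻¹) ∣ p := orderOf_dvd_of_pow_eq_one hcp
      have h6 := Nat.Coprime.eq_one_of_dvd (hK₀ord _ hc1) h5
      exact orderOf_eq_one_iff.mp h6
    rw [Subgroup.mem_centralizer_iff]
    intro g hg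
    rw [Set.mem_singleton_iff] at hg
    subst hg
    calc g * x = (x * g * x⁻¹ * g⁻¹)⁻¹ * (x * g) := by group
      _ = x * g := by rw [hc0, inv_one, one_mul]
  obtain ⟨x, hxK, hxL⟩ := hx
  exact ⟨B, a, K₀, x, hBA, haA, hBa, hK₀1.trans inf_le_left, hK₀1.trans inf_le_right, hK₀N,
    hK₀a, hxK, hxL⟩

/-- Lifting a `p'`-element `x̄ ∈ ⟨Ā, Ā^x̄⟩` to a `p'`-element `x ∈ ⟨A, A^x⟩`. -/
theorem tc_lift {M X : Type*} [Group M] [Finite M] [Group X] {p : ℕ} [hp : Fact p.Prime]
    (π : M →* X) (A : Subgroup M) (xb : X) (hxo : (orderOf xb).Coprime p)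
    (hxb : xb ∈ A.map π ⊔ (A.map π).map (MulAut.conj xb).toMonoidHom)
    (hsurj : Function.Surjective π) :
    ∃ x : M, π x = xb ∧ (orderOf x).Coprime p ∧
      x ∈ A ⊔ A.map (MulAut.conj x).toMonoidHom := by
  classical
  obtain ⟨y₀, hy₀⟩ := hsurj xb
  obtain ⟨y, hy, hymin⟩ := Set.exists_min_image {y : M | π y = xb}
    (fun y => Nat.card (A ⊔ A.map (MulAut.conj y).toMonoidHom : Subgroup M))
    (Set.toFinite _) ⟨y₀, hy₀⟩
  have hy' : π y = xb := hy
  have hmap : (A ⊔ A.map (MulAut.conj y).toMonoidHom).map π =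
      A.map π ⊔ (A.map π).map (MulAut.conj xb).toMonoidHom := by
    rw [Subgroup.map_sup, Subgroup.map_map, Subgroup.map_map]
    congr 2
    ext m
    simp [MulAut.conj_apply, hy']
  obtain ⟨l, hl, hlx⟩ : ∃ l ∈ A ⊔ A.map (MulAut.conj y).toMonoidHom, π l = xb := by
    rw [← hmap] at hxb
    exact hxb
  obtain ⟨e, m, hm, hcard⟩ := Nat.exists_eq_pow_mul_and_not_dvd
    (Nat.card_pos (α := M)).ne' p hp.out.ne_one
  have hcop : (orderOf xb).Coprime (p ^ e) := Nat.Coprime.pow_right e hxo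
  obtain ⟨c, hc1, hc0⟩ := Nat.chineseRemainder hcop 1 0
  obtain ⟨d, hd⟩ := Nat.modEq_zero_iff_dvd.mp hc0
  have hπlc : π (l ^ c) = xb := by
    rw [map_pow, hlx]
    have := (pow_eq_pow_iff_modEq (x := xb) (n := c) (m := 1)).mpr hc1
    rwa [pow_one] at this
  refine ⟨l ^ c, hπlc, ?_, ?_⟩
  · have h1 : (l ^ c) ^ m = 1 := by
      rw [← pow_mul, hd, show p ^ e * d * m = Nat.card M * d by rw [hcard]; ring, pow_mul,
        pow_card_eq_one', one_pow]
    have h2 : orderOf (l ^ c) ∣ m := orderOf_dvd_of_pow_eq_one h1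
    exact Nat.Coprime.coprime_dvd_left h2 ((Nat.Prime.coprime_iff_not_dvd hp.out).mpr hm).symm
  · have hlc : l ^ c ∈ A ⊔ A.map (MulAut.conj y).toMonoidHom := Subgroup.pow_mem _ hl c
    have hle : A ⊔ A.map (MulAut.conj (l ^ c)).toMonoidHom ≤
        A ⊔ A.map (MulAut.conj y).toMonoidHom := by
      apply sup_le le_sup_left
      rintro _ ⟨a', ha', rfl⟩
      show l ^ c * a' * (l ^ c)⁻¹ ∈ _
      exact Subgroup.mul_mem _ (Subgroup.mul_mem _ hlc (Subgroup.mem_sup_left ha'))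
        (Subgroup.inv_mem _ hlc)
    have hge := hymin (l ^ c) hπlc
    have heq := Subgroup.eq_of_le_of_card_ge hle hge
    rw [heq]; exact hlc

/-- Statement S3754. -/
theorem tc_main {M : Type u} [Group M] [Finite M] {p : ℕ} [hp : Fact p.Prime]
    (hM : IsPSolvable p M) (A : Subgroup M) (hA : IsPGroup p A)
    (hΦ : (frattini ↥A).map A.subtype ≤ pCore p M) (hnot : ¬ A ≤ pCore p M)
    [hQn : (pCore p M).Normal] :
    ∃ x ∈ (pPrimeCore p (M ⧸ pCore p M)).comap (QuotientGroup.mk' (pCore p M)),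
      x ∈ (pResidual p ↥(A ⊔ A.map (MulAut.conj x).toMonoidHom)).map
        (A ⊔ A.map (MulAut.conj x).toMonoidHom).subtype ∧
      (pResidual p ↥(A ⊔ A.map (MulAut.conj x).toMonoidHom)).map
        (A ⊔ A.map (MulAut.conj x).toMonoidHom).subtype ≤
          (pPrimeCore p (M ⧸ pCore p M)).comap (QuotientGroup.mk' (pCore p M)) ∧
      ⁅(pResidual p ↥(A ⊔ A.map (MulAut.conj x).toMonoidHom)).map
        (A ⊔ A.map (MulAut.conj x).toMonoidHom).subtype, A⁆ =
        (pResidual p ↥(A ⊔ A.map (MulAut.conj x).toMonoidHom)).map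
          (A ⊔ A.map (MulAut.conj x).toMonoidHom).subtype ∧
      (A ⊓ (pCore p ↥(A ⊔ A.map (MulAut.conj x).toMonoidHom)).map
        (A ⊔ A.map (MulAut.conj x).toMonoidHom).subtype).relIndex A = p ∧
      ⁅A ⊓ (pCore p ↥(A ⊔ A.map (MulAut.conj x).toMonoidHom)).map
        (A ⊔ A.map (MulAut.conj x).toMonoidHom).subtype,
        A ⊔ A.map (MulAut.conj x).toMonoidHom⁆ ≤ pCore p M := by
  classical
  obtain ⟨π, hπ⟩ : ∃ π : M →* M ⧸ pCore p M, π = QuotientGroup.mk' (pCore p M) := ⟨_, rfl⟩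
  rw [← hπ]
  have hπs : Function.Surjective π := by rw [hπ]; exact QuotientGroup.mk'_surjective _
  have hπ1 : ∀ g : M, π g = 1 ↔ g ∈ pCore p M := by
    intro g; rw [hπ]; exact QuotientGroup.eq_one_iff g
  have hQp : IsPGroup p (pCore p M) := Cfsg.Agent.S0010.pCore_isPGroup p
  have hX : IsPSolvable p (M ⧸ pCore p M) := Cfsg.Agent.Helper13.isPSolvable_quotient hM _
  have hO : pCore p (M ⧸ pCore p M) = ⊥ := Cfsg.Agent.Helper11.pCore_quotient_pCore p
  have hcent := Cfsg.Agent.Helper21.centralizer_pPrimeCore_le hX hO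
  obtain ⟨K, hK⟩ : ∃ K : Subgroup (M ⧸ pCore p M), K = pPrimeCore p (M ⧸ pCore p M) :=
    ⟨_, rfl⟩
  rw [← hK] at hcent ⊢
  haveI hKn : K.Normal := by rw [hK]; exact pPrimeCore_normal p _
  have hKc : (Nat.card K).Coprime p := by rw [hK]; exact pPrimeCore_coprime p _
  obtain ⟨Ab, hAb⟩ : ∃ Ab : Subgroup (M ⧸ pCore p M), Ab = A.map π := ⟨_, rfl⟩
  have hfr := tc_frattini hA
  have hAbexp : ∀ u ∈ Ab, u ^ p = 1 := by
    rw [hAb]
    rintro _ ⟨a', ha', rfl⟩
    rw [← map_pow, hπ1]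
    apply hΦ
    exact ⟨⟨a', ha'⟩ ^ p, hfr.1 ⟨a', ha'⟩, rfl⟩
  have hAbab : ∀ u ∈ Ab, ∀ v ∈ Ab, u * v = v * u := by
    rw [hAb]
    rintro _ ⟨a', ha', rfl⟩ _ ⟨b', hb', rfl⟩
    have h1 : a' * b' * a'⁻¹ * b'⁻¹ ∈ pCore p M :=
      hΦ ⟨⟨a', ha'⟩ * ⟨b', hb'⟩ * ⟨a', ha'⟩⁻¹ * ⟨b', hb'⟩⁻¹, hfr.2 _ _, rfl⟩
    have h2 := (hπ1 _).mpr h1
    rw [map_mul, map_mul, map_mul, map_inv, map_inv] at h2
    have h3 := mul_inv_eq_one.mp h2
    exact mul_inv_eq_iff_eq_mul.mp h3
  have hAbp : IsPGroup p Ab := by rw [hAb]; exact hA.map π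
  have hne : ¬ K ≤ Subgroup.centralizer (Ab : Set (M ⧸ pCore p M)) := by
    intro h
    have h1 : Ab ≤ K := by
      intro u hu
      apply hcent
      rw [Subgroup.mem_centralizer_iff]
      intro k hk
      exact (Subgroup.mem_centralizer_iff.mp (h hk) u hu).symm
    apply hnot
    intro a' ha'
    rw [← hπ1]
    have hu : π a' ∈ Ab := by rw [hAb]; exact ⟨a', ha', rfl⟩
    have h2 : π a' ∈ Ab ⊓ K := Subgroup.mem_inf.mpr ⟨hu, h1 hu⟩
    rw [inf_eq_bot_of_pGroup_coprime hAbp (coprime_of_card_coprime K hKc),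
      Subgroup.mem_bot] at h2
    exact h2
  obtain ⟨B, a, K₀, xb, hBA, haA, hBa, hK₀K, hK₀B, haN, hK₀a, hxbK, hK₀L⟩ :=
    tc_quot Ab K hAbab hAbexp hKc hne
  have hK₀ord : ∀ k ∈ K₀, (orderOf k).Coprime p :=
    fun k hk => coprime_of_card_coprime K hKc k (hK₀K hk)
  have haNB : Subgroup.zpowers a ≤ Subgroup.normalizer (B : Set (M ⧸ pCore p M)) := by
    rw [Subgroup.zpowers_le]
    apply Subgroup.centralizer_le_normalizer
    rw [Subgroup.mem_centralizer_iff]
    intro b hb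
    exact hAbab b (hBA hb) a haA
  have hAbN : Ab ≤ Subgroup.normalizer (K₀ : Set (M ⧸ pCore p M)) := by
    rw [← hBa]
    apply sup_le
    · intro b hb
      apply Subgroup.centralizer_le_normalizer
      rw [Subgroup.mem_centralizer_iff]
      intro k hk
      exact (Subgroup.mem_centralizer_iff.mp (hK₀B hk) b hb).symm
    · rw [Subgroup.zpowers_le]; exact haN
  obtain ⟨Lb, hLb⟩ : ∃ Lb : Subgroup (M ⧸ pCore p M),
    Lb = Ab ⊔ Ab.map (MulAut.conj xb).toMonoidHom := ⟨_, rfl⟩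
  have hK₀Lb : K₀ ≤ Lb := by
    refine hK₀L.trans ?_
    rw [hLb]
    apply sup_le_sup
    · rw [Subgroup.zpowers_le]; exact haA
    · rw [Subgroup.zpowers_le]; exact ⟨a, haA, rfl⟩
  have hxbLb : xb ∈ Lb := hK₀Lb hxbK
  have hLbKA : Lb ≤ K₀ ⊔ Ab := by
    rw [hLb]
    apply sup_le le_sup_right
    rintro _ ⟨u, hu, rfl⟩
    show xb * u * xb⁻¹ ∈ _
    exact Subgroup.mul_mem _ (Subgroup.mul_mem _ (Subgroup.mem_sup_left hxbK)
      (Subgroup.mem_sup_right hu)) (Subgroup.inv_mem _ (Subgroup.mem_sup_left hxbK))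
  have hLbB : Lb ≤ Subgroup.centralizer (B : Set (M ⧸ pCore p M)) := by
    rw [hLb]
    apply sup_le
    · intro u hu
      rw [Subgroup.mem_centralizer_iff]
      intro b hb
      exact hAbab b (hBA hb) u hu
    · rintro _ ⟨u, hu, rfl⟩
      have hxbC : xb ∈ Subgroup.centralizer (B : Set (M ⧸ pCore p M)) := hK₀B hxbK
      have huC : u ∈ Subgroup.centralizer (B : Set (M ⧸ pCore p M)) := by
        rw [Subgroup.mem_centralizer_iff]
        intro b hb
        exact hAbab b (hBA hb) u hu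
      show xb * u * xb⁻¹ ∈ _
      exact Subgroup.mul_mem _ (Subgroup.mul_mem _ hxbC huC) (Subgroup.inv_mem _ hxbC)
  obtain ⟨x, hπx, hxo, hxL⟩ := tc_lift π A xb (hK₀ord xb hxbK)
    (by rw [← hAb, ← hLb]; exact hxbLb) hπs
  obtain ⟨L, hL⟩ : ∃ L : Subgroup M, L = A ⊔ A.map (MulAut.conj x).toMonoidHom := ⟨_, rfl⟩
  have hLmap : L.map π = Lb := by
    rw [hL, hLb, hAb, Subgroup.map_sup, Subgroup.map_map, Subgroup.map_map]
    congr 2
    ext m
    simp [MulAut.conj_apply, hπx]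
  refine ⟨x, ?_, ?_⟩
  · show π x ∈ K
    rw [hπx]; exact hK₀K hxbK
  rw [← hL]
  obtain ⟨R, hR⟩ : ∃ R : Subgroup M, R = (pResidual p ↥L).map L.subtype := ⟨_, rfl⟩
  obtain ⟨OL, hOL⟩ : ∃ OL : Subgroup M, OL = (pCore p ↥L).map L.subtype := ⟨_, rfl⟩
  rw [← hR, ← hOL]
  have hAL : A ≤ L := by rw [hL]; exact le_sup_left
  have hxLL : x ∈ L := by rw [hL]; exact hxL
  have hpp : ∀ g ∈ L, (orderOf g).Coprime p → π g ∈ K₀ := by
    intro g hg hgo
    have h1 : π g ∈ Lb := by rw [← hLmap]; exact ⟨g, hg, rfl⟩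
    have h2 : (orderOf (π g)).Coprime p :=
      Nat.Coprime.coprime_dvd_left (orderOf_map_dvd π g) hgo
    exact tc_pprime_mem K₀ Ab hAbp hAbN (hLbKA h1) h2
  have hRcl : R = Subgroup.closure {g : M | g ∈ L ∧ (orderOf g).Coprime p} := by
    rw [hR]
    unfold pResidual
    rw [MonoidHom.map_closure]
    congr 1
    ext g
    constructor
    · rintro ⟨g', hg', rfl⟩
      refine ⟨g'.2, ?_⟩
      rw [Subgroup.coe_subtype, Subgroup.orderOf_coe]
      exact hg'
    · rintro ⟨hgL, hgo⟩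
      refine ⟨⟨g, hgL⟩, ?_, rfl⟩
      show (orderOf (⟨g, hgL⟩ : ↥L)).Coprime p
      rw [Subgroup.orderOf_mk]
      exact hgo
  have hxR : x ∈ R := by rw [hRcl]; exact Subgroup.subset_closure ⟨hxLL, hxo⟩
  have hRle : ∀ T : Subgroup M, (∀ g ∈ L, (orderOf g).Coprime p → g ∈ T) → R ≤ T := by
    intro T hT
    rw [hRcl, Subgroup.closure_le]
    rintro g ⟨hg, hgo⟩
    exact hT g hg hgo
  have hLR : L ≤ Subgroup.normalizer (R : Set M) := by
    rw [hRcl]
    apply tc_le_normalizer_closure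
    rintro b hb s ⟨hs, hso⟩
    refine ⟨L.mul_mem (L.mul_mem hb hs) (L.inv_mem hb), ?_⟩
    have : orderOf (b * s * b⁻¹) = orderOf s := (MulAut.conj b).orderOf_eq s
    rw [this]; exact hso
  have hii : R ≤ K.comap π := hRle _ (fun g hg hgo => hK₀K (hpp g hg hgo))
  have hiii : ⁅R, A⁆ = R := by
    apply le_antisymm
    · exact Subgroup.le_normalizer_iff_commutator_le_left.mp (hAL.trans hLR)
    · apply hRle
      intro g hg hgo
      have hAN : A ≤ Subgroup.normalizer ((⁅R, A⁆ : Subgroup M) : Set M) :=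
        le_normalizer_commutator_right R A
      have hLle : L ≤ ⁅R, A⁆ ⊔ A := by
        rw [hL]
        apply sup_le le_sup_right
        rintro _ ⟨a', ha', rfl⟩
        show x * a' * x⁻¹ ∈ _
        have e : x * a' * x⁻¹ = ⁅x, a'⁆ * a' := by rw [commutatorElement_def]; group
        rw [e]
        exact Subgroup.mul_mem _
          (Subgroup.mem_sup_left (Subgroup.commutator_mem_commutator hxR ha'))
          (Subgroup.mem_sup_right ha')
      exact tc_pprime_mem ⁅R, A⁆ A hA hAN (hLle hg) hgo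
  have hOLL : OL ≤ L := by rw [hOL]; exact Subgroup.map_subtype_le _
  have hOLp : IsPGroup p OL := by
    rw [hOL]; exact (Cfsg.Agent.S0010.pCore_isPGroup p).map _
  have hLOL : L ≤ Subgroup.normalizer (OL : Set M) := by
    have hn : (pCore p ↥L).Normal := Cfsg.Agent.S0010.pCore_normal p
    have key : ∀ l ∈ L, ∀ y ∈ OL, l * y * l⁻¹ ∈ OL := by
      intro l hl y hy
      rw [hOL] at hy ⊢
      obtain ⟨c, hc, rfl⟩ := hy
      exact ⟨⟨l, hl⟩ * c * ⟨l, hl⟩⁻¹, hn.conj_mem c hc ⟨l, hl⟩, rfl⟩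
    intro l hl
    rw [Subgroup.mem_normalizer_iff]
    intro y
    constructor
    · exact key l hl y
    · intro hy
      have := key l⁻¹ (L.inv_mem hl) _ hy
      have e : l⁻¹ * (l * y * l⁻¹) * l⁻¹⁻¹ = y := by group
      rwa [e] at this
  have haB : a ∉ B := by
    intro h
    apply hK₀a
    intro k hk
    rw [Subgroup.mem_centralizer_iff]
    intro g hg
    rw [Set.mem_singleton_iff] at hg
    subst hg
    exact Subgroup.mem_centralizer_iff.mp (hK₀B hk) g h
  have ha1 : a ≠ 1 := fun h => haB (h ▸ B.one_mem)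
  have hap : a ^ p = 1 := hAbexp a haA
  have hoa : orderOf a = p := orderOf_eq_prime hap ha1
  have hsub : ∀ a' ∈ A ⊓ OL, π a' ∈ B := by
    intro a' ha'
    obtain ⟨ha'A, ha'O⟩ := Subgroup.mem_inf.mp ha'
    by_contra hnB
    have hu : π a' ∈ Ab := by rw [hAb]; exact ⟨a', ha'A, rfl⟩
    have hcK : ∀ k ∈ K₀, π a' * k = k * π a' := by
      intro k hk
      obtain ⟨k', hk'L, rfl⟩ : ∃ k' ∈ L, π k' = k := by
        have : k ∈ L.map π := by rw [hLmap]; exact hK₀Lb hk
        exact this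
      have h1 : a' * k' * a'⁻¹ * k'⁻¹ ∈ OL := by
        have h2 : k' * a'⁻¹ * k'⁻¹ ∈ OL :=
          (Subgroup.mem_normalizer_iff.mp (hLOL hk'L) a'⁻¹).mp (OL.inv_mem ha'O)
        have e : a' * k' * a'⁻¹ * k'⁻¹ = a' * (k' * a'⁻¹ * k'⁻¹) := by group
        rw [e]; exact OL.mul_mem ha'O h2
      have h3 : π (a' * k' * a'⁻¹ * k'⁻¹) ∈ K₀ := by
        rw [map_mul, map_mul, map_mul, map_inv, map_inv]
        exact K₀.mul_mem ((Subgroup.mem_normalizer_iff.mp (hAbN hu) _).mp hk) (K₀.inv_mem hk)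
      have h4 : π (a' * k' * a'⁻¹ * k'⁻¹) ∈ OL.map π ⊓ K₀ :=
        Subgroup.mem_inf.mpr ⟨⟨_, h1, rfl⟩, h3⟩
      rw [inf_eq_bot_of_pGroup_coprime (hOLp.map π) hK₀ord, Subgroup.mem_bot] at h4
      rw [map_mul, map_mul, map_mul, map_inv, map_inv] at h4
      exact mul_inv_eq_iff_eq_mul.mp (mul_inv_eq_one.mp h4)
    rw [← hBa] at hu
    obtain ⟨b, hb, c, hc, he⟩ := mem_sup_of_le_normalizer haNB hu
    have hcB : c ∉ B := fun hcB => hnB (by rw [he]; exact B.mul_mem hb hcB)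
    have hcK' : ∀ k ∈ K₀, c * k = k * c := by
      intro k hk
      have h1 := hcK k hk
      rw [he] at h1
      have hbk : b * k = k * b := Subgroup.mem_centralizer_iff.mp (hK₀B hk) b hb
      calc c * k = b⁻¹ * (b * c * k) := by group
        _ = b⁻¹ * (k * (b * c)) := by rw [h1]
        _ = b⁻¹ * (k * b) * c := by group
        _ = b⁻¹ * (b * k) * c := by rw [hbk]
        _ = k * c := by group
    have hc1 : c ≠ 1 := fun h => hcB (h ▸ B.one_mem)
    have hcp : c ^ p = 1 := by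
      obtain ⟨i, hi⟩ := Subgroup.mem_zpowers_iff.mp hc
      rw [← hi, ← zpow_natCast, ← zpow_mul, mul_comm, zpow_mul, zpow_natCast, hap, one_zpow]
    have hoc : orderOf c = p := orderOf_eq_prime hcp hc1
    have hzeq : Subgroup.zpowers c = Subgroup.zpowers a := by
      apply Subgroup.eq_of_le_of_card_ge
      · rw [Subgroup.zpowers_le]; exact hc
      · rw [Nat.card_zpowers, Nat.card_zpowers, hoc, hoa]
    have hazc : a ∈ Subgroup.zpowers c := by rw [hzeq]; exact Subgroup.mem_zpowers a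
    apply hK₀a
    intro k hk
    rw [Subgroup.mem_centralizer_iff]
    intro g hg
    rw [Set.mem_singleton_iff] at hg
    subst hg
    obtain ⟨j, hj⟩ := Subgroup.mem_zpowers_iff.mp hazc
    rw [← hj]
    exact (Commute.zpow_left (show Commute c k from hcK' k hk) j).eq
  have hBsub : A ⊓ B.comap π ≤ OL := by
    obtain ⟨T, hT⟩ : ∃ T : Subgroup M, T = L ⊓ B.comap π := ⟨_, rfl⟩
    have hTL : T ≤ L := by rw [hT]; exact inf_le_left
    have hTp : IsPGroup p T := by
      have h1 : IsPGroup p (B.comap π) :=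
        IsPGroup.comap_of_ker_isPGroup (hAbp.to_le hBA) π
          (by rw [hπ, QuotientGroup.ker_mk']; exact hQp)
      rw [hT]; exact h1.to_le inf_le_right
    have hTn : (T.subgroupOf L).Normal := by
      rw [Subgroup.normal_subgroupOf_iff_le_normalizer hTL]
      intro l hl
      rw [hT]
      apply ss_normalizer_inf
      refine Subgroup.mem_inf.mpr ⟨Subgroup.le_normalizer hl, ?_⟩
      have hlC : π l ∈ Subgroup.centralizer (B : Set (M ⧸ pCore p M)) :=
        hLbB (by rw [← hLmap]; exact ⟨l, hl, rfl⟩)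
      rw [Subgroup.mem_normalizer_iff]
      intro t
      rw [Subgroup.mem_comap, Subgroup.mem_comap, map_mul, map_mul, map_inv]
      constructor
      · intro ht
        have := Subgroup.mem_centralizer_iff.mp hlC _ ht
        rw [← this, mul_inv_cancel_right]; exact ht
      · intro ht
        have h5 := Subgroup.mem_centralizer_iff.mp hlC _ ht
        have h6 : π t = π l * π t * (π l)⁻¹ := by
          have h7 : π l * π t = π l * (π l * π t * (π l)⁻¹) := by
            rw [← h5]; group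
          exact mul_left_cancel h7
        rw [h6]; exact ht
    have h1 : T.subgroupOf L ≤ pCore p ↥L :=
      Cfsg.Agent.S0010.le_pCore p _ hTn hTp.comap_subtype
    intro g hg
    have hgT : g ∈ T := by
      rw [hT]
      exact Subgroup.mem_inf.mpr ⟨hAL (Subgroup.mem_inf.mp hg).1, (Subgroup.mem_inf.mp hg).2⟩
    rw [hOL]
    exact ⟨⟨g, hTL hgT⟩, h1 (by rw [Subgroup.mem_subgroupOf]; exact hgT), rfl⟩
  have hinf : A ⊓ OL = A ⊓ B.comap π := by
    apply le_antisymm
    · intro g hg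
      exact Subgroup.mem_inf.mpr ⟨(Subgroup.mem_inf.mp hg).1, hsub g hg⟩
    · exact le_inf inf_le_left hBsub
  have hiv : (A ⊓ OL).relIndex A = p := by
    rw [hinf, Subgroup.inf_relIndex_left, Subgroup.relIndex_comap, ← hAb]
    have h1 : Nat.card Ab = Nat.card B * B.relIndex Ab := card_eq_card_mul_relIndex hBA
    have h2 : Nat.card Ab ∣ Nat.card B * p := by
      have := card_sup_dvd_mul_of_le_normalizer haNB
      rwa [hBa, Nat.card_zpowers, hoa] at this
    have h3 : B.relIndex Ab ∣ p := by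
      rw [h1] at h2
      exact Nat.dvd_of_mul_dvd_mul_left Nat.card_pos h2
    rcases (Nat.dvd_prime hp.out).mp h3 with h4 | h4
    · exfalso
      have : Ab ≤ B := Subgroup.relIndex_eq_one.mp h4
      exact haB (this haA)
    · exact h4
  have hv : ⁅A ⊓ OL, L⁆ ≤ pCore p M := by
    rw [Subgroup.commutator_le]
    intro g hg l hl
    rw [← hπ1]
    have h1 : π g ∈ B := hsub g hg
    have h2 : π l ∈ Subgroup.centralizer (B : Set (M ⧸ pCore p M)) :=
      hLbB (by rw [← hLmap]; exact ⟨l, hl, rfl⟩)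
    have h3 := Subgroup.mem_centralizer_iff.mp h2 _ h1
    rw [commutatorElement_def, map_mul, map_mul, map_mul, map_inv, map_inv, h3]
    group
  exact ⟨hxR, hii, hiii, hiv, hv⟩

end Cfsg.Agent.Helper10
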