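import Mathlib
import Cfsg.Agent.Helper17.Large
import Cfsg.Agent.Helper17.YL2
import Cfsg.Agent.Helper27.BurnsideGL
import Cfsg.Agent.Helper10.TwoConj
import Cfsg.Agent.Helper10.SolvSig

set_option autoImplicit false

/-!
# Helper10: lemmas for the local structure theory with a large `p`-subgroup

* `lstConj` : conjugation by an element of the normalizer as an automorphism of the subgroup;
* `lst_coprime_central` : a `p'`-element normalizing a finite `p`-group `A` and centralizing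
  `A / A'` centralizes `A`;
* `lst_pelement_mem_pCore` : if the `p'`-elements of `H` lie in a normal subgroup `Z` with
  `[H, Z] ≤ O_p(H)`, then every `p`-subgroup of `H` lies in `O_p(H)`;
* `lst_comm_closure` : commutator bound passes to the generated subgroup;
* `lst_normalizer_le` : `N_G(I) ≤ M†` for a nontrivial normal `p`-subgroup `I` of `M ∈ 𝔐_G(S)`;
* `lst_main` : S2864.
-/

namespace Cfsg.Agent.Helper10

open Subgroup
open scoped commutatorElement

/-- conjugation by an element of the normalizer of `A`, as an automorphism of `A` -/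
def lstConj {G : Type*} [Group G] (A : Subgroup G) (g : G)
    (hg : g ∈ Subgroup.normalizer (A : Set G)) : MulAut ↥A where
  toFun a := ⟨g * a * g⁻¹, (Subgroup.mem_normalizer_iff.mp hg a).mp a.2⟩
  invFun a := ⟨g⁻¹ * a * g, by
    apply (Subgroup.mem_normalizer_iff.mp hg (g⁻¹ * a * g)).mpr
    have e : g * (g⁻¹ * (a : G) * g) * g⁻¹ = a := by group
    rw [e]; exact a.2⟩
  left_inv a := by
    apply Subtype.ext
    show g⁻¹ * (g * (a : G) * g⁻¹) * g = a
    group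
  right_inv a := by
    apply Subtype.ext
    show g * (g⁻¹ * (a : G) * g) * g⁻¹ = a
    group
  map_mul' a b := by
    apply Subtype.ext
    show g * ((a : G) * b) * g⁻¹ = (g * a * g⁻¹) * (g * b * g⁻¹)
    group

theorem lstConj_pow {G : Type*} [Group G] (A : Subgroup G) (g : G)
    (hg : g ∈ Subgroup.normalizer (A : Set G)) (n : ℕ) (a : ↥A) :
    (((lstConj A g hg) ^ n) a : G) = g ^ n * a * (g ^ n)⁻¹ := by
  induction n generalizing a with
  | zero => simp
  | succ n ih =>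
    rw [pow_succ, MulAut.mul_apply, ih]
    show g ^ n * (g * (a : G) * g⁻¹) * (g ^ n)⁻¹ = g ^ (n + 1) * a * (g ^ (n + 1))⁻¹
    rw [pow_succ]
    group

/-- a `p'`-element normalizing a finite `p`-group `A` and centralizing `A / A'` centralizes `A` -/
theorem lst_coprime_central {G : Type*} [Group G] {p : ℕ} [Fact p.Prime] (A : Subgroup G)
    [Finite A] (hA : IsPGroup p A) (g : G) (hg : g ∈ Subgroup.normalizer (A : Set G))
    (ho : (orderOf g).Coprime p) (h : ∀ a ∈ A, g * a * g⁻¹ * a⁻¹ ∈ ⁅A, A⁆) :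
    ∀ a ∈ A, g * a * g⁻¹ = a := by
  have hcomm : (⁅A, A⁆ : Subgroup G) =
      Subgroup.map A.subtype ⁅(⊤ : Subgroup ↥A), (⊤ : Subgroup ↥A)⁆ := by
    rw [Subgroup.map_commutator, ← MonoidHom.range_eq_map, Subgroup.range_subtype]
  have hAA : (⁅A, A⁆ : Subgroup G) ≤ A := by rw [hcomm]; exact Subgroup.map_subtype_le _
  have hfr : (⁅(⊤ : Subgroup ↥A), ⊤⁆ : Subgroup ↥A) ≤ frattini ↥A := by
    rw [Subgroup.commutator_le]
    intro x _ y _
    rw [commutatorElement_def]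
    exact (tc_frattini hA).2 x y
  have hα : lstConj A g hg = 1 := by
    apply Cfsg.Agent.Helper27.burnside_frattini hA
    · have h1 : (lstConj A g hg) ^ orderOf g = 1 := by
        ext a
        rw [lstConj_pow, pow_orderOf_eq_one]
        simp
      exact Nat.Coprime.coprime_dvd_left (orderOf_dvd_of_pow_eq_one h1) ho
    · intro x
      have h1 := h x x.2
      have h2 : (x : G)⁻¹ * (g * x * g⁻¹ * (x : G)⁻¹) * x ∈ ⁅A, A⁆ := by
        have hn : (⁅A, A⁆ : Subgroup G).subgroupOf A |>.Normal := by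
          exact (Subgroup.normal_subgroupOf_iff_le_normalizer hAA).mpr
            (le_normalizer_commutator Subgroup.le_normalizer Subgroup.le_normalizer)
        have h3 := hn.conj_mem ⟨g * x * g⁻¹ * (x : G)⁻¹, hAA h1⟩
          (Subgroup.mem_subgroupOf.mpr h1) x⁻¹
        rw [Subgroup.mem_subgroupOf] at h3
        simpa using h3
      rw [hcomm] at h2
      obtain ⟨c, hc, hce⟩ := h2
      have hce' : (c : G) = (x : G)⁻¹ * (g * x * g⁻¹ * (x : G)⁻¹) * x := hce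
      have h4 : x⁻¹ * (lstConj A g hg) x = c := by
        apply Subtype.ext
        rw [hce']
        show (x : G)⁻¹ * (g * x * g⁻¹) = (x : G)⁻¹ * (g * x * g⁻¹ * (x : G)⁻¹) * x
        group
      rw [h4]
      exact hfr hc
  intro a ha
  have h1 : (lstConj A g hg) ⟨a, ha⟩ = ⟨a, ha⟩ := by rw [hα]; rfl
  exact congrArg Subtype.val h1

/-- if the `p'`-elements of `H` lie in a normal subgroup `Z` with `[H, Z] ≤ O_p(H)`, then every
`p`-subgroup of `H` lies in `O_p(H)` -/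
theorem lst_pelement_mem_pCore {H : Type*} [Group H] [Finite H] {p : ℕ} [hp : Fact p.Prime]
    (Z : Subgroup H) [hZn : Z.Normal]
    (ha : ∀ h : H, (orderOf h).Coprime p → h ∈ Z)
    (hb : ∀ h : H, ∀ z ∈ Z, h * z * h⁻¹ * z⁻¹ ∈ Cfsg.pCore p H)
    (Y : Subgroup H) (hY : IsPGroup p Y) : Y ≤ Cfsg.pCore p H := by
  obtain ⟨P, hYP⟩ := hY.exists_le_sylow
  have hEP : Cfsg.pCore p H ≤ (P : Subgroup H) := Cfsg.Agent.Helper17.pCore_le_sylow P
  have hZN : Z ≤ Subgroup.normalizer ((P : Subgroup H) : Set H) := by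
    intro z hz
    apply Cfsg.Agent.Helper17.mem_normalizer_of_cj_le
    intro x hx
    obtain ⟨y, hy, rfl⟩ := Cfsg.Agent.Helper17.mem_cj'.mp hx
    have h1 := hb y z hz
    have h2 : z * y * z⁻¹ * y⁻¹ ∈ Cfsg.pCore p H := by
      have := inv_mem h1
      have e : (y * z * y⁻¹ * z⁻¹)⁻¹ = z * y * z⁻¹ * y⁻¹ := by group
      rwa [e] at this
    have h3 := mul_mem (hEP h2) hy
    have e : z * y * z⁻¹ * y⁻¹ * y = z * y * z⁻¹ := by group
    rwa [e] at h3
  have hquot : IsPGroup p (H ⧸ Z) := by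
    intro q
    obtain ⟨h, rfl⟩ := QuotientGroup.mk_surjective q
    have hn : orderOf h ≠ 0 := (orderOf_pos h).ne'
    obtain ⟨e, m, hm, hem⟩ := Nat.exists_eq_pow_mul_and_not_dvd hn p hp.out.ne_one
    refine ⟨e, ?_⟩
    have h1 : (h ^ p ^ e) ^ m = 1 := by
      rw [← pow_mul, ← hem, pow_orderOf_eq_one]
    have h2 : (orderOf (h ^ p ^ e)).Coprime p :=
      Nat.Coprime.coprime_dvd_left (orderOf_dvd_of_pow_eq_one h1)
        ((Nat.Prime.coprime_iff_not_dvd hp.out).mpr hm).symm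
    have h3 := ha _ h2
    rw [← QuotientGroup.mk_pow]
    exact (QuotientGroup.eq_one_iff _).mpr h3
  obtain ⟨n, hn⟩ := IsPGroup.iff_card.mp hquot
  have hZi : Z.index = p ^ n := by rw [Subgroup.index_eq_card]; exact hn
  have h1 : ((P : Subgroup H) ⊔ Z).index ∣ p ^ n := by
    rw [← hZi]; exact Subgroup.index_dvd_of_le le_sup_right
  have h2 : ((P : Subgroup H) ⊔ Z).index ∣ (P : Subgroup H).index :=
    Subgroup.index_dvd_of_le le_sup_left
  have h3 : ¬ p ∣ (P : Subgroup H).index := P.not_dvd_index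
  have h4 : ((P : Subgroup H) ⊔ Z).index = 1 := by
    obtain ⟨j, -, hj⟩ := (Nat.dvd_prime_pow hp.out).mp h1
    rcases Nat.eq_zero_or_pos j with h0 | hpos
    · rw [hj, h0, pow_zero]
    · exfalso
      apply h3
      rw [hj] at h2
      exact (dvd_pow_self p hpos.ne').trans h2
  have h5 : (P : Subgroup H) ⊔ Z = ⊤ := Subgroup.index_eq_one.mp h4
  have h6 : Subgroup.normalizer ((P : Subgroup H) : Set H) = ⊤ := by
    apply top_le_iff.mp
    rw [← h5]
    exact sup_le Subgroup.le_normalizer hZN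
  have h7 : (P : Subgroup H).Normal := Subgroup.normalizer_eq_top_iff.mp h6
  exact hYP.trans (Cfsg.Agent.S0010.le_pCore p _ h7 P.isPGroup')

/-- commutator bound passes to the generated subgroup -/
theorem lst_comm_closure {G : Type*} [Group G] (S : Set G) (L K D : Subgroup G)
    (hSL : S ⊆ L) (hLD : L ≤ Subgroup.normalizer (D : Set G))
    (hgen : ∀ s ∈ S, ∀ k ∈ K, s * k * s⁻¹ * k⁻¹ ∈ D) :
    ∀ g ∈ Subgroup.closure S, ∀ k ∈ K, g * k * g⁻¹ * k⁻¹ ∈ D := by
  have hcl : Subgroup.closure S ≤ L := (Subgroup.closure_le L).mpr hSL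
  intro g hg
  induction hg using Subgroup.closure_induction with
  | mem s hs => exact hgen s hs
  | one => intro k _; simp
  | mul u v hu _ ihu ihv =>
    intro k hk
    have h1 := (Subgroup.mem_normalizer_iff.mp (hLD (hcl hu)) _).mp (ihv k hk)
    have h2 := mul_mem h1 (ihu k hk)
    have e : u * (v * k * v⁻¹ * k⁻¹) * u⁻¹ * (u * k * u⁻¹ * k⁻¹) = u * v * k * (u * v)⁻¹ * k⁻¹ := by
      group
    rwa [e] at h2
  | inv u hu ihu =>
    intro k hk
    have h0 : u⁻¹ ∈ Subgroup.normalizer (D : Set G) := inv_mem (hLD (hcl hu))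
    have h1 := (Subgroup.mem_normalizer_iff.mp h0 _).mp (inv_mem (ihu k hk))
    have e : u⁻¹ * (u * k * u⁻¹ * k⁻¹)⁻¹ * u⁻¹⁻¹ = u⁻¹ * k * u⁻¹⁻¹ * k⁻¹ := by group
    rwa [e] at h1

/-- `N_G(I) ≤ M†` for a nontrivial normal `p`-subgroup `I` of `M ∈ 𝔐_G(S)` (with a large
`p`-subgroup `Q ≤ S ≤ M`). -/
theorem lst_normalizer_le {G : Type*} [Group G] [Finite G] {p : ℕ} [Fact p.Prime]
    (S : Sylow p G) (Q : Subgroup G) (hQp : IsPGroup p ↥Q) (hQ1 : Q ≠ ⊥)
    (hQS : Q ≤ (S : Subgroup G)) (hQ : Cfsg.IsLarge Q) (M : Subgroup G)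
    (hSM : (S : Subgroup G) ≤ M) (hM : Cfsg.IsInFrakM p M) (I : Subgroup G) (hI1 : I ≠ ⊥)
    (hIp : IsPGroup p ↥I) (hIM : M ≤ Subgroup.normalizer ((I : Subgroup G) : Set G)) :
    Subgroup.normalizer ((I : Subgroup G) : Set G) ≤
      M ⊔ Subgroup.centralizer ((Cfsg.largestPReducedOf p M : Subgroup G) : Set G) := by
  obtain ⟨-, -, huniq, -, -, -⟩ := hM
  obtain ⟨N, hN⟩ : ∃ N : Subgroup G, N = Subgroup.normalizer ((I : Subgroup G) : Set G) :=
    ⟨_, rfl⟩
  rw [← hN] at hIM ⊢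
  have hIN : I ≤ N := by rw [hN]; exact Subgroup.le_normalizer
  have hQN : Q ≤ N := hQS.trans (hSM.trans hIM)
  have hI_O : I ≤ Cfsg.pCoreOf p N :=
    Cfsg.Agent.Helper17.le_pCoreOf' hIN hN.le hIp
  have hO : Cfsg.pCore p ↥N ≠ ⊥ := by
    intro h
    apply hI1
    have h1 : Cfsg.pCoreOf p N = ⊥ := by
      unfold Cfsg.pCoreOf; rw [h, Subgroup.map_bot]
    rw [h1] at hI_O
    exact le_bot_iff.mp hI_O
  obtain ⟨hCp, -⟩ := Cfsg.Agent.Helper17.large_local hQp hQ1 hQ hQN hO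
  have hNchar : N ∈ Cfsg.charPSubgroups p G := by
    refine ⟨hO, ?_⟩
    show Subgroup.centralizer ((Cfsg.pCoreOf p N : Subgroup G) : Set G) ≤ Cfsg.pCoreOf p N
    apply Cfsg.Agent.Helper17.le_pCoreOf' _ _ hCp
    · have h1 : Subgroup.centralizer ((Cfsg.pCoreOf p N : Subgroup G) : Set G) ≤
          Subgroup.centralizer ((I : Subgroup G) : Set G) := Subgroup.centralizer_le hI_O
      have h2 : Subgroup.centralizer ((I : Subgroup G) : Set G) ≤ N := by
        rw [hN]; exact Subgroup.centralizer_le_normalizer _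
      exact h1.trans h2
    · exact (Cfsg.Agent.Helper17.le_normalizer_pCoreOf p N).trans
        (Cfsg.Agent.Helper17.normalizer_le_normalizer_centralizer _)
  obtain ⟨X, hNX, hXmax⟩ :=
    Set.Finite.exists_le_maximal (Set.toFinite (Cfsg.charPSubgroups p G)) hNchar
  have hX : X ∈ Cfsg.maxCharPSubgroups p G :=
    ⟨hXmax.prop, fun L hL hXL => le_antisymm (hXmax.le_of_ge hL hXL) hXL⟩
  have hXeq := huniq X hX (hIM.trans hNX)
  rw [← hXeq]; exact hNX

/-- **S2864.** -/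
theorem lst_main {G : Type*} [Group G] [Finite G] {p : ℕ} [Fact p.Prime]
    (S : Sylow p G) (Q : Subgroup G) (hQp : IsPGroup p ↥Q) (hQ1 : Q ≠ ⊥)
    (hQS : Q ≤ (S : Subgroup G)) (hQ : Cfsg.IsLarge Q) (M : Subgroup G)
    (hSM : (S : Subgroup G) ≤ M) (hM : Cfsg.IsInFrakM p M) (I : Subgroup G) (hI1 : I ≠ ⊥)
    (hIp : IsPGroup p ↥I)
    (hIM : I ≤ M ∧ M ≤ Subgroup.normalizer ((I : Subgroup G) : Set G)) (Y : Subgroup G)
    (hY : Y ≤ (Cfsg.pCoreOf p (M ⊔ Subgroup.centralizer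
      (((Cfsg.largestPReducedOf p M) : Subgroup G) : Set G))))
    (L : Subgroup G) (hYL : Y ≤ L) (A : Subgroup G) (hAp : IsPGroup p ↥A)
    (hAL : A ≤ L ∧ L ≤ Subgroup.normalizer ((A : Subgroup G) : Set G)) (hIA : I ≤ A)
    (hAM : A ≤ M) (hc : ⁅Y, A⁆ ≤ ⁅I, A⁆) : Y ≤ (Cfsg.pCoreOf p L) := by
  have hNMd := lst_normalizer_le S Q hQp hQ1 hQS hQ M hSM hM I hI1 hIp hIM.2
  obtain ⟨Md, hMd⟩ : ∃ Md : Subgroup G, Md = M ⊔ Subgroup.centralizer
      (((Cfsg.largestPReducedOf p M) : Subgroup G) : Set G) := ⟨_, rfl⟩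
  rw [← hMd] at hNMd hY
  obtain ⟨hAL1, hAL2⟩ := hAL
  have hYp : IsPGroup p Y := (Cfsg.Agent.Helper17.pCoreOf_isPGroup' p Md).to_le hY
  obtain ⟨K, hK⟩ : ∃ K : Subgroup G, K = L ⊓ Subgroup.centralizer ((A : Subgroup G) : Set G) :=
    ⟨_, rfl⟩
  have hKL : K ≤ L := hK ▸ inf_le_left
  have hKA : K ≤ Subgroup.centralizer ((A : Subgroup G) : Set G) := hK ▸ inf_le_right
  have hKMd : K ≤ Md := by
    have h1 : Subgroup.centralizer ((A : Subgroup G) : Set G) ≤
        Subgroup.centralizer ((I : Subgroup G) : Set G) := Subgroup.centralizer_le hIA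
    have h2 : Subgroup.centralizer ((I : Subgroup G) : Set G) ≤
        Subgroup.normalizer ((I : Subgroup G) : Set G) := Subgroup.centralizer_le_normalizer _
    exact hKA.trans (h1.trans (h2.trans hNMd))
  have hLK : L ≤ Subgroup.normalizer ((K : Subgroup G) : Set G) := by
    rw [hK]
    refine le_trans (le_inf Subgroup.le_normalizer ?_) (ss_normalizer_inf _ _)
    exact hAL2.trans (Cfsg.Agent.Helper17.normalizer_le_normalizer_centralizer A)
  obtain ⟨D, hD⟩ : ∃ D : Subgroup G, D = Cfsg.pCoreOf p K := ⟨_, rfl⟩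
  have hLD : L ≤ Subgroup.normalizer ((D : Subgroup G) : Set G) := by
    rw [hD]; exact hLK.trans (Cfsg.Agent.Helper17.normalizer_le_normalizer_pCoreOf p K)
  have hDp : IsPGroup p D := hD ▸ Cfsg.Agent.Helper17.pCoreOf_isPGroup' p K
  have hOpn := Cfsg.Agent.Helper17.le_normalizer_pCoreOf p Md
  have hYK : ∀ y ∈ Y, ∀ k ∈ K, y * k * y⁻¹ * k⁻¹ ∈ D := by
    have h1 : Cfsg.pCoreOf p Md ⊓ K ≤ D := by
      rw [hD]
      apply Cfsg.Agent.Helper17.le_pCoreOf' inf_le_right _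
        ((Cfsg.Agent.Helper17.pCoreOf_isPGroup' p Md).to_le inf_le_left)
      exact le_trans (le_inf (hKMd.trans hOpn) Subgroup.le_normalizer) (ss_normalizer_inf _ _)
    intro y hy k hk
    apply h1
    constructor
    · have h2 : k * y⁻¹ * k⁻¹ ∈ Cfsg.pCoreOf p Md :=
        (Subgroup.mem_normalizer_iff.mp (hOpn (hKMd hk)) y⁻¹).mp (inv_mem (hY hy))
      have h3 := mul_mem (hY hy) h2
      have e : y * (k * y⁻¹ * k⁻¹) = y * k * y⁻¹ * k⁻¹ := by group
      rwa [e] at h3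
    · exact K.mul_mem ((Subgroup.mem_normalizer_iff.mp (hLK (hYL hy)) k).mp hk) (K.inv_mem hk)
  obtain ⟨Sg, hSg⟩ : ∃ Sg : Set G, Sg = {g | ∃ l ∈ L, ∃ y ∈ Y, g = l * y * l⁻¹} := ⟨_, rfl⟩
  obtain ⟨Ys, hYs⟩ : ∃ Ys : Subgroup G, Ys = Subgroup.closure Sg := ⟨_, rfl⟩
  have hSgL : Sg ⊆ L := by
    rw [hSg]
    rintro g ⟨l, hl, y, hy, rfl⟩
    exact L.mul_mem (L.mul_mem hl (hYL hy)) (L.inv_mem hl)
  have hYYs : Y ≤ Ys := by
    intro y hy
    rw [hYs]
    apply Subgroup.subset_closure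
    rw [hSg]
    exact ⟨1, one_mem _, y, hy, by simp⟩
  have hYsL : Ys ≤ L := by rw [hYs]; exact (Subgroup.closure_le L).mpr hSgL
  have hLYs : L ≤ Subgroup.normalizer ((Ys : Subgroup G) : Set G) := by
    rw [hYs]
    apply tc_le_normalizer_closure
    intro b hb s hs
    rw [hSg] at hs ⊢
    obtain ⟨l, hl, y, hy, rfl⟩ := hs
    exact ⟨b * l, L.mul_mem hb hl, y, hy, by group⟩
  -- `[Y*, K] ≤ D`
  have hP1 : ∀ g ∈ Ys, ∀ k ∈ K, g * k * g⁻¹ * k⁻¹ ∈ D := by
    rw [hYs]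
    apply lst_comm_closure Sg L K D hSgL hLD
    rw [hSg]
    rintro s ⟨l, hl, y, hy, rfl⟩ k hk
    have hk' : l⁻¹ * k * l ∈ K := by
      have := (Subgroup.mem_normalizer_iff.mp (inv_mem (hLK hl)) k).mp hk
      simpa using this
    have h1 := hYK y hy _ hk'
    have h2 := (Subgroup.mem_normalizer_iff.mp (hLD hl) _).mp h1
    have e : l * (y * (l⁻¹ * k * l) * y⁻¹ * (l⁻¹ * k * l)⁻¹) * l⁻¹ =
        l * y * l⁻¹ * k * (l * y * l⁻¹)⁻¹ * k⁻¹ := by group
    rwa [e] at h2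
  -- `[Y*, A] ≤ A'`
  have hLAA : L ≤ Subgroup.normalizer ((⁅A, A⁆ : Subgroup G) : Set G) :=
    le_normalizer_commutator hAL2 hAL2
  have hP2 : ∀ g ∈ Ys, ∀ a ∈ A, g * a * g⁻¹ * a⁻¹ ∈ ⁅A, A⁆ := by
    rw [hYs]
    apply lst_comm_closure Sg L A ⁅A, A⁆ hSgL hLAA
    rw [hSg]
    rintro s ⟨l, hl, y, hy, rfl⟩ a ha
    have ha' : l⁻¹ * a * l ∈ A := by
      have := (Subgroup.mem_normalizer_iff.mp (inv_mem (hAL2 hl)) a).mp ha
      simpa using this
    have h1 : y * (l⁻¹ * a * l) * y⁻¹ * (l⁻¹ * a * l)⁻¹ ∈ ⁅A, A⁆ := by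
      have h0 : ⁅y, l⁻¹ * a * l⁆ ∈ ⁅Y, A⁆ := Subgroup.commutator_mem_commutator hy ha'
      rw [commutatorElement_def] at h0
      exact (Subgroup.commutator_mono hIA le_rfl) (hc h0)
    have h2 := (Subgroup.mem_normalizer_iff.mp (hLAA hl) _).mp h1
    have e : l * (y * (l⁻¹ * a * l) * y⁻¹ * (l⁻¹ * a * l)⁻¹) * l⁻¹ =
        l * y * l⁻¹ * a * (l * y * l⁻¹)⁻¹ * a⁻¹ := by group
    rwa [e] at h2
  -- apply the abstract lemma inside `Y*`
  haveI hZn : (K.subgroupOf Ys).Normal :=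
    Subgroup.normal_subgroupOf_of_le_normalizer (hYsL.trans hLK)
  have hDn : (D.subgroupOf Ys).Normal :=
    Subgroup.normal_subgroupOf_of_le_normalizer (hYsL.trans hLD)
  have hDle : D.subgroupOf Ys ≤ Cfsg.pCore p ↥Ys :=
    Cfsg.Agent.S0010.le_pCore p _ hDn hDp.comap_subtype
  have key : Y.subgroupOf Ys ≤ Cfsg.pCore p ↥Ys := by
    apply lst_pelement_mem_pCore (K.subgroupOf Ys) _ _ _ hYp.comap_subtype
    · intro h ho
      rw [Subgroup.mem_subgroupOf, hK]
      refine Subgroup.mem_inf.mpr ⟨hYsL h.2, ?_⟩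
      rw [Subgroup.mem_centralizer_iff]
      intro a ha
      have ho' : (orderOf (h : G)).Coprime p := by rw [Subgroup.orderOf_coe]; exact ho
      have h1 := lst_coprime_central A hAp (h : G) (hAL2 (hYsL h.2)) ho' (hP2 _ h.2) a ha
      calc a * (h : G) = ((h : G) * a * (h : G)⁻¹) * h := by rw [h1]
        _ = h * a := by group
    · intro h z hz
      apply hDle
      rw [Subgroup.mem_subgroupOf]
      exact hP1 _ h.2 _ (Subgroup.mem_subgroupOf.mp hz)
  have h1 : Y ≤ Cfsg.pCoreOf p Ys := by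
    intro y hy
    have h2 := key (show (⟨y, hYYs hy⟩ : ↥Ys) ∈ Y.subgroupOf Ys from Subgroup.mem_subgroupOf.mpr hy)
    exact ⟨⟨y, hYYs hy⟩, h2, rfl⟩
  exact h1.trans (Cfsg.Agent.Helper17.le_pCoreOf' ((Cfsg.Agent.Helper17.pCoreOf_le' p Ys).trans hYsL)
    (hLYs.trans (Cfsg.Agent.Helper17.normalizer_le_normalizer_pCoreOf p Ys))
    (Cfsg.Agent.Helper17.pCoreOf_isPGroup' p Ys))

end Cfsg.Agent.Helper10
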