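import Mathlib
import Cfsg.Agent.Helper10.LST

set_option autoImplicit false

/-!
# Helper10: the asymmetric case of the local structure theory (S2850)

`M ∈ 𝔐_G(S)` with a large `p`-subgroup `Q ≤ S`, `Y = Y_M` asymmetric in `G`, `O = O_p(M)`,
`M† = M C_G(Y)`.  Then `N_G(L) ≤ N_G(O) ≤ M†` for every `p`-subgroup `L ≥ O`, `O` is weakly
closed in `S`, `L ∩ M†` is parabolic in `L` for `L ≥ O`, and `M` controls fusion in `Y`.
-/

namespace Cfsg.Agent.Helper10

open Subgroup Cfsg.Agent.Helper17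
open scoped commutatorElement

theorem asym_main {G : Type*} [Group G] [Finite G] {p : ℕ} [Fact p.Prime] (S : Sylow p G)
    (Q : Subgroup G) (hQp : IsPGroup p ↥Q) (hQ1 : Q ≠ ⊥) (hQS : Q ≤ (S : Subgroup G))
    (hQ : Cfsg.IsLarge Q) (M : Subgroup G) (hSM : (S : Subgroup G) ≤ M)
    (hM : Cfsg.IsInFrakM p M) (hasym : ¬ Cfsg.IsSymmetricIn (Cfsg.largestPReducedOf p M)) :
    (∀ L : Subgroup G, IsPGroup p ↥L → (Cfsg.pCoreOf p M) ≤ L →
      Subgroup.normalizer ((L : Subgroup G) : Set G) ≤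
        Subgroup.normalizer (((Cfsg.pCoreOf p M) : Subgroup G) : Set G) ∧
      Subgroup.normalizer (((Cfsg.pCoreOf p M) : Subgroup G) : Set G) ≤
        (M ⊔ Subgroup.centralizer (((Cfsg.largestPReducedOf p M) : Subgroup G) : Set G))) ∧
    Cfsg.IsWeaklyClosedSubgroup p (Cfsg.pCoreOf p M) ∧
    (∀ L : Subgroup G, (Cfsg.pCoreOf p M) ≤ L →
      Cfsg.IsParabolic p ((L ⊓ (M ⊔ Subgroup.centralizer
        (((Cfsg.largestPReducedOf p M) : Subgroup G) : Set G))).subgroupOf L)) ∧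
    (∀ x ∈ (Cfsg.largestPReducedOf p M), ∀ g : G, g * x * g⁻¹ ∈ (Cfsg.largestPReducedOf p M) →
      ∃ m ∈ M, m * x * m⁻¹ = g * x * g⁻¹) := by
  have hNI := fun I hI1 hIp hIM =>
    lst_normalizer_le S Q hQp hQ1 hQS hQ M hSM hM I hI1 hIp hIM
  obtain ⟨Y, hYdef⟩ : ∃ Y, Y = Cfsg.largestPReducedOf p M := ⟨_, rfl⟩
  obtain ⟨hML, -, -, -, hcl, -⟩ := hM
  rw [← hYdef] at hcl hasym hNI ⊢
  obtain ⟨C, hCdef⟩ : ∃ C : Subgroup G, C = centralizer (Y : Set G) := ⟨_, rfl⟩
  rw [← hCdef] at hcl hNI ⊢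
  obtain ⟨Md, hMd⟩ : ∃ Md : Subgroup G, Md = M ⊔ C := ⟨_, rfl⟩
  rw [← hMd] at hNI ⊢
  obtain ⟨O, hOdef⟩ : ∃ O : Subgroup G, O = Cfsg.pCoreOf p M := ⟨_, rfl⟩
  rw [← hOdef]
  have hMnY : M ≤ normalizer (Y : Set G) := by
    rw [hYdef]; exact (largestPReducedOf_spec p M).1
  have hCnY : C ≤ normalizer (Y : Set G) := by
    rw [hCdef]; exact Subgroup.centralizer_le_normalizer _
  have hMMd : M ≤ Md := hMd ▸ le_sup_left
  have hCMd : C ≤ Md := hMd ▸ le_sup_right
  have hMdnY : Md ≤ normalizer (Y : Set G) := by rw [hMd]; exact sup_le hMnY hCnY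
  have hMdnC : Md ≤ normalizer ((C : Subgroup G) : Set G) := by
    rw [hCdef]; exact hMdnY.trans (normalizer_le_normalizer_centralizer Y)
  have hYO : Y ≤ O := by rw [hYdef, hOdef]; exact largestPReducedOf_le_pCoreOf M
  have hOC : O ≤ C := by rw [hOdef, hCdef, hYdef]; exact pCoreOf_le_centralizer_largest M
  have hOS : O ≤ S := by rw [hOdef]; exact pCoreOf_le_sylow S hSM
  have hOp : IsPGroup p O := by rw [hOdef]; exact pCoreOf_isPGroup' p M
  have hMnO : M ≤ normalizer (O : Set G) := by rw [hOdef]; exact le_normalizer_pCoreOf p M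
  have hSMd : (S : Subgroup G) ≤ Md := hSM.trans hMMd
  have hO1 : O ≠ ⊥ := by
    intro h
    apply hML.1
    have h1 : (Cfsg.pCore p ↥M).map M.subtype = ⊥ := by rw [← h, hOdef]; rfl
    exact (Subgroup.map_eq_bot_iff_of_injective _ M.subtype_injective).mp h1
  have hNO : normalizer (O : Set G) ≤ Md := hNI O hO1 hOp hMnO
  -- `p`-elements of `C_M(Y)` lie in `O`
  have hpel : ∀ x ∈ M ⊓ C, (∃ k : ℕ, x ^ p ^ k = 1) → x ∈ O := by
    obtain ⟨S₀, hS₀, hall⟩ := (isPClosed_subgroup_iff _).mp hcl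
    have hD : S₀ ⊓ (M ⊓ C) ≤ O := by
      rw [hOdef]
      apply le_pCoreOf' (inf_le_right.trans inf_le_left) ?_ (hS₀.to_le inf_le_left)
      intro m hm
      apply mem_normalizer_of_cj_le
      intro x hx
      obtain ⟨y, hy, rfl⟩ := mem_cj'.mp hx
      have hyD : m * y * m⁻¹ ∈ M ⊓ C := by
        refine ⟨M.mul_mem (M.mul_mem hm hy.2.1) (M.inv_mem hm), ?_⟩
        have h1 := cj_eq_self_iff.mpr (hMdnC (hMMd hm))
        rw [← h1]
        exact conj_mem_cj hy.2.2
      refine ⟨hall _ hyD ?_, hyD⟩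
      obtain ⟨k, hk⟩ := exists_pow_of_isPGroup hS₀ hy.1
      refine ⟨k, ?_⟩
      rw [conj_pow, hk]; simp
    intro x hx hk
    exact hD ⟨hall x hx hk, hx⟩
  -- weak closure of `O` in `M†`
  have hwc : ∀ y ∈ Md, cj y O ≤ S → cj y O = O := by
    intro y hy hyS
    obtain ⟨c, hc, m, hm, hycm⟩ := mem_sup_of_le_normalizer (hMMd.trans hMdnC)
      (show y ∈ C ⊔ M from by rw [sup_comm, ← hMd]; exact hy)
    rw [hycm, cj_mul, cj_eq_self_iff.mpr (hMnO hm)] at hyS ⊢
    apply cj_eq_self_iff.mpr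
    apply mem_normalizer_of_cj_le
    intro x hx
    have hxS : x ∈ (S : Subgroup G) := hyS hx
    have hxC : x ∈ C := by
      obtain ⟨z, hz, rfl⟩ := mem_cj'.mp hx
      exact C.mul_mem (C.mul_mem hc (hOC hz)) (C.inv_mem hc)
    exact hpel x ⟨hSM hxS, hxC⟩ (exists_pow_of_isPGroup S.isPGroup' hxS)
  -- asymmetry
  have hasy : ∀ g : G, cj g Y ≤ normalizer (Y : Set G) → cj g⁻¹ Y ≤ normalizer (Y : Set G) →
      cj g Y ≤ C := by
    intro g h1 h2
    have h3 : ⁅Y, cj g Y⁆ = ⊥ := by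
      by_contra hne
      apply hasym
      refine ⟨g, hne, le_inf ?_ ?_⟩
      · exact commutator_le_left_of_le_normalizer h1
      · apply commutator_le_right_of_le_normalizer
        rw [normalizer_cj]
        exact le_cj_iff.mpr h2
    rw [Subgroup.commutator_comm, Subgroup.commutator_eq_bot_iff_le_centralizer] at h3
    rw [hCdef]; exact h3
  -- `L ∩ C ≤ O`
  have hL1 : ∀ L : Subgroup G, IsPGroup p L → O ≤ L → L ≤ Md → L ⊓ C ≤ O := by
    intro L hLp hOL hLMd x hx
    obtain ⟨y, hy, hLy⟩ := exists_mem_le_cj_of_sylow_le S hSMd hLp hLMd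
    have h1 : cj y⁻¹ O ≤ S := le_cj_iff.mp (hOL.trans hLy)
    have h2 : cj y⁻¹ O = O := hwc y⁻¹ (Md.inv_mem hy) h1
    have h3 : cj y O = O := by
      have := congrArg (cj y) h2
      rw [cj_cj_inv] at this
      exact this.symm
    have hxS : y⁻¹ * x * y ∈ (S : Subgroup G) := mem_cj.mp (hLy hx.1)
    have hxC : y⁻¹ * x * y ∈ C := by
      have h4 := cj_eq_self_iff.mpr (hMdnC (Md.inv_mem hy))
      rw [← h4, mem_cj]
      have e : (y⁻¹)⁻¹ * (y⁻¹ * x * y) * y⁻¹ = x := by group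
      rw [e]; exact hx.2
    have h5 := hpel _ ⟨hSM hxS, hxC⟩ (exists_pow_of_isPGroup S.isPGroup' hxS)
    rw [← h3]
    exact mem_cj.mpr h5
  -- the word lemma
  have hword : ∀ L : Subgroup G, IsPGroup p L → O ≤ L → L ≤ Md →
      ∀ (n : ℕ) (l : List G), l.length = n →
        (∀ a ∈ l, a ∈ M ∨ a ∈ normalizer (L : Set G)) → cj l.prod Y ≤ O := by
    intro L hLp hOL hLMd n
    induction n with
    | zero =>
      intro l hl _
      rw [List.length_eq_zero_iff.mp hl, List.prod_nil, cj_one]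
      exact hYO
    | succ n ih =>
      have aux : ∀ l : List G, l.length = n + 1 →
          (∀ a ∈ l, a ∈ M ∨ a ∈ normalizer (L : Set G)) → cj l.prod Y ≤ L := by
        intro l hl hA
        cases l with
        | nil => simp at hl
        | cons a l' =>
          have hl' : l'.length = n := by simpa using hl
          have h1 := ih l' hl' (fun b hb => hA b (List.mem_cons_of_mem _ hb))
          rw [List.prod_cons, cj_mul]
          have h2 : cj a (cj l'.prod Y) ≤ cj a O := cj_mono h1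
          rcases hA a List.mem_cons_self with ha | ha
          · rw [cj_eq_self_iff.mpr (hMnO ha)] at h2
            exact h2.trans hOL
          · have h3 : cj a O ≤ cj a L := cj_mono hOL
            rw [cj_eq_self_iff.mpr ha] at h3
            exact h2.trans h3
      intro l hl hA
      have h1 := aux l hl hA
      have h2 : cj (l.prod)⁻¹ Y ≤ L := by
        rw [List.prod_inv_reverse]
        apply aux
        · simp [hl]
        · intro b hb
          rw [List.mem_reverse, List.mem_map] at hb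
          obtain ⟨c, hc, rfl⟩ := hb
          rcases hA c hc with h | h
          · exact Or.inl (M.inv_mem h)
          · exact Or.inr (inv_mem h)
      have h3 := hasy l.prod (h1.trans (hLMd.trans hMdnY)) (h2.trans (hLMd.trans hMdnY))
      exact fun z hz => hL1 L hLp hOL hLMd ((le_inf h1 h3) hz)
  -- `N_G(L) ≤ M†`
  have hL3 : ∀ L : Subgroup G, IsPGroup p L → O ≤ L → L ≤ Md → normalizer (L : Set G) ≤ Md := by
    intro L hLp hOL hLMd
    obtain ⟨T, hT⟩ : ∃ T : Set G, T = {x | ∃ l : List G,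
        (∀ a ∈ l, a ∈ M ∨ a ∈ normalizer (L : Set G)) ∧ x ∈ cj l.prod Y} := ⟨_, rfl⟩
    obtain ⟨V, hV⟩ : ∃ V : Subgroup G, V = Subgroup.closure T := ⟨_, rfl⟩
    have hVO : V ≤ O := by
      rw [hV, Subgroup.closure_le, hT]
      rintro x ⟨l, hl, hx⟩
      exact hword L hLp hOL hLMd _ l rfl hl hx
    have hYV : Y ≤ V := by
      intro y hy
      rw [hV]
      apply Subgroup.subset_closure
      rw [hT]
      exact ⟨[], by simp, by rw [List.prod_nil, cj_one]; exact hy⟩
    have hstep : ∀ a : G, (a ∈ M ∨ a ∈ normalizer (L : Set G)) → ∀ s ∈ T, a * s * a⁻¹ ∈ T := by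
      intro a ha s hs
      rw [hT] at hs ⊢
      obtain ⟨l, hl, hx⟩ := hs
      refine ⟨a :: l, ?_, ?_⟩
      · intro b hb
        rcases List.mem_cons.mp hb with rfl | hb
        · exact ha
        · exact hl b hb
      · rw [List.prod_cons, cj_mul]
        exact conj_mem_cj hx
    have hMV : M ≤ normalizer (V : Set G) := by
      rw [hV]
      exact tc_le_normalizer_closure M T (fun b hb s hs => hstep b (Or.inl hb) s hs)
    have hNV : normalizer (L : Set G) ≤ normalizer (V : Set G) := by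
      rw [hV]
      exact tc_le_normalizer_closure _ T (fun b hb s hs => hstep b (Or.inr hb) s hs)
    by_cases hV1 : V = ⊥
    · have hY1 : Y = ⊥ := le_bot_iff.mp (hV1 ▸ hYV)
      have hCtop : C = ⊤ := by
        rw [hCdef, hY1]
        apply Subgroup.centralizer_eq_top_iff_subset.mpr
        intro x hx
        rw [SetLike.mem_coe, Subgroup.mem_bot] at hx
        rw [hx]; exact one_mem _
      rw [hMd, hCtop, sup_top_eq]; exact le_top
    · exact hNV.trans (hNI V hV1 (hOp.to_le hVO) hMV)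
  -- `N_G(L) ≤ N_G(O)` for `L ≤ M†`
  have hL4 : ∀ L : Subgroup G, IsPGroup p L → O ≤ L → L ≤ Md →
      normalizer (L : Set G) ≤ normalizer (O : Set G) := by
    intro L hLp hOL hLMd g hg
    have hgMd : g ∈ Md := hL3 L hLp hOL hLMd hg
    obtain ⟨y, hy, hLy⟩ := exists_mem_le_cj_of_sylow_le S hSMd hLp hLMd
    have h1 : cj y⁻¹ O = O := hwc y⁻¹ (Md.inv_mem hy) (le_cj_iff.mp (hOL.trans hLy))
    have h2 : cj g O ≤ L := by
      have := cj_mono (g := g) hOL
      rwa [cj_eq_self_iff.mpr hg] at this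
    have h3 : cj (y⁻¹ * g) O ≤ S := by
      rw [cj_mul]; exact le_cj_iff.mp (h2.trans hLy)
    have h4 := hwc (y⁻¹ * g) (Md.mul_mem (Md.inv_mem hy) hgMd) h3
    rw [cj_mul] at h4
    have h5 : cj g O = O := by
      have := congrArg (cj y) (h4.trans h1.symm)
      rwa [cj_cj_inv, cj_cj_inv] at this
    exact cj_eq_self_iff.mp h5
  -- every `p`-subgroup containing `O` normalizes `O`
  have hL5 : ∀ L : Subgroup G, IsPGroup p L → O ≤ L → L ≤ normalizer (O : Set G) := by
    intro L hLp hOL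
    by_contra hcon
    have hlt : L ⊓ normalizer (O : Set G) < L :=
      lt_of_le_of_ne inf_le_left (fun h => hcon (by rw [← h]; exact inf_le_right))
    have h1 := lt_normalizer_inf_of_lt hLp hlt
    have h2 : normalizer ((L ⊓ normalizer (O : Set G) : Subgroup G) : Set G) ≤
        normalizer (O : Set G) :=
      hL4 _ (hLp.to_le inf_le_left) (le_inf hOL Subgroup.le_normalizer) (inf_le_right.trans hNO)
    have h3 : normalizer ((L ⊓ normalizer (O : Set G) : Subgroup G) : Set G) ⊓ L ≤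
        L ⊓ normalizer (O : Set G) := le_inf inf_le_right (inf_le_left.trans h2)
    exact absurd (lt_of_lt_of_le h1 h3) (lt_irrefl _)
  have hA : ∀ L : Subgroup G, IsPGroup p L → O ≤ L →
      normalizer (L : Set G) ≤ normalizer (O : Set G) :=
    fun L hLp hOL => hL4 L hLp hOL ((hL5 L hLp hOL).trans hNO)
  -- weak closure in `S` with respect to `G`
  have hWC : ∀ g : G, cj g O ≤ S → cj g O = O := by
    intro g hgS
    obtain ⟨R, hR⟩ : ∃ R : Subgroup G,
        R = (S : Subgroup G) ⊓ normalizer ((cj g O : Subgroup G) : Set G) := ⟨_, rfl⟩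
    have hRS : R ≤ S := hR.le.trans inf_le_left
    have hgR : cj g O ≤ R := (le_inf hgS Subgroup.le_normalizer).trans hR.ge
    have hRp : IsPGroup p R := S.isPGroup'.to_le hRS
    have hnR : normalizer (R : Set G) ≤ normalizer ((cj g O : Subgroup G) : Set G) := by
      have h1 := hA (cj g⁻¹ R) (isPGroup_cj hRp) (cj_le_iff.mp hgR)
      have h2 := cj_mono (g := g) h1
      rw [← normalizer_cj, ← normalizer_cj, cj_cj_inv] at h2
      exact h2
    have hRS' : R = S := by
      by_contra hne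
      have hlt : R < S := lt_of_le_of_ne hRS hne
      have h1 := lt_normalizer_inf_of_lt S.isPGroup' hlt
      have h2 : normalizer (R : Set G) ⊓ (S : Subgroup G) ≤ R :=
        (le_inf inf_le_right (inf_le_left.trans hnR)).trans hR.ge
      exact absurd (lt_of_lt_of_le h1 h2) (lt_irrefl _)
    have hSn : (S : Subgroup G) ≤ normalizer ((cj g O : Subgroup G) : Set G) :=
      hRS'.ge.trans (hR.le.trans inf_le_right)
    have h6 : cj g⁻¹ (S : Subgroup G) ≤ normalizer (O : Set G) := by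
      have := cj_mono (g := g⁻¹) hSn
      rwa [normalizer_cj, cj_inv_cj] at this
    obtain ⟨n, hn, hle⟩ := exists_mem_le_cj_of_sylow_le S (hSM.trans hMnO)
      (isPGroup_cj S.isPGroup') h6
    have h7 : cj (n⁻¹ * g⁻¹) (S : Subgroup G) ≤ S := by
      rw [cj_mul]; exact le_cj_iff.mp hle
    have h8 : n⁻¹ * g⁻¹ ∈ normalizer ((S : Subgroup G) : Set G) := mem_normalizer_of_cj_le h7
    have h9 : n⁻¹ * g⁻¹ ∈ normalizer (O : Set G) := hA S S.isPGroup' hOS h8
    have h10 : g⁻¹ ∈ normalizer (O : Set G) := by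
      have := (normalizer (O : Set G)).mul_mem hn h9
      simpa using this
    have h11 : g ∈ normalizer (O : Set G) := by
      have := (normalizer (O : Set G)).inv_mem h10
      simpa using this
    exact cj_eq_self_iff.mpr h11
  have hWCP : ∀ (P : Subgroup G), IsPGroup p P → O ≤ P → ∀ a : G, cj a O ≤ P → cj a O = O := by
    intro P hPp hOP a haP
    obtain ⟨y, hPy⟩ := exists_le_cj_sylow hPp S
    have h1 : cj y⁻¹ O = O := hWC y⁻¹ (le_cj_iff.mp (hOP.trans hPy))
    have h2 : cj (y⁻¹ * a) O = O := hWC _ (by rw [cj_mul]; exact le_cj_iff.mp (haP.trans hPy))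
    rw [cj_mul] at h2
    have := congrArg (cj y) (h2.trans h1.symm)
    rwa [cj_cj_inv, cj_cj_inv] at this
  -- parabolic
  have hPar : ∀ L : Subgroup G, O ≤ L → Cfsg.IsParabolic p ((L ⊓ Md).subgroupOf L) := by
    intro L hOL
    obtain ⟨T, hT⟩ := (hOp.comap_subtype (K := L)).exists_le_sylow
    refine ⟨T, ?_⟩
    have hT' : O ≤ (T : Subgroup ↥L).map L.subtype := by
      intro o ho
      exact ⟨⟨o, hOL ho⟩, hT (Subgroup.mem_subgroupOf.mpr ho), rfl⟩
    have h1 := hL5 _ (T.isPGroup'.map L.subtype) hT'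
    intro t ht
    rw [Subgroup.mem_subgroupOf]
    exact ⟨t.2, hNO (h1 ⟨t, ht, rfl⟩)⟩
  -- fusion in `Y`
  have hFus : ∀ x ∈ Y, ∀ g : G, g * x * g⁻¹ ∈ Y → ∃ m ∈ M, m * x * m⁻¹ = g * x * g⁻¹ := by
    intro x hx g hgx
    obtain ⟨C1, hC1⟩ : ∃ C1 : Subgroup G, C1 = centralizer ({g * x * g⁻¹} : Set G) := ⟨_, rfl⟩
    have hOC1 : O ≤ C1 := by
      intro o ho
      rw [hC1, Subgroup.mem_centralizer_singleton_iff]
      have h1 := hOC ho
      rw [hCdef, Subgroup.mem_centralizer_iff] at h1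
      exact (h1 _ hgx).symm
    have hgOC1 : cj g O ≤ C1 := by
      intro z hz
      obtain ⟨o, ho, rfl⟩ := mem_cj'.mp hz
      rw [hC1, Subgroup.mem_centralizer_singleton_iff]
      have h1 := hOC ho
      rw [hCdef, Subgroup.mem_centralizer_iff] at h1
      have h2 := h1 x hx
      calc g * o * g⁻¹ * (g * x * g⁻¹) = g * (o * x) * g⁻¹ := by group
        _ = g * (x * o) * g⁻¹ := by rw [h2]
        _ = g * x * g⁻¹ * (g * o * g⁻¹) := by group
    obtain ⟨T, hT⟩ := (hOp.comap_subtype (K := C1)).exists_le_sylow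
    have hOT : O ≤ sylowImage T := by
      intro o ho
      exact ⟨⟨o, hOC1 ho⟩, hT (Subgroup.mem_subgroupOf.mpr ho), rfl⟩
    obtain ⟨c, hc, hcle⟩ := exists_mem_le_cj_sylowImage T (isPGroup_cj hOp) hgOC1
    have h3 : cj (c⁻¹ * g) O ≤ sylowImage T := by rw [cj_mul]; exact le_cj_iff.mp hcle
    have h4 := hWCP _ (sylowImage_isPGroup T) hOT _ h3
    have h5 : c⁻¹ * g ∈ Md := hNO (cj_eq_self_iff.mp h4)
    obtain ⟨c', hc', m, hm, hdec⟩ := mem_sup_of_le_normalizer (hMMd.trans hMdnC)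
      (show (c⁻¹ * g)⁻¹ ∈ C ⊔ M from by rw [sup_comm, ← hMd]; exact Md.inv_mem h5)
    refine ⟨m⁻¹, M.inv_mem hm, ?_⟩
    have e1 : c⁻¹ * g = m⁻¹ * c'⁻¹ := by
      have h6 := congrArg Inv.inv hdec
      rw [inv_inv, mul_inv_rev] at h6
      exact h6
    have hcx : c' * x = x * c' := by
      rw [hCdef, Subgroup.mem_centralizer_iff] at hc'
      exact (hc' x hx).symm
    have hcc : c * (g * x * g⁻¹) = (g * x * g⁻¹) * c := by
      rw [hC1, Subgroup.mem_centralizer_singleton_iff] at hc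
      exact hc
    calc m⁻¹ * x * m⁻¹⁻¹ = m⁻¹ * (c'⁻¹ * (c' * x)) * m := by group
      _ = m⁻¹ * (c'⁻¹ * (x * c')) * m := by rw [hcx]
      _ = (m⁻¹ * c'⁻¹) * x * (m⁻¹ * c'⁻¹)⁻¹ := by group
      _ = (c⁻¹ * g) * x * (c⁻¹ * g)⁻¹ := by rw [e1]
      _ = c⁻¹ * ((g * x * g⁻¹) * c) := by group
      _ = c⁻¹ * (c * (g * x * g⁻¹)) := by rw [hcc]
      _ = g * x * g⁻¹ := by group
  exact ⟨fun L hLp hOL => ⟨hA L hLp hOL, hNO⟩, ⟨S, hOS, hWC⟩, hPar, hFus⟩

end Cfsg.Agent.Helper10
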