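import Mathlib
import Cfsg.Agent.Helper10.Asym

set_option autoImplicit false

/-!
# Helper10: the family `ℌ_G(O_p(M))` in the asymmetric case (S2852)

* `fhNC H O` : the normal closure of `O` in `H`, as a subgroup of the ambient group;
* `fh_CP` : if `L` has characteristic `p`, `O ≤ H ≤ L`, `H = ⟨O^H⟩` and `O_p(L)` normalizes `O`,
  then `H` has characteristic `p`;
* `fh_exists` : S2852.
-/

namespace Cfsg.Agent.Helper10

open Subgroup Cfsg.Agent.Helper17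

/-- the normal closure of `O` in `H`, as a subgroup of the ambient group -/
def fhNC {G : Type*} [Group G] (H O : Subgroup G) : Subgroup G :=
  Subgroup.closure {x | ∃ h ∈ H, ∃ o ∈ O, x = h * o * h⁻¹}

theorem fhNC_ge {G : Type*} [Group G] (H O : Subgroup G) : O ≤ fhNC H O := by
  intro o ho
  exact Subgroup.subset_closure ⟨1, H.one_mem, o, ho, by simp⟩

theorem fhNC_le {G : Type*} [Group G] {H O : Subgroup G} (h : O ≤ H) : fhNC H O ≤ H := by
  unfold fhNC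
  rw [Subgroup.closure_le]
  rintro x ⟨a, ha, o, ho, rfl⟩
  exact H.mul_mem (H.mul_mem ha (h ho)) (H.inv_mem ha)

theorem fhNC_normal {G : Type*} [Group G] (H O : Subgroup G) :
    H ≤ Subgroup.normalizer ((fhNC H O : Subgroup G) : Set G) := by
  apply tc_le_normalizer_closure
  rintro b hb s ⟨a, ha, o, ho, rfl⟩
  exact ⟨b * a, H.mul_mem hb ha, o, ho, by group⟩

/-- `O_p` of a subgroup normalized by `H` lies in `O_p(H)` -/
theorem fh_pCoreOf_le {G : Type*} [Group G] {p : ℕ} {N H : Subgroup G} (hNH : N ≤ H)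
    (hn : H ≤ Subgroup.normalizer (N : Set G)) : Cfsg.pCoreOf p N ≤ Cfsg.pCoreOf p H :=
  le_pCoreOf' ((pCoreOf_le' p N).trans hNH) (hn.trans (normalizer_le_normalizer_pCoreOf p N))
    (pCoreOf_isPGroup' p N)

/-- if `L` has characteristic `p`, `O ≤ H ≤ L`, `H` is the normal closure of `O` in `H` and
`O_p(L)` normalizes `O`, then `H` has characteristic `p` -/
theorem fh_CP {G : Type*} [Group G] [Finite G] {p : ℕ} [Fact p.Prime] (L H O : Subgroup G)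
    (hL : Cfsg.Agent.Helper18.CP p L) (hHL : H ≤ L) (hOH : O ≤ H) (hgen : fhNC H O = H)
    (hDO : Cfsg.pCoreOf p L ≤ Subgroup.normalizer (O : Set G)) :
    Cfsg.Agent.Helper18.CP p H := by
  rw [CP_iff] at hL ⊢
  intro x hx hxc hxn
  obtain ⟨D, hDdef⟩ : ∃ D : Subgroup G, D = Cfsg.pCoreOf p L := ⟨_, rfl⟩
  rw [← hDdef] at hL hDO
  have hDp : IsPGroup p ↥D := by rw [hDdef]; exact pCoreOf_isPGroup' p L
  have hLD : L ≤ Subgroup.normalizer (D : Set G) := by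
    rw [hDdef]; exact le_normalizer_pCoreOf p L
  have hHD : H ≤ Subgroup.normalizer (D : Set G) := hHL.trans hLD
  have hEn : H ≤ Subgroup.normalizer ((H ⊓ D : Subgroup G) : Set G) := by
    intro h hh
    apply mem_normalizer_of_cj_eq_self
    rw [cj_inf, cj_eq_self_of_mem hh, cj_eq_self_of_mem_normalizer (hHD hh)]
  have hE : H ⊓ D ≤ Cfsg.pCoreOf p H :=
    le_pCoreOf' inf_le_left hEn (hDp.to_le inf_le_right)
  apply hL x (hHL hx) hxc
  obtain ⟨𝒞, h𝒞⟩ : ∃ 𝒞 : Set (Subgroup G), 𝒞 = {F | H ⊓ D ≤ F ∧ F ≤ D ∧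
      H ≤ Subgroup.normalizer (F : Set G) ∧ ∀ f ∈ F, x * f = f * x} := ⟨_, rfl⟩
  have hE𝒞 : H ⊓ D ∈ 𝒞 := by
    rw [h𝒞]
    exact ⟨le_rfl, inf_le_right, hEn, fun f hf => hxn f (hE hf)⟩
  obtain ⟨F, -, hFmax⟩ := (Set.toFinite 𝒞).exists_le_maximal hE𝒞
  have hF𝒞 : F ∈ 𝒞 := hFmax.prop
  rw [h𝒞] at hF𝒞
  obtain ⟨hEF, hFD, hHF, hxF⟩ := hF𝒞
  have hFeq : F = D := by
    by_contra hne
    have hlt : F < D := lt_of_le_of_ne hFD hne
    have hlt' := lt_normalizer_inf_of_lt hDp hlt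
    obtain ⟨F₁, hF₁⟩ : ∃ F₁ : Subgroup G, F₁ = Subgroup.normalizer (F : Set G) ⊓ D := ⟨_, rfl⟩
    rw [← hF₁] at hlt'
    have hHF₁ : H ≤ Subgroup.normalizer (F₁ : Set G) := by
      intro h hh
      apply mem_normalizer_of_cj_eq_self
      rw [hF₁, cj_inf, ← normalizer_cj, cj_eq_self_of_mem_normalizer (hHF hh),
        cj_eq_self_of_mem_normalizer (hHD hh)]
    have hF₁D : F₁ ≤ D := by rw [hF₁]; exact inf_le_right
    have hcomm : ∀ g ∈ H, ∀ k ∈ F₁, g * k * g⁻¹ * k⁻¹ ∈ F := by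
      have h1 := lst_comm_closure {x | ∃ h ∈ H, ∃ o ∈ O, x = h * o * h⁻¹} H F₁ F
        (by
          rintro y ⟨a, ha, o, ho, rfl⟩
          exact H.mul_mem (H.mul_mem ha (hOH ho)) (H.inv_mem ha))
        hHF
        (by
          rintro s ⟨a, ha, o, ho, rfl⟩ k hk
          have hk' : a⁻¹ * k * a ∈ F₁ := by
            have := (Subgroup.mem_normalizer_iff.mp (hHF₁ (H.inv_mem ha)) k).mp hk
            simpa using this
          have h2 : o * (a⁻¹ * k * a) * o⁻¹ * (a⁻¹ * k * a)⁻¹ ∈ H ⊓ D := by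
            refine ⟨?_, ?_⟩
            · apply hOH
              have h3 : (a⁻¹ * k * a) * o⁻¹ * (a⁻¹ * k * a)⁻¹ ∈ O :=
                (Subgroup.mem_normalizer_iff.mp (hDO (hF₁D hk')) _).mp (O.inv_mem ho)
              have e : o * (a⁻¹ * k * a) * o⁻¹ * (a⁻¹ * k * a)⁻¹ =
                  o * ((a⁻¹ * k * a) * o⁻¹ * (a⁻¹ * k * a)⁻¹) := by group
              rw [e]; exact O.mul_mem ho h3
            · have h3 : o * (a⁻¹ * k * a) * o⁻¹ ∈ D :=
                (Subgroup.mem_normalizer_iff.mp (hHD (hOH ho)) _).mp (hF₁D hk')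
              exact D.mul_mem h3 (D.inv_mem (hF₁D hk'))
          have h4 := (Subgroup.mem_normalizer_iff.mp (hHF ha) _).mp (hEF h2)
          have e : a * (o * (a⁻¹ * k * a) * o⁻¹ * (a⁻¹ * k * a)⁻¹) * a⁻¹ =
              a * o * a⁻¹ * k * (a * o * a⁻¹)⁻¹ * k⁻¹ := by group
          rwa [e] at h4)
      intro g hg
      have hg' : g ∈ Subgroup.closure {x | ∃ h ∈ H, ∃ o ∈ O, x = h * o * h⁻¹} := hgen.ge hg
      exact h1 g hg'
    have hF₁𝒞 : F₁ ∈ 𝒞 := by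
      rw [h𝒞]
      refine ⟨hEF.trans hlt'.le, hF₁D, hHF₁, ?_⟩
      intro f hf
      have h1 := hcomm x hx f hf
      have h2 : f * x * f⁻¹ * x⁻¹ ∈ F := by
        have e : f * x * f⁻¹ * x⁻¹ = (x * f * x⁻¹ * f⁻¹)⁻¹ := by group
        rw [e]; exact F.inv_mem h1
      have h3 : Commute f x := commute_of_coprime_of_commutator hxc
        (hxF _ h2).symm (exists_pow_of_isPGroup hDp (hFD h2))
      exact h3.eq.symm
    exact absurd (hFmax.le_of_ge hF₁𝒞 hlt'.le) (not_le_of_gt hlt')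
  intro n hn
  exact hxF n (hFeq ▸ hn)

/-- S2852: if `Y_M` is char-`p`-tall and asymmetric then `ℌ_G(O_p(M))` is nonempty -/
theorem fh_exists {G : Type*} [Group G] [Finite G] {p : ℕ} [Fact p.Prime] (S : Sylow p G)
    (Q : Subgroup G) (hQp : IsPGroup p ↥Q) (hQ1 : Q ≠ ⊥) (hQS : Q ≤ (S : Subgroup G))
    (hQ : Cfsg.IsLarge Q) (M : Subgroup G) (hSM : (S : Subgroup G) ≤ M)
    (hM : Cfsg.IsInFrakM p M) (htall : Cfsg.IsCharPTall p (Cfsg.largestPReducedOf p M))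
    (hasym : ¬ Cfsg.IsSymmetricIn (Cfsg.largestPReducedOf p M)) :
    ∃ H : Subgroup G, Cfsg.IsInFrakH p M H := by
  obtain ⟨hA, -, -, -⟩ := asym_main S Q hQp hQ1 hQS hQ M hSM hM hasym
  obtain ⟨Y, hYdef⟩ : ∃ Y, Y = Cfsg.largestPReducedOf p M := ⟨_, rfl⟩
  obtain ⟨O, hOdef⟩ : ∃ O, O = Cfsg.pCoreOf p M := ⟨_, rfl⟩
  have hOp : IsPGroup p ↥O := by rw [hOdef]; exact pCoreOf_isPGroup' p M
  have hOC : O ≤ Subgroup.centralizer (Y : Set G) := by
    rw [hOdef, hYdef]; exact pCoreOf_le_centralizer_largest M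
  have hnorm : ∀ K : Subgroup G, O ≤ K →
      Cfsg.pCoreOf p K ≤ Subgroup.normalizer (O : Set G) := by
    intro K hOK
    have h1 : O ≤ Subgroup.normalizer ((Cfsg.pCoreOf p K : Subgroup G) : Set G) :=
      hOK.trans (le_normalizer_pCoreOf p K)
    have h2 : IsPGroup p ↥(O ⊔ Cfsg.pCoreOf p K) :=
      IsPGroup.to_sup_of_normal_right' hOp (pCoreOf_isPGroup' p K) h1
    have h3 := (hA (O ⊔ Cfsg.pCoreOf p K) h2 (by rw [← hOdef]; exact le_sup_left)).1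
    rw [← hOdef] at h3
    exact le_sup_right.trans (Subgroup.le_normalizer.trans h3)
  rw [← hYdef] at htall
  obtain ⟨T, L, hTL, hLchar, hYL⟩ := htall
  obtain ⟨c, hc, hcle⟩ := exists_mem_le_cj_sylowImage T hOp hOC
  have hL₁ : Cfsg.Agent.Helper18.CP p (cj c L) := CP_cj ((CP_iff_charP L).mpr hLchar) c
  have hOL₁ : O ≤ cj c L := hcle.trans (cj_mono hTL)
  have hYL₁ : ¬ Y ≤ Cfsg.pCoreOf p (cj c L) := by
    intro h
    rw [← cj_pCoreOf, le_cj_iff] at h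
    have h1 : cj c⁻¹ Y = Y := cj_eq_self_of_mem_normalizer
      (Subgroup.centralizer_le_normalizer _ (inv_mem hc))
    rw [h1] at h
    exact hYL h
  obtain ⟨𝒮, h𝒮⟩ : ∃ 𝒮 : Set (Subgroup G),
      𝒮 = {H | O ≤ H ∧ H ≤ cj c L ∧ ¬ Y ≤ Cfsg.pCoreOf p H} := ⟨_, rfl⟩
  have hL𝒮 : cj c L ∈ 𝒮 := by rw [h𝒮]; exact ⟨hOL₁, le_rfl, hYL₁⟩
  obtain ⟨H, -, hHmin⟩ := (Set.toFinite 𝒮).exists_le_minimal hL𝒮
  have hH𝒮 : H ∈ 𝒮 := hHmin.prop
  rw [h𝒮] at hH𝒮
  obtain ⟨hOH, hHL, hYH⟩ := hH𝒮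
  have hmin : ∀ P : Subgroup G, O ≤ P → P < H → Y ≤ Cfsg.pCoreOf p P := by
    intro P hOP hPH
    by_contra hY
    have hP𝒮 : P ∈ 𝒮 := by rw [h𝒮]; exact ⟨hOP, hPH.le.trans hHL, hY⟩
    exact absurd (hHmin.le_of_le hP𝒮 hPH.le) (not_le_of_gt hPH)
  have hgen : fhNC H O = H := by
    by_contra hne
    have hlt : fhNC H O < H := lt_of_le_of_ne (fhNC_le hOH) hne
    have h1 := hmin _ (fhNC_ge H O) hlt
    exact hYH (h1.trans (fh_pCoreOf_le (fhNC_le hOH) (fhNC_normal H O)))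
  have hCP : Cfsg.Agent.Helper18.CP p H :=
    fh_CP (cj c L) H O hL₁ hHL hOH hgen (hnorm _ hOL₁)
  refine ⟨H, (CP_iff_charP H).mp hCP, ?_, ?_, ?_⟩
  · rw [← hOdef]; exact hOH
  · rw [← hYdef]; exact hYH
  · rw [← hYdef, ← hOdef]; exact hmin

end Cfsg.Agent.Helper10
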