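import Mathlib
import Cfsg.Agent.Helper10.FrakH
import Cfsg.Agent.Helper17.WeakClosed
import Cfsg.Agent.Helper17.PClosed

set_option autoImplicit false

/-!
# Helper10: structure of the members of `ℌ_G(O_p(M))` (S2853, S2854)

`Y = Y_M` asymmetric, `O = O_p(M)`, `H ∈ ℌ_G(O)`, `R = O^p(H)`:
* `fh_struct` : `p`-groups over `O` normalize `O`, `N_G(O) ≤ M†`, `N_G(Y) = M†`, `H = ⟨O^H⟩`,
  `H = RO`, `R = [R, Y]`, `RY = ⟨Y^H⟩`;
* `fh_main53` : S2853;  `fh_main54` : S2854.
-/

namespace Cfsg.Agent.Helper10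

open Subgroup Cfsg.Agent.Helper17

/-- a `p'`-element of `K O` (`O` a `p`-group normalizing `K`) lies in `K` -/
theorem fh_coprime_mem {G : Type*} [Group G] {p : ℕ} {K O : Subgroup G} (hO : IsPGroup p ↥O)
    (hOK : O ≤ Subgroup.normalizer (K : Set G)) {x : G} (hx : x ∈ K ⊔ O)
    (hc : (orderOf x).Coprime p) : x ∈ K := by
  obtain ⟨k, hk, o, ho, rfl⟩ := mem_sup_of_le_normalizer hOK hx
  obtain ⟨b, hb⟩ := exists_pow_of_isPGroup hO ho
  have hk' : o⁻¹ * k * o ∈ K := by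
    have := (Subgroup.mem_normalizer_iff.mp (hOK (O.inv_mem ho)) k).mp hk
    simpa using this
  have e : o * (o⁻¹ * k * o) = k * o := by group
  have h1 := pow_mul_mem_of_mem_normalizer (hOK ho) hk' (p ^ b)
  rw [e, hb, inv_one, one_mul] at h1
  obtain ⟨m, hm⟩ := exists_pow_eq_self_of_coprime (x := k * o) (n := p ^ b)
    (Nat.Coprime.pow_left b hc.symm)
  rw [← hm]
  exact K.pow_mem h1 m

/-- Mathlib's normal closure inside `H`, mapped to the ambient group, is `fhNC` -/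
theorem fhNC_eq_normalClosure {G : Type*} [Group G] {H A : Subgroup G} (hA : A ≤ H) :
    (Subgroup.normalClosure ((A.subgroupOf H : Subgroup ↥H) : Set ↥H)).map H.subtype =
      fhNC H A := by
  unfold Subgroup.normalClosure fhNC
  rw [MonoidHom.map_closure]
  congr 1
  ext x
  constructor
  · rintro ⟨y, hy, rfl⟩
    obtain ⟨b, hb, hconj⟩ := Group.mem_conjugatesOfSet_iff.mp hy
    obtain ⟨c, hc⟩ := isConj_iff.mp hconj
    exact ⟨c, c.2, b, Subgroup.mem_subgroupOf.mp hb, by rw [← hc]; rfl⟩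
  · rintro ⟨h, hh, o, ho, rfl⟩
    refine ⟨⟨h, hh⟩ * ⟨o, hA ho⟩ * ⟨h, hh⟩⁻¹, ?_, rfl⟩
    exact Group.mem_conjugatesOfSet_iff.mpr
      ⟨⟨o, hA ho⟩, Subgroup.mem_subgroupOf.mpr ho, isConj_iff.mpr ⟨⟨h, hh⟩, rfl⟩⟩

/-- a Sylow subgroup of a parabolic subgroup `K` of `H` is a Sylow subgroup of `H` -/
theorem fh_sylow {G : Type*} [Group G] [Finite G] {p : ℕ} [Fact p.Prime] (H K : Subgroup G)
    (hKH : K ≤ H) (hpar : Cfsg.IsParabolic p (K.subgroupOf H)) (T : Sylow p ↥K) :
    ∃ P : Sylow p ↥H, (P : Subgroup ↥H).map H.subtype = (T : Subgroup ↥K).map K.subtype := by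
  obtain ⟨T₀, hT₀⟩ := hpar
  have h1 : Nat.card (T₀ : Subgroup ↥H) = p ^ (Nat.card ↥H).factorization p :=
    T₀.card_eq_multiplicity
  have h2 : Nat.card (T : Subgroup ↥K) = p ^ (Nat.card ↥K).factorization p :=
    T.card_eq_multiplicity
  have h3 : sylowImage T₀ ≤ K := by
    rintro x ⟨y, hy, rfl⟩
    exact Subgroup.mem_subgroupOf.mp (hT₀ hy)
  have h4 : Nat.card ↥(sylowImage T₀) = Nat.card (T₀ : Subgroup ↥H) :=
    (Nat.card_congr (Subgroup.equivMapOfInjective _ H.subtype H.subtype_injective).toEquiv).symm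
  have h5 : p ^ (Nat.card ↥H).factorization p ∣ Nat.card ↥K := by
    rw [← h1, ← h4]; exact Subgroup.card_dvd_of_le h3
  have hK0 : Nat.card ↥K ≠ 0 := Nat.card_pos.ne'
  have h6 : (Nat.card ↥H).factorization p ≤ (Nat.card ↥K).factorization p :=
    (Nat.Prime.pow_dvd_iff_le_factorization Fact.out hK0).mp h5
  have h7 : (Nat.card ↥K).factorization p ≤ (Nat.card ↥H).factorization p := by
    have hd : Nat.card ↥K ∣ Nat.card ↥H := Subgroup.card_dvd_of_le hKH
    exact (Nat.factorization_le_iff_dvd hK0 Nat.card_pos.ne').mpr hd p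
  have h8 : (Nat.card ↥K).factorization p = (Nat.card ↥H).factorization p := le_antisymm h7 h6
  have hX : sylowImage T ≤ H := (sylowImage_le T).trans hKH
  have hXc : Nat.card ↥((sylowImage T).subgroupOf H) = p ^ (Nat.card ↥H).factorization p := by
    rw [Nat.card_congr (Subgroup.subgroupOfEquivOfLe hX).toEquiv,
      ← Nat.card_congr (Subgroup.equivMapOfInjective _ K.subtype K.subtype_injective).toEquiv,
      h2, h8]
  refine ⟨Sylow.ofCard _ hXc, ?_⟩
  rw [Sylow.coe_ofCard]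
  exact Subgroup.map_subgroupOf_eq_of_le hX

/-- the structure of `H ∈ ℌ_G(O_p(M))` when `Y_M` is asymmetric -/
theorem fh_struct {G : Type*} [Group G] [Finite G] {p : ℕ} [Fact p.Prime] (S : Sylow p G)
    (Q : Subgroup G) (hQp : IsPGroup p ↥Q) (hQ1 : Q ≠ ⊥) (hQS : Q ≤ (S : Subgroup G))
    (hQ : Cfsg.IsLarge Q) (M : Subgroup G) (hSM : (S : Subgroup G) ≤ M)
    (hM : Cfsg.IsInFrakM p M) (hasym : ¬ Cfsg.IsSymmetricIn (Cfsg.largestPReducedOf p M))
    (H : Subgroup G) (hH : Cfsg.IsInFrakH p M H) :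
    (∀ K : Subgroup G, IsPGroup p ↥K → Cfsg.pCoreOf p M ≤ K →
      K ≤ Subgroup.normalizer ((Cfsg.pCoreOf p M : Subgroup G) : Set G)) ∧
    Subgroup.normalizer ((Cfsg.pCoreOf p M : Subgroup G) : Set G) ≤
      M ⊔ Subgroup.centralizer ((Cfsg.largestPReducedOf p M : Subgroup G) : Set G) ∧
    Subgroup.normalizer ((Cfsg.largestPReducedOf p M : Subgroup G) : Set G) =
      M ⊔ Subgroup.centralizer ((Cfsg.largestPReducedOf p M : Subgroup G) : Set G) ∧
    fhNC H (Cfsg.pCoreOf p M) = H ∧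
    (Cfsg.pResidual p ↥H).map H.subtype ⊔ Cfsg.pCoreOf p M = H ∧
    ⁅(Cfsg.pResidual p ↥H).map H.subtype, Cfsg.largestPReducedOf p M⁆ =
      (Cfsg.pResidual p ↥H).map H.subtype ∧
    (Cfsg.pResidual p ↥H).map H.subtype ⊔ Cfsg.largestPReducedOf p M =
      fhNC H (Cfsg.largestPReducedOf p M) := by
  obtain ⟨hA, -, -, -⟩ := asym_main S Q hQp hQ1 hQS hQ M hSM hM hasym
  have hNI := fun I hI1 hIp hIM =>
    lst_normalizer_le S Q hQp hQ1 hQS hQ M hSM hM I hI1 hIp hIM
  obtain ⟨-, hOH, hYH, hmin⟩ := hH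
  obtain ⟨Y, hYdef⟩ : ∃ Y, Y = Cfsg.largestPReducedOf p M := ⟨_, rfl⟩
  obtain ⟨O, hOdef⟩ : ∃ O, O = Cfsg.pCoreOf p M := ⟨_, rfl⟩
  obtain ⟨R, hRdef⟩ : ∃ R, R = (Cfsg.pResidual p ↥H).map H.subtype := ⟨_, rfl⟩
  obtain ⟨Md, hMd⟩ : ∃ Md : Subgroup G, Md = M ⊔ Subgroup.centralizer (Y : Set G) := ⟨_, rfl⟩
  rw [← hYdef] at hA hNI hYH hmin ⊢
  rw [← hOdef] at hA hOH hmin ⊢
  rw [← hMd] at hA hNI ⊢
  rw [← hRdef]
  have hMnY : M ≤ normalizer (Y : Set G) := by
    rw [hYdef]; exact (largestPReducedOf_spec p M).1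
  have hMdnY : Md ≤ normalizer (Y : Set G) := by
    rw [hMd]; exact sup_le hMnY (Subgroup.centralizer_le_normalizer _)
  have hYO : Y ≤ O := by rw [hYdef, hOdef]; exact largestPReducedOf_le_pCoreOf M
  have hOp : IsPGroup p ↥O := by rw [hOdef]; exact pCoreOf_isPGroup' p M
  have hYp : IsPGroup p ↥Y := hOp.to_le hYO
  have hOM : O ≤ M := by rw [hOdef]; exact pCoreOf_le' p M
  have hOnY : O ≤ normalizer (Y : Set G) := hOM.trans hMnY
  have hY1 : Y ≠ ⊥ := by
    intro h; apply hYH; rw [h]; exact bot_le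
  have hNO : normalizer (O : Set G) ≤ Md := (hA O hOp le_rfl).2
  have hNY : normalizer (Y : Set G) = Md := le_antisymm (hNI Y hY1 hYp hMnY) hMdnY
  have hpn : ∀ K : Subgroup G, IsPGroup p ↥K → O ≤ K → K ≤ normalizer (O : Set G) :=
    fun K hK hOK => Subgroup.le_normalizer.trans (hA K hK hOK).1
  have hYH' : Y ≤ H := hYO.trans hOH
  have hRH : R ≤ H := by rw [hRdef]; exact map_pResidual_le p H
  have hHnR : H ≤ normalizer (R : Set G) := by
    rw [hRdef, map_pResidual_eq]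
    apply tc_le_normalizer_closure
    rintro b hb s ⟨hs, hc⟩
    exact ⟨H.mul_mem (H.mul_mem hb hs) (H.inv_mem hb), by rw [orderOf_conj_eq]; exact hc⟩
  -- `H = ⟨O^H⟩`
  have hgen : fhNC H O = H := by
    by_contra hne
    have hlt : fhNC H O < H := lt_of_le_of_ne (fhNC_le hOH) hne
    exact hYH ((hmin _ (fhNC_ge H O) hlt).trans
      (fh_pCoreOf_le (fhNC_le hOH) (fhNC_normal H O)))
  -- `H = R O`
  have hRO : R ⊔ O = H := by
    by_contra hne
    have hle : R ⊔ O ≤ H := sup_le hRH hOH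
    have hlt : R ⊔ O < H := lt_of_le_of_ne hle hne
    have hYB := hmin _ le_sup_right hlt
    obtain ⟨B, hB⟩ : ∃ B, B = Cfsg.pCoreOf p (R ⊔ O) := ⟨_, rfl⟩
    rw [← hB] at hYB
    have hBp : IsPGroup p ↥B := by rw [hB]; exact pCoreOf_isPGroup' p _
    have hPB : R ⊔ O ≤ normalizer (B : Set G) := by
      rw [hB]; exact le_normalizer_pCoreOf p _
    obtain ⟨DH, hDH⟩ : ∃ DH, DH = Cfsg.pCoreOf p H := ⟨_, rfl⟩
    have hDHp : IsPGroup p ↥DH := by rw [hDH]; exact pCoreOf_isPGroup' p _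
    have hHDH : H ≤ normalizer (DH : Set G) := by rw [hDH]; exact le_normalizer_pCoreOf p _
    have hDHH : DH ≤ H := by rw [hDH]; exact pCoreOf_le' p _
    have h1 : B ⊓ R ≤ DH := by
      have h2 : B ⊓ R ≤ Cfsg.pCoreOf p R := by
        apply le_pCoreOf' inf_le_right ?_ (hBp.to_le inf_le_left)
        intro r hr
        apply mem_normalizer_of_cj_eq_self
        rw [cj_inf, cj_eq_self_of_mem_normalizer (hPB (le_sup_left (a := R) hr)),
          cj_eq_self_of_mem hr]
      rw [hDH]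
      exact h2.trans (fh_pCoreOf_le hRH hHnR)
    have hcomm : ∀ r ∈ R, ∀ y ∈ Y, r * y * r⁻¹ * y⁻¹ ∈ DH := by
      intro r hr y hy
      apply h1
      refine ⟨?_, ?_⟩
      · have h2 : r * y * r⁻¹ ∈ B :=
          (Subgroup.mem_normalizer_iff.mp (hPB (le_sup_left (a := R) hr)) y).mp (hYB hy)
        exact B.mul_mem h2 (B.inv_mem (hYB hy))
      · have h2 : y * r⁻¹ * y⁻¹ ∈ R :=
          (Subgroup.mem_normalizer_iff.mp (hHnR (hYH' hy)) r⁻¹).mp (R.inv_mem hr)
        have e : r * y * r⁻¹ * y⁻¹ = r * (y * r⁻¹ * y⁻¹) := by group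
        rw [e]; exact R.mul_mem hr h2
    obtain ⟨T, hT⟩ := (hOp.comap_subtype (K := H)).exists_le_sylow
    have hOT : O ≤ sylowImage T := by
      intro o ho
      exact ⟨⟨o, hOH ho⟩, hT (show (⟨o, hOH ho⟩ : ↥H) ∈ O.comap H.subtype from ho), rfl⟩
    have hTn : sylowImage T ≤ normalizer (O : Set G) := hpn _ (sylowImage_isPGroup T) hOT
    have hTY : sylowImage T ≤ normalizer (Y : Set G) := hTn.trans (hNO.trans hMdnY)
    have hTH : sylowImage T ≤ H := sylowImage_le T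
    have hRT : R ⊔ sylowImage T = H := by
      have h2 := pResidual_sup_sylow T
      have h3 := congrArg (Subgroup.map H.subtype) h2
      rw [Subgroup.map_sup, ← MonoidHom.range_eq_map, Subgroup.range_subtype] at h3
      rw [hRdef]; exact h3
    have hW : H ≤ normalizer ((Y ⊔ DH : Subgroup G) : Set G) := by
      rw [← hRT]
      apply sup_le
      · intro r hr
        apply mem_normalizer_of_cj_le
        rw [cj_sup, cj_eq_self_of_mem_normalizer (hHDH (hRH hr))]
        apply sup_le _ le_sup_right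
        intro z hz
        obtain ⟨y, hy, rfl⟩ := mem_cj'.mp hz
        have e : r * y * r⁻¹ = (r * y * r⁻¹ * y⁻¹) * y := by group
        rw [e]
        exact (Y ⊔ DH).mul_mem (le_sup_right (a := Y) (hcomm r hr y hy))
          (le_sup_left (b := DH) hy)
      · intro t ht
        apply mem_normalizer_of_cj_eq_self
        rw [cj_sup, cj_eq_self_of_mem_normalizer (hTY ht),
          cj_eq_self_of_mem_normalizer (hHDH (hTH ht))]
    have hWp : IsPGroup p ↥(Y ⊔ DH) :=
      IsPGroup.to_sup_of_normal_right' hYp hDHp (hYH'.trans hHDH)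
    have hWle : Y ⊔ DH ≤ Cfsg.pCoreOf p H := le_pCoreOf' (sup_le hYH' hDHH) hW hWp
    exact hYH (le_sup_left.trans hWle)
  -- `R = [R, Y]`
  have hK : ⁅R, Y⁆ = R := by
    obtain ⟨K, hKdef⟩ : ∃ K : Subgroup G, K = ⁅R, Y⁆ := ⟨_, rfl⟩
    rw [← hKdef]
    have hKR : K ≤ R := by
      rw [hKdef]; exact commutator_le_left_of_le_normalizer (hYH'.trans hHnR)
    have hRK : R ≤ normalizer (K : Set G) := by
      rw [hKdef]; exact le_normalizer_commutator_left R Y
    have hOK : O ≤ normalizer (K : Set G) := by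
      intro o ho
      apply mem_normalizer_of_cj_eq_self
      rw [hKdef, cj_commutator, cj_eq_self_of_mem_normalizer (hHnR (hOH ho)),
        cj_eq_self_of_mem_normalizer (hOnY ho)]
    apply le_antisymm hKR
    have hV : H ≤ normalizer ((K ⊔ Y : Subgroup G) : Set G) := by
      rw [← hRO]
      apply sup_le
      · intro r hr
        apply mem_normalizer_of_cj_le
        rw [cj_sup, cj_eq_self_of_mem_normalizer (hRK hr)]
        apply sup_le le_sup_left
        intro z hz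
        obtain ⟨y, hy, rfl⟩ := mem_cj'.mp hz
        have e : r * y * r⁻¹ = (r * y * r⁻¹ * y⁻¹) * y := by group
        rw [e]
        have hc : r * y * r⁻¹ * y⁻¹ ∈ K := by
          rw [hKdef]; exact Subgroup.commutator_mem_commutator hr hy
        exact (K ⊔ Y).mul_mem (le_sup_left (b := Y) hc) (le_sup_right (a := K) hy)
      · intro o ho
        apply mem_normalizer_of_cj_eq_self
        rw [cj_sup, cj_eq_self_of_mem_normalizer (hOK ho),
          cj_eq_self_of_mem_normalizer (hOnY ho)]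
    by_cases hP : K ⊔ O = H
    · rw [hRdef, map_pResidual_eq, Subgroup.closure_le]
      rintro x ⟨hx, hc⟩
      exact fh_coprime_mem hOp hOK (hP.ge hx) hc
    · exfalso
      have hle : K ⊔ O ≤ H := sup_le (hKR.trans hRH) hOH
      have hlt : K ⊔ O < H := lt_of_le_of_ne hle hP
      have hYB := hmin _ le_sup_right hlt
      have h1 : Y ≤ Cfsg.pCoreOf p (K ⊔ Y) := by
        have hVP : K ⊔ Y ≤ K ⊔ O := sup_le le_sup_left (hYO.trans le_sup_right)
        have h2 : Cfsg.pCoreOf p (K ⊔ O) ⊓ (K ⊔ Y) ≤ Cfsg.pCoreOf p (K ⊔ Y) := by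
          apply le_pCoreOf' inf_le_right ?_ ((pCoreOf_isPGroup' p _).to_le inf_le_left)
          intro v hv
          apply mem_normalizer_of_cj_eq_self
          rw [cj_inf, cj_eq_self_of_mem_normalizer (le_normalizer_pCoreOf p _ (hVP hv)),
            cj_eq_self_of_mem hv]
        exact (le_inf hYB le_sup_right).trans h2
      exact hYH (h1.trans (fh_pCoreOf_le (sup_le (hKR.trans hRH) hYH') hV))
  -- `R Y = ⟨Y^H⟩`
  have hRY : R ⊔ Y = fhNC H Y := by
    apply le_antisymm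
    · apply sup_le _ (fhNC_ge H Y)
      rw [← hK]
      exact (Subgroup.commutator_mono le_rfl (fhNC_ge H Y)).trans
        (commutator_le_right_of_le_normalizer (hRH.trans (fhNC_normal H Y)))
    · have hn : H ≤ normalizer ((R ⊔ Y : Subgroup G) : Set G) := by
        rw [← hRO]
        apply sup_le (le_sup_left.trans Subgroup.le_normalizer)
        intro o ho
        apply mem_normalizer_of_cj_eq_self
        rw [cj_sup, cj_eq_self_of_mem_normalizer (hHnR (hOH ho)),
          cj_eq_self_of_mem_normalizer (hOnY ho)]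
      unfold fhNC
      rw [Subgroup.closure_le]
      rintro x ⟨h, hh, y, hy, rfl⟩
      exact (Subgroup.mem_normalizer_iff.mp (hn hh) y).mp (le_sup_right (a := R) hy)
  exact ⟨hpn, hNO, hNY, hgen, hRO, hK, hRY⟩

/-- S2853 -/
theorem fh_main53 {G : Type*} [Group G] [Finite G] {p : ℕ} [Fact p.Prime] (S : Sylow p G)
    (Q : Subgroup G) (hQp : IsPGroup p ↥Q) (hQ1 : Q ≠ ⊥) (hQS : Q ≤ (S : Subgroup G))
    (hQ : Cfsg.IsLarge Q) (M : Subgroup G) (hSM : (S : Subgroup G) ≤ M)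
    (hM : Cfsg.IsInFrakM p M) (hasym : ¬ Cfsg.IsSymmetricIn (Cfsg.largestPReducedOf p M))
    (H : Subgroup G) (hH : Cfsg.IsInFrakH p M H) (R : Subgroup G)
    (hR : R = (Cfsg.pResidual p ↥H).map H.subtype) :
    (∀ T : Sylow p ↥(H ⊓ (M ⊔ Subgroup.centralizer
        (((Cfsg.largestPReducedOf p M) : Subgroup G) : Set G))),
      ∃ P : Sylow p ↥H, ((P : Subgroup ↥H).map H.subtype) =
        (T : Subgroup ↥(H ⊓ (M ⊔ Subgroup.centralizer
          (((Cfsg.largestPReducedOf p M) : Subgroup G) : Set G)))).map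
          (H ⊓ (M ⊔ Subgroup.centralizer
            (((Cfsg.largestPReducedOf p M) : Subgroup G) : Set G))).subtype) ∧
    Cfsg.pCoreOf p H ≤ Subgroup.normalizer (((Cfsg.pCoreOf p M) : Subgroup G) : Set G) ⊓
      Subgroup.normalizer (((Cfsg.largestPReducedOf p M) : Subgroup G) : Set G) ∧
    ⁅R, (Cfsg.largestPReducedOf p M)⁆ = R ∧ R ⊔ (Cfsg.pCoreOf p M) = H ∧
    R ⊔ (Cfsg.largestPReducedOf p M) =
      (Subgroup.normalClosure ((((Cfsg.largestPReducedOf p M)).subgroupOf H : Subgroup ↥H) :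
        Set ↥H)).map H.subtype ∧
    (Subgroup.normalClosure ((((Cfsg.pCoreOf p M)).subgroupOf H : Subgroup ↥H) :
      Set ↥H)).map H.subtype = H := by
  obtain ⟨hpn, hNO, hNY, hgen, hRO, hK, hRY⟩ :=
    fh_struct S Q hQp hQ1 hQS hQ M hSM hM hasym H hH
  obtain ⟨-, -, hPar, -⟩ := asym_main S Q hQp hQ1 hQS hQ M hSM hM hasym
  have hOH : Cfsg.pCoreOf p M ≤ H := hH.2.1
  have hYO : Cfsg.largestPReducedOf p M ≤ Cfsg.pCoreOf p M := largestPReducedOf_le_pCoreOf M
  subst hR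
  refine ⟨?_, ?_, hK, hRO, ?_, ?_⟩
  · intro T
    exact fh_sylow H _ inf_le_left (hPar H hOH) T
  · have h1 : Cfsg.pCoreOf p H ≤
        Subgroup.normalizer (((Cfsg.pCoreOf p M) : Subgroup G) : Set G) := by
      have h2 : IsPGroup p ↥(Cfsg.pCoreOf p M ⊔ Cfsg.pCoreOf p H) :=
        IsPGroup.to_sup_of_normal_right' (pCoreOf_isPGroup' p M) (pCoreOf_isPGroup' p H)
          (hOH.trans (le_normalizer_pCoreOf p H))
      exact le_sup_right.trans (hpn _ h2 le_sup_left)
    exact le_inf h1 (h1.trans (hNO.trans hNY.ge))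
  · rw [fhNC_eq_normalClosure (hYO.trans hOH)]; exact hRY
  · rw [fhNC_eq_normalClosure hOH]; exact hgen

/-- S2854 -/
theorem fh_main54 {G : Type*} [Group G] [Finite G] {p : ℕ} [Fact p.Prime] (S : Sylow p G)
    (Q : Subgroup G) (hQp : IsPGroup p ↥Q) (hQ1 : Q ≠ ⊥) (hQS : Q ≤ (S : Subgroup G))
    (hQ : Cfsg.IsLarge Q) (M : Subgroup G) (hSM : (S : Subgroup G) ≤ M)
    (hM : Cfsg.IsInFrakM p M) (hasym : ¬ Cfsg.IsSymmetricIn (Cfsg.largestPReducedOf p M))
    (H : Subgroup G) (hH : Cfsg.IsInFrakH p M H) (g : G)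
    (hHQ : H ≤ Subgroup.normalizer ((((Q : Subgroup G).map (MulAut.conj (g : G)).toMonoidHom) :
      Subgroup G) : Set G)) :
    ((Q : Subgroup G).map (MulAut.conj (g : G)).toMonoidHom) ≤
      Cfsg.pCoreOf p (H ⊔ ((Q : Subgroup G).map (MulAut.conj (g : G)).toMonoidHom)) ∧
    Cfsg.pCoreOf p (H ⊔ ((Q : Subgroup G).map (MulAut.conj (g : G)).toMonoidHom)) ≤
      Subgroup.normalizer (((Cfsg.pCoreOf p M) : Subgroup G) : Set G) ∧
    Subgroup.normalizer (((Cfsg.pCoreOf p M) : Subgroup G) : Set G) ≤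
      Subgroup.normalizer (((Cfsg.largestPReducedOf p M) : Subgroup G) : Set G) ∧
    Subgroup.normalizer (((Cfsg.largestPReducedOf p M) : Subgroup G) : Set G) =
      (M ⊔ Subgroup.centralizer (((Cfsg.largestPReducedOf p M) : Subgroup G) : Set G)) ∧
    (H.subgroupOf (H ⊔ ((Q : Subgroup G).map (MulAut.conj (g : G)).toMonoidHom))).Normal ∧
    (Cfsg.pResidual p ↥H).map H.subtype =
      (Cfsg.pResidual p ↥(H ⊔ ((Q : Subgroup G).map (MulAut.conj (g : G)).toMonoidHom))).map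
        (H ⊔ ((Q : Subgroup G).map (MulAut.conj (g : G)).toMonoidHom)).subtype ∧
    Cfsg.IsPIrreducible p ↥(H ⊔ ((Q : Subgroup G).map (MulAut.conj (g : G)).toMonoidHom)) := by
  obtain ⟨hpn, hNO, hNY, hgen, hRO, hK, hRY⟩ :=
    fh_struct S Q hQp hQ1 hQS hQ M hSM hM hasym H hH
  obtain ⟨-, hOH, hYH, hmin⟩ := hH
  obtain ⟨Qg, hQg⟩ : ∃ Qg : Subgroup G, Qg = Q.map (MulAut.conj g).toMonoidHom := ⟨_, rfl⟩
  rw [← hQg] at hHQ ⊢
  obtain ⟨Y, hYdef⟩ : ∃ Y, Y = Cfsg.largestPReducedOf p M := ⟨_, rfl⟩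
  obtain ⟨O, hOdef⟩ : ∃ O, O = Cfsg.pCoreOf p M := ⟨_, rfl⟩
  obtain ⟨R, hRdef⟩ : ∃ R, R = (Cfsg.pResidual p ↥H).map H.subtype := ⟨_, rfl⟩
  rw [← hYdef] at hNO hNY hK hRY hYH hmin ⊢
  rw [← hOdef] at hpn hNO hgen hRO hOH hmin ⊢
  rw [← hRdef] at hRO hK hRY ⊢
  obtain ⟨Hs, hHs⟩ : ∃ Hs : Subgroup G, Hs = H ⊔ Qg := ⟨_, rfl⟩
  rw [← hHs]
  have hYO : Y ≤ O := by rw [hYdef, hOdef]; exact largestPReducedOf_le_pCoreOf M
  have hOp : IsPGroup p ↥O := by rw [hOdef]; exact pCoreOf_isPGroup' p M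
  have hYp : IsPGroup p ↥Y := hOp.to_le hYO
  have hYH' : Y ≤ H := hYO.trans hOH
  have hQgp : IsPGroup p ↥Qg := by rw [hQg]; exact hQp.map _
  have hHHs : H ≤ Hs := hHs ▸ le_sup_left
  have hQgHs : Qg ≤ Hs := hHs ▸ le_sup_right
  have hHsQg : Hs ≤ normalizer (Qg : Set G) := by
    rw [hHs]; exact sup_le hHQ Subgroup.le_normalizer
  have ha : Qg ≤ Cfsg.pCoreOf p Hs := le_pCoreOf' hQgHs hHsQg hQgp
  have hb : Cfsg.pCoreOf p Hs ≤ normalizer (O : Set G) := by
    have h2 : IsPGroup p ↥(O ⊔ Cfsg.pCoreOf p Hs) :=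
      IsPGroup.to_sup_of_normal_right' hOp (pCoreOf_isPGroup' p Hs)
        ((hOH.trans hHHs).trans (le_normalizer_pCoreOf p Hs))
    exact le_sup_right.trans (hpn _ h2 le_sup_left)
  have hQgO : Qg ≤ normalizer (O : Set G) := ha.trans hb
  -- `Qg` normalizes `H`
  have hQgH : Qg ≤ normalizer (H : Set G) := by
    have h1 : Qg ≤ normalizer ((fhNC H O : Subgroup G) : Set G) := by
      apply tc_le_normalizer_closure
      rintro q hq s ⟨h, hh, o, ho, rfl⟩
      have hq' : h⁻¹ * q * h ∈ Qg := by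
        have := (Subgroup.mem_normalizer_iff.mp (hHQ (H.inv_mem hh)) q).mp hq
        simpa using this
      have ho' : (h⁻¹ * q * h) * o * (h⁻¹ * q * h)⁻¹ ∈ O :=
        (Subgroup.mem_normalizer_iff.mp (hQgO hq') o).mp ho
      exact ⟨h, hh, _, ho', by group⟩
    rwa [hgen] at h1
  have hHsH : Hs ≤ normalizer (H : Set G) := by
    rw [hHs]; exact sup_le Subgroup.le_normalizer hQgH
  have he : (H.subgroupOf Hs).Normal :=
    (Subgroup.normal_subgroupOf_iff_le_normalizer hHHs).mpr hHsH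
  have hcop : ∀ x ∈ Hs, (orderOf x).Coprime p → x ∈ H := by
    intro x hx hc
    rw [hHs] at hx
    exact fh_coprime_mem hQgp hQgH hx hc
  have hf : R = (Cfsg.pResidual p ↥Hs).map Hs.subtype := by
    rw [hRdef]
    apply le_antisymm
    · exact map_pResidual_le_of_coprime_mem (fun x hx _ => hHHs hx)
    · exact map_pResidual_le_of_coprime_mem hcop
  have hg : Cfsg.IsPIrreducible p ↥Hs := by
    constructor
    · intro hcl
      have hclH : Cfsg.IsPClosed p ↥H := isPClosed_of_le hHHs hcl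
      obtain ⟨S₀, hS₀, hall⟩ := (isPClosed_subgroup_iff H).mp hclH
      have h1 : S₀ ⊓ H ≤ Cfsg.pCoreOf p H := by
        apply le_pCoreOf' inf_le_right ?_ (hS₀.to_le inf_le_left)
        intro h hh
        apply mem_normalizer_of_cj_le
        intro z hz
        obtain ⟨x, hx, rfl⟩ := mem_cj'.mp hz
        have hxH : h * x * h⁻¹ ∈ H := H.mul_mem (H.mul_mem hh hx.2) (H.inv_mem hh)
        refine ⟨hall _ hxH ?_, hxH⟩
        obtain ⟨k, hk⟩ := exists_pow_of_isPGroup (hS₀.to_le (inf_le_left (b := H))) hx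
        exact ⟨k, by rw [conj_pow, hk]; group⟩
      apply hYH
      intro y hy
      exact h1 ⟨hall y (hYH' hy) (exists_pow_of_isPGroup hYp hy), hYH' hy⟩
    · intro N hNn hNcl
      obtain ⟨N', hN'⟩ : ∃ N' : Subgroup G, N' = N.map Hs.subtype := ⟨_, rfl⟩
      have hN'Hs : N' ≤ Hs := by rw [hN']; exact Subgroup.map_subtype_le _
      have hHsN' : Hs ≤ normalizer (N' : Set G) := by
        rw [hN']; exact Cfsg.Agent.Helper17.le_normalizer_map_subtype N
      have hN'cl : ¬ Cfsg.IsPClosed p ↥N' := by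
        intro h
        apply hNcl
        apply isPClosed_of_map Hs.subtype ?_ N (by rw [← hN']; exact h)
        rw [Subgroup.ker_subtype]; exact IsPGroup.of_bot
      suffices hsuff : R ≤ N' by
        intro x hx
        have h1 : (x : G) ∈ R := by rw [hf]; exact ⟨x, hx, rfl⟩
        have h2 := hsuff h1
        rw [hN'] at h2
        obtain ⟨y, hy, hyx⟩ := h2
        have h3 : y = x := Subtype.ext hyx
        rw [← h3]; exact hy
      obtain ⟨N₁, hN₁⟩ : ∃ N₁ : Subgroup G, N₁ = N' ⊓ H := ⟨_, rfl⟩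
      have hN₁H : N₁ ≤ H := hN₁ ▸ inf_le_right
      have hN₁N' : N₁ ≤ N' := hN₁ ▸ inf_le_left
      have hHsN₁ : Hs ≤ normalizer (N₁ : Set G) := by
        intro a ha'
        apply mem_normalizer_of_cj_eq_self
        rw [hN₁, cj_inf, cj_eq_self_of_mem_normalizer (hHsN' ha'),
          cj_eq_self_of_mem_normalizer (hHsH ha')]
      have hON₁ : O ≤ normalizer (N₁ : Set G) := (hOH.trans hHHs).trans hHsN₁
      by_cases hP : N₁ ⊔ O = H
      · rw [hRdef, map_pResidual_eq, Subgroup.closure_le]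
        rintro x ⟨hx, hc⟩
        exact hN₁N' (fh_coprime_mem hOp hON₁ (hP.ge hx) hc)
      · exfalso
        have hle : N₁ ⊔ O ≤ H := sup_le hN₁H hOH
        have hlt : N₁ ⊔ O < H := lt_of_le_of_ne hle hP
        have hYB := hmin _ le_sup_right hlt
        have hB1 : ∀ n ∈ N', ∀ y ∈ Y, n * y * n⁻¹ * y⁻¹ ∈ N₁ := by
          intro n hn y hy
          rw [hN₁]
          refine ⟨?_, ?_⟩
          · have h2 : y * n⁻¹ * y⁻¹ ∈ N' :=
              (Subgroup.mem_normalizer_iff.mp (hHsN' (hHHs (hYH' hy))) n⁻¹).mp (N'.inv_mem hn)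
            have e : n * y * n⁻¹ * y⁻¹ = n * (y * n⁻¹ * y⁻¹) := by group
            rw [e]; exact N'.mul_mem hn h2
          · have h2 : n * y * n⁻¹ ∈ H :=
              (Subgroup.mem_normalizer_iff.mp (hHsH (hN'Hs hn)) y).mp (hYH' hy)
            exact H.mul_mem h2 (H.inv_mem (hYH' hy))
        obtain ⟨W, hW⟩ : ∃ W : Subgroup G, W = N₁ ⊔ Y := ⟨_, rfl⟩
        have hWP : W ≤ N₁ ⊔ O := by
          rw [hW]; exact sup_le le_sup_left (hYO.trans le_sup_right)
        have hN'W : N' ≤ normalizer (W : Set G) := by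
          intro n hn
          apply mem_normalizer_of_cj_le
          rw [hW, cj_sup, cj_eq_self_of_mem_normalizer (hHsN₁ (hN'Hs hn))]
          apply sup_le le_sup_left
          intro z hz
          obtain ⟨y, hy, rfl⟩ := mem_cj'.mp hz
          have e : n * y * n⁻¹ = (n * y * n⁻¹ * y⁻¹) * y := by group
          rw [e]
          exact (N₁ ⊔ Y).mul_mem (le_sup_left (b := Y) (hB1 n hn y hy))
            (le_sup_right (a := N₁) hy)
        have hYW : Y ≤ Cfsg.pCoreOf p W := by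
          have h2 : Cfsg.pCoreOf p (N₁ ⊔ O) ⊓ W ≤ Cfsg.pCoreOf p W := by
            apply le_pCoreOf' inf_le_right ?_ ((pCoreOf_isPGroup' p _).to_le inf_le_left)
            intro v hv
            apply mem_normalizer_of_cj_eq_self
            rw [cj_inf, cj_eq_self_of_mem_normalizer (le_normalizer_pCoreOf p _ (hWP hv)),
              cj_eq_self_of_mem hv]
          exact (le_inf hYB (by rw [hW]; exact le_sup_right)).trans h2
        obtain ⟨B₃, hB₃⟩ : ∃ B₃ : Subgroup G, B₃ = Cfsg.pCoreOf p N' := ⟨_, rfl⟩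
        have hN'B₂ : N' ≤ normalizer ((Cfsg.pCoreOf p W : Subgroup G) : Set G) :=
          hN'W.trans (normalizer_le_normalizer_pCoreOf p W)
        have hC₀ : Cfsg.pCoreOf p W ⊓ N' ≤ B₃ := by
          rw [hB₃]
          apply le_pCoreOf' inf_le_right ?_ ((pCoreOf_isPGroup' p _).to_le inf_le_left)
          intro n hn
          apply mem_normalizer_of_cj_eq_self
          rw [cj_inf, cj_eq_self_of_mem_normalizer (hN'B₂ hn), cj_eq_self_of_mem hn]
        have hB4 : ∀ n ∈ N', ∀ y ∈ Y, n * y * n⁻¹ * y⁻¹ ∈ B₃ := by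
          intro n hn y hy
          apply hC₀
          refine ⟨?_, hN₁N' (hB1 n hn y hy)⟩
          have h2 : n * y * n⁻¹ ∈ Cfsg.pCoreOf p W :=
            (Subgroup.mem_normalizer_iff.mp (hN'B₂ hn) y).mp (hYW hy)
          exact Subgroup.mul_mem _ h2 (Subgroup.inv_mem _ (hYW hy))
        have hHsB₃ : Hs ≤ normalizer (B₃ : Set G) := by
          rw [hB₃]; exact hHsN'.trans (normalizer_le_normalizer_pCoreOf p N')
        have hB5 : ∀ r ∈ Subgroup.closure {x | ∃ h ∈ H, ∃ o ∈ Y, x = h * o * h⁻¹},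
            ∀ n ∈ N', r * n * r⁻¹ * n⁻¹ ∈ B₃ := by
          apply lst_comm_closure _ Hs N' B₃ ?_ hHsB₃ ?_
          · rintro s ⟨h, hh, y, hy, rfl⟩
            exact Hs.mul_mem (Hs.mul_mem (hHHs hh) (hHHs (hYH' hy))) (Hs.inv_mem (hHHs hh))
          · rintro s ⟨h, hh, y, hy, rfl⟩ n hn
            have hn' : h⁻¹ * n * h ∈ N' := by
              have := (Subgroup.mem_normalizer_iff.mp (hHsN' (Hs.inv_mem (hHHs hh))) n).mp hn
              simpa using this
            have h2 := hB4 _ hn' y hy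
            have h3 : y * (h⁻¹ * n * h) * y⁻¹ * (h⁻¹ * n * h)⁻¹ ∈ B₃ := by
              have h4 := B₃.inv_mem h2
              have e : ((h⁻¹ * n * h) * y * (h⁻¹ * n * h)⁻¹ * y⁻¹)⁻¹ =
                  y * (h⁻¹ * n * h) * y⁻¹ * (h⁻¹ * n * h)⁻¹ := by group
              rwa [e] at h4
            have h5 := (Subgroup.mem_normalizer_iff.mp (hHsB₃ (hHHs hh)) _).mp h3
            have e : h * (y * (h⁻¹ * n * h) * y⁻¹ * (h⁻¹ * n * h)⁻¹) * h⁻¹ =
                h * y * h⁻¹ * n * (h * y * h⁻¹)⁻¹ * n⁻¹ := by group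
            rwa [e] at h5
        apply hN'cl
        have hN'R : ∀ x ∈ N', (orderOf x).Coprime p → x ∈ R := fun x hx hc => by
          rw [hRdef]; exact mem_map_pResidual (hcop x (hN'Hs hx) hc) hc
        obtain ⟨T⟩ : Nonempty (Sylow p ↥N') := inferInstance
        have hTn : (T : Subgroup ↥N').Normal := by
          rw [← Subgroup.normalizer_eq_top_iff, eq_top_iff, ← pResidual_sup_sylow T]
          apply sup_le _ Subgroup.le_normalizer
          show Subgroup.closure _ ≤ _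
          rw [Subgroup.closure_le]
          intro x hx
          have hxc : (orderOf x).Coprime p := hx
          apply mem_normalizer_of_cj_le
          intro z hz
          obtain ⟨t, ht, rfl⟩ := mem_cj'.mp hz
          have hxR : (x : G) ∈ R := hN'R _ x.2 (by rw [Subgroup.orderOf_coe]; exact hxc)
          have hxN : (x : G) ∈ fhNC H Y := (le_sup_left.trans hRY.le) hxR
          have h1 : ((x : G) * (t : G) * (x : G)⁻¹ * (t : G)⁻¹) ∈ B₃ := hB5 _ hxN _ t.2
          rw [hB₃] at h1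
          obtain ⟨b, hb, hbe⟩ := h1
          have h2 : x * t * x⁻¹ * t⁻¹ = b := by
            apply Subtype.ext; exact hbe.symm
          have h3 : x * t * x⁻¹ * t⁻¹ ∈ (T : Subgroup ↥N') := by
            rw [h2]; exact pCore_le_sylow T hb
          have e : x * t * x⁻¹ = (x * t * x⁻¹ * t⁻¹) * t := by group
          rw [e]
          exact Subgroup.mul_mem _ h3 ht
        exact isPClosed_of_normal_sylow T hTn
  exact ⟨ha, hb, hNO.trans hNY.ge, hNY, he, hf, hg⟩

end Cfsg.Agent.Helper10
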