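import Mathlib
import Cfsg.Agent.Helper10.FrakH2
import Cfsg.Agent.Helper17.YL3
import Cfsg.Agent.Helper17.Large
import Cfsg.Agent.Helper17.FrattiniRes

set_option autoImplicit false

/-!
# Helper10: existence of members of `𝔐_H(T)` (S2846, S2847)

* `fm_F2` : `Y_L ≤ Y_X` for `T ≤ L ≤ X` with `C_H(O_p(X)) ≤ O_p(X)`;
* `fm_sylow_supp` : a supplement `X` of a normal `p`-closed subgroup `C₀` of `M` whose Sylow
  subgroup lies in `X` contains a conjugate of `T`;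
* `fm_core` : the common core of S2846 and S2847.
-/

namespace Cfsg.Agent.Helper10

open Subgroup Cfsg.Agent.Helper17

theorem fhNC_le_of_normalizer {H : Type*} [Group H] {A O N : Subgroup H} (hON : O ≤ N)
    (hAN : A ≤ Subgroup.normalizer (N : Set H)) : fhNC A O ≤ N := by
  unfold fhNC
  rw [Subgroup.closure_le]
  rintro x ⟨a, ha, o, ho, rfl⟩
  exact (Subgroup.mem_normalizer_iff.mp (hAN ha) o).mp (hON ho)

theorem fm_mem_sup {H : Type*} [Group H] {A B : Subgroup H}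
    (h : B ≤ Subgroup.normalizer (A : Set H)) {x : H}
    (hx : x ∈ B ⊔ A) : ∃ b ∈ B, ∃ a ∈ A, x = b * a := by
  have h1 : x⁻¹ ∈ A ⊔ B := by rw [sup_comm]; exact inv_mem hx
  obtain ⟨a, ha, b, hb, hab⟩ := mem_sup_of_le_normalizer h h1
  refine ⟨b⁻¹, inv_mem hb, a⁻¹, inv_mem ha, ?_⟩
  rw [← mul_inv_rev, ← hab, inv_inv]

theorem fm_type_charP {H : Type*} [Group H] {p : ℕ} {X : Subgroup H}
    (hX : X ∈ Cfsg.charPSubgroups p H) :
    Subgroup.centralizer (Cfsg.pCore p ↥X : Set ↥X) ≤ Cfsg.pCore p ↥X := by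
  intro c hc
  have h1 : (c : H) ∈ Subgroup.centralizer ((Cfsg.pCoreOf p X : Subgroup H) : Set H) := by
    rw [Subgroup.mem_centralizer_iff]
    rintro _ ⟨n, hn, rfl⟩
    exact congrArg Subtype.val (Subgroup.mem_centralizer_iff.mp hc n hn)
  obtain ⟨n, hn, hnc⟩ := hX.2 h1
  have hnc' : n = c := Subtype.ext hnc
  rw [← hnc']; exact hn

theorem fm_pCoreOf_ne_bot {H : Type*} [Group H] {p : ℕ} {X : Subgroup H} :
    Cfsg.pCoreOf p X ≠ ⊥ ↔ Cfsg.pCore p ↥X ≠ ⊥ := by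
  unfold Cfsg.pCoreOf
  rw [Ne, Subgroup.map_eq_bot_iff_of_injective _ X.subtype_injective]

/-- parabolic characteristic `p`: parabolic subgroups with `O_p ≠ 1` lie in `𝓛_H`. -/
theorem fm_F1_of_parabolic {H : Type*} [Group H] [Finite H] {p : ℕ} [Fact p.Prime]
    (hH : Cfsg.IsOfParabolicCharacteristic p H) :
    ∀ R : Subgroup H, Cfsg.IsParabolic p R → Cfsg.pCore p ↥R ≠ ⊥ →
      Subgroup.centralizer ((Cfsg.pCoreOf p R : Subgroup H) : Set H) ≤ Cfsg.pCoreOf p R := by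
  rintro R ⟨T, hTR⟩ hO
  have hO' : Cfsg.pCoreOf p R ≠ ⊥ := fm_pCoreOf_ne_bot.mpr hO
  have h1 := hH (Cfsg.pCoreOf p R) (pCoreOf_isPGroup' p R) hO'
    ⟨T, hTR.trans (le_normalizer_pCoreOf p R)⟩
  obtain ⟨N, hN⟩ : ∃ N : Subgroup H,
      N = Subgroup.normalizer ((Cfsg.pCoreOf p R : Subgroup H) : Set H) := ⟨_, rfl⟩
  rw [← hN] at h1
  have hRN : R ≤ N := hN ▸ le_normalizer_pCoreOf p R
  have hON_T : Cfsg.pCoreOf p N ≤ T := pCoreOf_le_sylow T (hTR.trans hRN)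
  have hON_R : Cfsg.pCoreOf p N ≤ Cfsg.pCoreOf p R :=
    le_pCoreOf' (hON_T.trans hTR) (hRN.trans (le_normalizer_pCoreOf p N)) (pCoreOf_isPGroup' p N)
  intro c hc
  have hcN : c ∈ N := by rw [hN]; exact Subgroup.centralizer_le_normalizer _ hc
  have hc' : (⟨c, hcN⟩ : ↥N) ∈ Subgroup.centralizer (Cfsg.pCore p ↥N : Set ↥N) := by
    rw [Subgroup.mem_centralizer_iff]
    intro n hn
    apply Subtype.ext
    exact Subgroup.mem_centralizer_iff.mp hc (n : H) (hON_R ⟨n, hn, rfl⟩)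
  exact hON_R ⟨⟨c, hcN⟩, h1 hc', rfl⟩

/-- `Y_X ≠ 1` for `X ∈ 𝓛_H(T)`. -/
theorem fm_Y_ne_bot {H : Type*} [Group H] [Finite H] {p : ℕ} [Fact p.Prime] (T : Sylow p H)
    {X : Subgroup H} (hTX : (T : Subgroup H) ≤ X) (hX : X ∈ Cfsg.charPSubgroups p H) :
    Cfsg.largestPReducedOf p X ≠ ⊥ := by
  obtain ⟨T₀, hT₀⟩ : ∃ T₀ : Subgroup H, T₀ = (T : Subgroup H) ⊓
      Subgroup.centralizer (Cfsg.largestPReducedOf p X : Set H) := ⟨_, rfl⟩
  have h1 := omegaOne_center_le_largestPReducedOf T hTX (fm_type_charP hX) T₀ hT₀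
  have hOT₀ : Cfsg.pCoreOf p X ≤ T₀ := by
    rw [hT₀]; exact le_inf (pCoreOf_le_sylow T hTX) (pCoreOf_le_centralizer_largest X)
  have hT₀ne : T₀ ≠ ⊥ := by
    intro h
    rw [h] at hOT₀
    exact fm_pCoreOf_ne_bot.mpr hX.1 (le_bot_iff.mp hOT₀)
  have hT₀p : IsPGroup p T₀ := T.isPGroup'.to_le (hT₀ ▸ inf_le_left)
  obtain ⟨x, hxR, hxo, hxc⟩ :=
    exists_orderOf_eq_prime_central hT₀p le_rfl Subgroup.le_normalizer hT₀ne
  intro hbot
  have hx : x ∈ Cfsg.largestPReducedOf p X :=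
    h1 (Subgroup.subset_closure ⟨⟨hxR, Subgroup.mem_centralizer_iff.mpr (fun y hy => hxc y hy)⟩,
      by rw [← hxo]; exact pow_orderOf_eq_one x⟩)
  rw [hbot, Subgroup.mem_bot] at hx
  rw [hx, orderOf_one] at hxo
  exact (Fact.out : p.Prime).one_lt.ne hxo

/-- `Y_L ≤ Y_X` for `T ≤ L ≤ X` with `C_H(O_p(X)) ≤ O_p(X)`. -/
theorem fm_F2 {H : Type*} [Group H] [Finite H] {p : ℕ} [Fact p.Prime] (T : Sylow p H)
    {L X : Subgroup H} (hTL : (T : Subgroup H) ≤ L) (hLX : L ≤ X)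
    (hX : Subgroup.centralizer ((Cfsg.pCoreOf p X : Subgroup H) : Set H) ≤ Cfsg.pCoreOf p X) :
    Cfsg.largestPReducedOf p L ≤ Cfsg.largestPReducedOf p X := by
  obtain ⟨hLY, hYe, hYr⟩ := largestPReducedOf_spec p L
  have hOLC := pCoreOf_le_centralizer_largest (p := p) L
  obtain ⟨Y, hY⟩ : ∃ Y : Subgroup H, Y = Cfsg.largestPReducedOf p L := ⟨_, rfl⟩
  rw [← hY] at hLY hYe hYr hOLC ⊢
  obtain ⟨D₀, hD₀⟩ : ∃ D₀ : Subgroup H, D₀ = Cfsg.pCoreOf p X := ⟨_, rfl⟩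
  rw [← hD₀] at hX
  have hD₀T : D₀ ≤ T := hD₀ ▸ pCoreOf_le_sylow T (hTL.trans hLX)
  have hXD₀ : X ≤ Subgroup.normalizer (D₀ : Set H) := hD₀ ▸ le_normalizer_pCoreOf p X
  have hD₀p : IsPGroup p D₀ := hD₀ ▸ pCoreOf_isPGroup' p X
  have hD₀X : D₀ ≤ X := hD₀ ▸ pCoreOf_le' p X
  have hD₀L : D₀ ≤ Cfsg.pCoreOf p L := le_pCoreOf' (hD₀T.trans hTL) (hLX.trans hXD₀) hD₀p
  have hD₀C : D₀ ≤ Subgroup.centralizer (Y : Set H) := hD₀L.trans hOLC
  have hYD₀ : Y ≤ D₀ := (Subgroup.le_centralizer_iff.mp hD₀C).trans hX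
  have hYΩ : Y ≤ Cfsg.omegaOne p (D₀ ⊓ Subgroup.centralizer (D₀ : Set H)) := by
    intro y hy
    exact Subgroup.subset_closure ⟨⟨hYD₀ hy, Subgroup.le_centralizer_iff.mp hD₀C hy⟩,
      ((isElementaryAbelian_iff Y).mp hYe).2 y hy⟩
  have hXΩ : X ≤ Subgroup.normalizer
      ((Cfsg.omegaOne p (D₀ ⊓ Subgroup.centralizer (D₀ : Set H)) : Subgroup H) : Set H) :=
    hXD₀.trans (normalizer_le_normalizer_omegaOne_center _)
  have hΩD₀ : Cfsg.omegaOne p (D₀ ⊓ Subgroup.centralizer (D₀ : Set H)) ≤ D₀ := by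
    intro w hw; exact (omegaOne_center_mem _ w hw).1.1
  obtain ⟨V, hV⟩ : ∃ V : Subgroup H, V = fhNC X Y := ⟨_, rfl⟩
  have hYV : Y ≤ V := hV ▸ fhNC_ge X Y
  have hVΩ : V ≤ Cfsg.omegaOne p (D₀ ⊓ Subgroup.centralizer (D₀ : Set H)) := by
    rw [hV]; exact fhNC_le_of_normalizer hYΩ hXΩ
  have hVX : V ≤ X := hVΩ.trans (hΩD₀.trans hD₀X)
  have hXV : X ≤ Subgroup.normalizer (V : Set H) := hV ▸ fhNC_normal X Y
  have hVe : Cfsg.IsElementaryAbelian p V := isElementaryAbelian_of_le_omegaOne_center hVΩ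
  refine hYV.trans (le_largestPReducedOf hVX ?_)
  rw [isPReducedNormal_subgroupOf_iff hVX]
  refine ⟨hXV, hVe, fun D hDX hXD hD => ?_⟩
  have h1 : D ⊓ L ≤ Subgroup.centralizer (Y : Set H) := by
    apply hYr (D ⊓ L) inf_le_right (le_normalizer_inf' (hLX.trans hXD) Subgroup.le_normalizer)
    intro d hd
    obtain ⟨k, hk⟩ := hD d hd.1
    exact ⟨k, Subgroup.centralizer_le (SetLike.coe_subset_coe.mpr hYV) hk⟩
  have h2 : D ≤ Subgroup.centralizer (Y : Set H) := by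
    refine (le_sup_inf_sylow_of_pow_mem D T (hTL.trans (hLX.trans hXD))
      (Subgroup.centralizer (V : Set H)) hD).trans (sup_le ?_ ?_)
    · exact inf_le_left.trans (Subgroup.centralizer_le (SetLike.coe_subset_coe.mpr hYV))
    · exact (le_inf inf_le_right (inf_le_left.trans hTL)).trans h1
  have h3 : Y ≤ Subgroup.centralizer (D : Set H) := Subgroup.le_centralizer_iff.mp h2
  have h4 : V ≤ Subgroup.centralizer (D : Set H) := by
    rw [hV]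
    exact fhNC_le_of_normalizer h3 (hXD.trans (normalizer_le_normalizer_centralizer D))
  exact Subgroup.le_centralizer_iff.mp h4

/-- a `p`-subgroup of `C` normalizing `T ∩ C` lies in `T ∩ C` (`T` normalizing `C`). -/
theorem fm_mem_sylow_inf {H : Type*} [Group H] [Finite H] {p : ℕ} [Fact p.Prime] (T : Sylow p H)
    (C : Subgroup H) (hTC : (T : Subgroup H) ≤ Subgroup.normalizer (C : Set H)) {R : Subgroup H}
    (hR : IsPGroup p R) (hRC : R ≤ C)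
    (hRN : R ≤ Subgroup.normalizer (((T : Subgroup H) ⊓ C : Subgroup H) : Set H)) :
    R ≤ (T : Subgroup H) ⊓ C := by
  obtain ⟨S, hS⟩ := exists_sylow_inf_of_le_normalizer C T hTC
  have hP : IsPGroup p (R ⊔ ((T : Subgroup H) ⊓ C) : Subgroup H) :=
    IsPGroup.to_sup_of_normal_right' hR (T.isPGroup'.to_le inf_le_left) hRN
  have hle : (S : Subgroup ↥C) ≤ (R ⊔ ((T : Subgroup H) ⊓ C)).subgroupOf C := by
    intro c hc
    rw [Subgroup.mem_subgroupOf]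
    refine Subgroup.mem_sup_right ?_
    rw [← hS]
    exact ⟨c, hc, rfl⟩
  have heq := S.is_maximal' hP.comap_subtype hle
  intro r hr
  have h1 : (⟨r, hRC hr⟩ : ↥C) ∈ (S : Subgroup ↥C) := by
    rw [← heq]
    exact Subgroup.mem_subgroupOf.mpr (Subgroup.mem_sup_left hr)
  rw [← hS]
  exact ⟨⟨r, hRC hr⟩, h1, rfl⟩

/-- a supplement `X` in `M ≥ T` of a normal subgroup `C₀` of `M`, all of whose `p`-subgroups lie
in `T₀ ≤ X`, contains an `M`-conjugate of `T`. -/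
theorem fm_sylow_supp {H : Type*} [Group H] [Finite H] {p : ℕ} [Fact p.Prime] (T : Sylow p H)
    {M X C₀ T₀ : Subgroup H}
    (hTM : (T : Subgroup H) ≤ M) (hXM : X ≤ M) (hC₀M : C₀ ≤ M)
    (hMC₀ : M ≤ Subgroup.normalizer (C₀ : Set H)) (hsup : M ≤ X ⊔ C₀)
    (hT₀X : T₀ ≤ X) (hT₀p : IsPGroup p T₀) (hMT₀ : M ≤ Subgroup.normalizer (T₀ : Set H))
    (hC₀p : ∀ R : Subgroup H, IsPGroup p R → R ≤ C₀ → R ≤ T₀) :
    ∃ g ∈ M, (T : Subgroup H) ≤ cj g X := by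
  obtain ⟨X₁, hX₁⟩ : ∃ X₁ : Subgroup H, X₁ = X ⊓ (C₀ ⊔ (T : Subgroup H)) := ⟨_, rfl⟩
  have hTC₀ : (T : Subgroup H) ≤ Subgroup.normalizer (C₀ : Set H) := hTM.trans hMC₀
  have hpow : ∀ d ∈ X₁, ∃ k : ℕ, d ^ p ^ k ∈ C₀ := by
    intro d hd
    rw [hX₁] at hd
    obtain ⟨c, hc, t, ht, rfl⟩ := mem_sup_of_le_normalizer hTC₀ hd.2
    obtain ⟨k, hk⟩ := exists_pow_of_isPGroup T.isPGroup' ht
    refine ⟨k, ?_⟩
    have hc' : t⁻¹ * c * t ∈ C₀ := by
      have := (Subgroup.mem_normalizer_iff.mp (hTC₀ (inv_mem ht)) c).mp hc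
      simpa using this
    have h1 := pow_mul_mem_of_mem_normalizer (hTC₀ ht) hc' (p ^ k)
    rw [hk, inv_one, one_mul] at h1
    have e : t * (t⁻¹ * c * t) = c * t := by group
    rwa [e] at h1
  obtain ⟨P, hPX₁, hPp, hX₁P⟩ := exists_pGroup_sup X₁ C₀ hpow
  have hX₁X : X₁ ≤ X := hX₁ ▸ inf_le_left
  have hPM : P ≤ M := hPX₁.trans (hX₁X.trans hXM)
  obtain ⟨P₂, hP₂⟩ : ∃ P₂ : Subgroup H, P₂ = P ⊔ T₀ := ⟨_, rfl⟩
  have hP₂p : IsPGroup p P₂ := by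
    rw [hP₂]; exact IsPGroup.to_sup_of_normal_right' hPp hT₀p (hPM.trans hMT₀)
  have hP₂X : P₂ ≤ X := by rw [hP₂]; exact sup_le (hPX₁.trans hX₁X) hT₀X
  have hP₂M : P₂ ≤ M := hP₂X.trans hXM
  have hT₀P₂ : T₀ ≤ P₂ := by rw [hP₂]; exact le_sup_right
  have hPP₂ : P ≤ P₂ := by rw [hP₂]; exact le_sup_left
  have hTK : (T : Subgroup H) ≤ C₀ ⊔ P₂ := by
    intro t ht
    have h1 : t ∈ C₀ ⊔ X := by rw [sup_comm]; exact hsup (hTM ht)
    obtain ⟨c, hc, x, hx, rfl⟩ := mem_sup_of_le_normalizer (hXM.trans hMC₀) h1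
    have hx1 : x ∈ X₁ := by
      rw [hX₁]
      refine ⟨hx, ?_⟩
      have e : x = c⁻¹ * (c * x) := by group
      rw [e]
      exact mul_mem (Subgroup.mem_sup_left (inv_mem hc)) (Subgroup.mem_sup_right ht)
    have hx2 : x ∈ C₀ ⊔ P₂ :=
      (sup_le (inf_le_left.trans le_sup_left) (hPP₂.trans le_sup_right)) (hX₁P hx1)
    exact mul_mem (Subgroup.mem_sup_left hc) hx2
  have hmax : ∀ R : Subgroup H, IsPGroup p R → P₂ ≤ R → R ≤ C₀ ⊔ P₂ → R ≤ P₂ := by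
    intro R hR hPR hRK r hr
    obtain ⟨c, hc, y, hy, rfl⟩ := mem_sup_of_le_normalizer (hP₂M.trans hMC₀) (hRK hr)
    have hcR : c ∈ R := by
      have e : c = (c * y) * y⁻¹ := by group
      rw [e]; exact mul_mem hr (inv_mem (hPR hy))
    have hcT₀ : c ∈ T₀ := hC₀p (R ⊓ C₀) (hR.to_le inf_le_left) inf_le_right ⟨hcR, hc⟩
    exact mul_mem (hT₀P₂ hcT₀) hy
  obtain ⟨m, hm, hPm⟩ := exists_mem_le_cj_of_sylow_le T hTK hP₂p le_sup_right
  have h2 : cj m (T : Subgroup H) ≤ P₂ :=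
    hmax _ (isPGroup_cj T.isPGroup') hPm (cj_le_of_le_of_mem hTK hm)
  have hmM : m ∈ M := (sup_le hC₀M hP₂M) hm
  refine ⟨m⁻¹, inv_mem hmM, ?_⟩
  rw [le_cj_iff, inv_inv]
  exact h2.trans hP₂X

/-- the common core of S2846/S2847. -/
theorem fm_core {H : Type*} [Group H] [Finite H] {p : ℕ} [Fact p.Prime] (T : Sylow p H)
    (hF1 : ∀ R : Subgroup H, Cfsg.IsParabolic p R → Cfsg.pCore p ↥R ≠ ⊥ →
      Subgroup.centralizer ((Cfsg.pCoreOf p R : Subgroup H) : Set H) ≤ Cfsg.pCoreOf p R)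
    (L : Subgroup H) (hTL : (T : Subgroup H) ≤ L) (hL : L ∈ Cfsg.charPSubgroups p H) :
    ∃ M Ls : Subgroup H, (T : Subgroup H) ≤ M ∧ Cfsg.IsInFrakM p M ∧ (T : Subgroup H) ≤ Ls ∧
      Ls ≤ M ∧ Ls ∈ Cfsg.charPSubgroups p H ∧
      Cfsg.largestPReducedOf p L = Cfsg.largestPReducedOf p Ls ∧
      Cfsg.largestPReducedOf p L ≤ Cfsg.largestPReducedOf p M ∧
      L ⊔ Subgroup.centralizer (Cfsg.largestPReducedOf p L : Set H) =
        Ls ⊔ Subgroup.centralizer (Cfsg.largestPReducedOf p L : Set H) := by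
  have hchar : ∀ X : Subgroup H, (T : Subgroup H) ≤ X → Cfsg.pCore p ↥X ≠ ⊥ →
      X ∈ Cfsg.charPSubgroups p H := fun X hTX hO => ⟨hO, hF1 X ⟨T, hTX⟩ hO⟩
  obtain ⟨hLYL, hYLe, -⟩ := largestPReducedOf_spec p L
  obtain ⟨YL, hYL⟩ : ∃ YL : Subgroup H, YL = Cfsg.largestPReducedOf p L := ⟨_, rfl⟩
  rw [← hYL] at hLYL hYLe ⊢
  obtain ⟨CL, hCL⟩ : ∃ CL : Subgroup H, CL = Subgroup.centralizer (YL : Set H) := ⟨_, rfl⟩
  rw [← hCL]
  -- the candidate set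
  obtain ⟨𝒳, h𝒳⟩ : ∃ 𝒳 : Set (Subgroup H), 𝒳 = {X | (T : Subgroup H) ≤ X ∧
      Cfsg.pCore p ↥X ≠ ⊥ ∧ YL ≤ Cfsg.largestPReducedOf p X ∧
      ∀ l ∈ L, ∃ c ∈ CL, l * c ∈ X} := ⟨_, rfl⟩
  have hL𝒳 : L ∈ 𝒳 := by
    rw [h𝒳]
    exact ⟨hTL, hL.1, hYL.le, fun l hl => ⟨1, CL.one_mem, by simpa using hl⟩⟩
  obtain ⟨X₀, hX₀𝒳, hX₀max⟩ := Set.exists_max_image 𝒳
    (fun X => Nat.card (Cfsg.largestPReducedOf p X)) (Set.toFinite 𝒳) ⟨L, hL𝒳⟩
  obtain ⟨𝒳', h𝒳'⟩ : ∃ 𝒳' : Set (Subgroup H), 𝒳' = {X | X ∈ 𝒳 ∧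
      Nat.card (Cfsg.largestPReducedOf p X) = Nat.card (Cfsg.largestPReducedOf p X₀)} :=
    ⟨_, rfl⟩
  have hX₀𝒳' : X₀ ∈ 𝒳' := by rw [h𝒳']; exact ⟨hX₀𝒳, rfl⟩
  obtain ⟨Mt, hMt𝒳', hMtmax⟩ := Set.exists_max_image 𝒳'
    (fun X => Nat.card X) (Set.toFinite 𝒳') ⟨X₀, hX₀𝒳'⟩
  rw [h𝒳'] at hMt𝒳'
  obtain ⟨hMt𝒳, hMtcard⟩ := hMt𝒳'
  have max1 : ∀ X ∈ 𝒳, Cfsg.largestPReducedOf p Mt ≤ Cfsg.largestPReducedOf p X →
      Cfsg.largestPReducedOf p X = Cfsg.largestPReducedOf p Mt := by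
    intro X hX hle
    refine (Subgroup.eq_of_le_of_card_ge hle ?_).symm
    rw [hMtcard]; exact hX₀max X hX
  have max2 : ∀ X ∈ 𝒳, Cfsg.largestPReducedOf p Mt ≤ Cfsg.largestPReducedOf p X → Mt ≤ X →
      X = Mt := by
    intro X hX hle hMX
    have h1 := max1 X hX hle
    have h2 : X ∈ 𝒳' := by rw [h𝒳']; exact ⟨hX, by rw [h1, hMtcard]⟩
    exact (Subgroup.eq_of_le_of_card_ge hMX (hMtmax X h2)).symm
  rw [h𝒳] at hMt𝒳
  obtain ⟨hTMt, hOMt, hYLY, hcondMt⟩ := hMt𝒳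
  have hMtchar := hchar Mt hTMt hOMt
  have hYne := fm_Y_ne_bot T hTMt hMtchar
  obtain ⟨hMtY, hYe, -⟩ := largestPReducedOf_spec p Mt
  have hYOMt := largestPReducedOf_le_pCoreOf (p := p) Mt
  obtain ⟨Y, hY⟩ : ∃ Y : Subgroup H, Y = Cfsg.largestPReducedOf p Mt := ⟨_, rfl⟩
  rw [← hY] at max1 max2 hYLY hYne hMtY hYe hYOMt
  have hYp : IsPGroup p Y := isPGroup_of_isElementaryAbelian hYe
  have hYT : Y ≤ T := hYOMt.trans (pCoreOf_le_sylow T hTMt)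
  have hup : ∀ X : Subgroup H, Mt ≤ X → X ∈ Cfsg.charPSubgroups p H → X = Mt := by
    intro X hMX hX
    have hYX : Y ≤ Cfsg.largestPReducedOf p X := by
      rw [hY]; exact fm_F2 T hTMt hMX hX.2
    apply max2 X _ hYX hMX
    rw [h𝒳]
    exact ⟨hTMt.trans hMX, hX.1, hYLY.trans hYX, fun l hl => by
      obtain ⟨c, hc, hlc⟩ := hcondMt l hl
      exact ⟨c, hc, hMX hlc⟩⟩
  have hNY : Subgroup.normalizer (Y : Set H) = Mt := by
    apply hup _ hMtY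
    apply hchar _ (hTMt.trans hMtY)
    refine fm_pCoreOf_ne_bot.mp ?_
    intro h
    have h1 : Y ≤ Cfsg.pCoreOf p (Subgroup.normalizer (Y : Set H)) :=
      le_pCoreOf' Subgroup.le_normalizer le_rfl hYp
    rw [h] at h1
    exact hYne (le_bot_iff.mp h1)
  obtain ⟨C, hC⟩ : ∃ C : Subgroup H, C = Subgroup.centralizer (Y : Set H) := ⟨_, rfl⟩
  have hCMt : C ≤ Mt := by rw [hC, ← hNY]; exact Subgroup.centralizer_le_normalizer _
  have hMtC : Mt ≤ Subgroup.normalizer (C : Set H) := by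
    rw [hC]; exact hMtY.trans (normalizer_le_normalizer_centralizer Y)
  have hCCL : C ≤ CL := by
    rw [hC, hCL]; exact Subgroup.centralizer_le (SetLike.coe_subset_coe.mpr hYLY)
  -- the minimal choice of `M`
  obtain ⟨𝒴, h𝒴⟩ : ∃ 𝒴 : Set (Subgroup H), 𝒴 = {X | (T : Subgroup H) ≤ X ∧ X ≤ Mt ∧
      Mt ≤ X ⊔ C} := ⟨_, rfl⟩
  have hMt𝒴 : Mt ∈ 𝒴 := by rw [h𝒴]; exact ⟨hTMt, le_rfl, le_sup_left⟩
  obtain ⟨M, hM𝒴, hMmin⟩ := Set.exists_min_image 𝒴 (fun X => Nat.card X) (Set.toFinite 𝒴)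
    ⟨Mt, hMt𝒴⟩
  have min1 : ∀ X ∈ 𝒴, X ≤ M → X = M := fun X hX hle =>
    Subgroup.eq_of_le_of_card_ge hle (hMmin X hX)
  rw [h𝒴] at hM𝒴
  obtain ⟨hTM, hMMt, hMtMC⟩ := hM𝒴
  have hMsup : M ⊔ C = Mt := le_antisymm (sup_le hMMt hCMt) hMtMC
  have hMY : M ≤ Subgroup.normalizer (Y : Set H) := hMMt.trans hMtY
  have hMC : M ≤ Subgroup.normalizer (C : Set H) := hMMt.trans hMtC
  have hYM : Y ≤ M := hYT.trans hTM
  have hOM : Cfsg.pCore p ↥M ≠ ⊥ := by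
    refine fm_pCoreOf_ne_bot.mp ?_
    intro h
    have h1 : Y ≤ Cfsg.pCoreOf p M := le_pCoreOf' hYM hMY hYp
    rw [h] at h1
    exact hYne (le_bot_iff.mp h1)
  have hMchar := hchar M hTM hOM
  have hYMeq : Cfsg.largestPReducedOf p M = Y := by
    apply le_antisymm
    · rw [hY]; exact fm_F2 T hTM hMMt hMtchar.2
    · rw [hY]
      apply largestPReducedOf_le_of_sup_eq T hTM hTMt
      rw [← hY, ← hC, hMsup]
      exact (sup_eq_left.mpr hCMt).symm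
  have hcondM : ∀ l ∈ L, ∃ c ∈ CL, l * c ∈ M := by
    intro l hl
    obtain ⟨c, hc, hlc⟩ := hcondMt l hl
    obtain ⟨m, hm, c', hc', hmc⟩ := fm_mem_sup hMC (hMtMC hlc)
    refine ⟨c * c'⁻¹, mul_mem hc (hCCL (inv_mem hc')), ?_⟩
    have e : l * (c * c'⁻¹) = m := by rw [← mul_assoc, hmc]; group
    rw [e]; exact hm
  have hTC : (T : Subgroup H) ≤ Subgroup.normalizer (C : Set H) := hTM.trans hMC
  have hMT₀ : M ≤ Subgroup.normalizer (((T : Subgroup H) ⊓ C : Subgroup H) : Set H) := by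
    have hfr := frattini_rel T hTM hMC
    have h1 : M ⊓ Subgroup.normalizer (((T : Subgroup H) ⊓ C : Subgroup H) : Set H) ∈ 𝒴 := by
      rw [h𝒴]
      refine ⟨le_inf hTM (le_normalizer_inf' Subgroup.le_normalizer hTC),
        inf_le_left.trans hMMt, ?_⟩
      rw [← hMsup]
      exact sup_le hfr le_sup_right
    have h2 := min1 _ h1 inf_le_left
    exact inf_eq_left.mp h2
  have hCp : ∀ R : Subgroup H, IsPGroup p R → R ≤ M ⊓ C → R ≤ (T : Subgroup H) ⊓ C :=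
    fun R hR hRC => fm_mem_sylow_inf T C hTC hR (hRC.trans inf_le_right)
      ((hRC.trans inf_le_left).trans hMT₀)
  have hMMC : M ≤ Subgroup.normalizer ((M ⊓ C : Subgroup H) : Set H) :=
    le_normalizer_inf' Subgroup.le_normalizer hMC
  have hfrak : Cfsg.IsInFrakM p M := by
    unfold Cfsg.IsInFrakM
    rw [hYMeq, ← hC, hMsup]
    refine ⟨hMchar, ⟨hMtchar, fun X hX hMX => hup X hMX hX⟩, ?_, hY, ?_, ?_⟩
    · intro X hX hMX
      have hYX : Y ≤ Cfsg.largestPReducedOf p X := by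
        rw [← hYMeq]; exact fm_F2 T hTM hMX hX.1.2
      have hX𝒳 : X ∈ 𝒳 := by
        rw [h𝒳]
        exact ⟨hTM.trans hMX, hX.1.1, hYLY.trans hYX, fun l hl => by
          obtain ⟨c, hc, hlc⟩ := hcondM l hl
          exact ⟨c, hc, hMX hlc⟩⟩
      have h1 := max1 X hX𝒳 hYX
      have h2 : X ≤ Mt := by
        rw [← hNY, ← h1]; exact (largestPReducedOf_spec p X).1
      exact (hX.2 Mt hMtchar h2).symm
    · rw [isPClosed_subgroup_iff]
      exact ⟨(T : Subgroup H) ⊓ C, T.isPGroup'.to_le inf_le_left, fun x hx hxp =>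
        hCp _ (isPGroup_zpowers_of_pow hxp) (Subgroup.zpowers_le.mpr hx)
          (Subgroup.mem_zpowers x)⟩
    · rintro _ ⟨x, hx, rfl⟩
      apply mem_frattini_of_forall_coatom
      intro K hK
      by_contra hxK
      obtain ⟨X, hX⟩ : ∃ X : Subgroup H,
          X = (K.comap (QuotientGroup.mk' (Cfsg.pCore p ↥M))).map M.subtype := ⟨_, rfl⟩
      have hXM : X ≤ M := hX ▸ Subgroup.map_subtype_le _
      have hmemX : ∀ m : ↥M, (m : H) ∈ X ↔ QuotientGroup.mk' (Cfsg.pCore p ↥M) m ∈ K := by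
        intro m
        rw [hX]
        constructor
        · rintro ⟨m', hm', hmm⟩
          have hmm' : m' = m := Subtype.ext hmm
          rw [← hmm']; exact hm'
        · intro h; exact ⟨m, h, rfl⟩
      have hOX : Cfsg.pCoreOf p M ≤ X := by
        rintro _ ⟨n, hn, rfl⟩
        refine (hmemX n).mpr ?_
        have h1 : QuotientGroup.mk' (Cfsg.pCore p ↥M) n = 1 :=
          (QuotientGroup.eq_one_iff n).mpr hn
        rw [h1]; exact K.one_mem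
      have hXne : X ≠ M := by
        intro h
        apply hK.1
        rw [eq_top_iff]
        intro q _
        obtain ⟨m, rfl⟩ := QuotientGroup.mk'_surjective (Cfsg.pCore p ↥M) q
        exact (hmemX m).mp (by rw [h]; exact m.2)
      have hsupX : M ≤ X ⊔ (M ⊓ C) := by
        intro m hm
        obtain ⟨N', hN'⟩ : ∃ N' : Subgroup (↥M ⧸ Cfsg.pCore p ↥M),
            N' = ((M ⊓ C).subgroupOf M).map (QuotientGroup.mk' (Cfsg.pCore p ↥M)) := ⟨_, rfl⟩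
        have hCMn : ((M ⊓ C).subgroupOf M).Normal :=
          Subgroup.normal_subgroupOf_of_le_normalizer hMMC
        haveI hN'n : N'.Normal := by
          rw [hN']; exact Subgroup.Normal.map hCMn _ (QuotientGroup.mk'_surjective _)
        have hxN' : QuotientGroup.mk' (Cfsg.pCore p ↥M) x ∈ N' := by
          rw [hN']; exact ⟨x, hx, rfl⟩
        have hKN : K ⊔ N' = ⊤ := hK.2 _ (left_lt_sup.mpr (fun h => hxK (h hxN')))
        have h1 : QuotientGroup.mk' (Cfsg.pCore p ↥M) ⟨m, hm⟩ ∈ K ⊔ N' := by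
          rw [hKN]; exact Subgroup.mem_top _
        obtain ⟨k, hk, n, hn, hkn⟩ := Subgroup.mem_sup_of_normal_right.mp h1
        rw [hN'] at hn
        obtain ⟨c, hc, rfl⟩ := hn
        have h2 : QuotientGroup.mk' (Cfsg.pCore p ↥M) (⟨m, hm⟩ * c⁻¹) ∈ K := by
          have e : QuotientGroup.mk' (Cfsg.pCore p ↥M) (⟨m, hm⟩ * c⁻¹) = k := by
            rw [map_mul, map_inv, ← hkn]; group
          rw [e]; exact hk
        have h3 := (hmemX _).mpr h2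
        have e : m = ((⟨m, hm⟩ * c⁻¹ : ↥M) : H) * (c : H) := by
          simp
        rw [e]
        exact mul_mem (Subgroup.mem_sup_left h3)
          (Subgroup.mem_sup_right (Subgroup.mem_subgroupOf.mp hc))
      have hT₀O : (T : Subgroup H) ⊓ C ≤ Cfsg.pCoreOf p M :=
        le_pCoreOf' (inf_le_left.trans hTM) hMT₀ (T.isPGroup'.to_le inf_le_left)
      obtain ⟨g, hg, hTg⟩ := fm_sylow_supp T hTM hXM (inf_le_left : M ⊓ C ≤ M)
        hMMC hsupX (hT₀O.trans hOX) (T.isPGroup'.to_le inf_le_left) hMT₀ hCp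
      have hgX : cj g X ≤ M := cj_le_of_le_of_mem hXM hg
      have h1 : cj g X ∈ 𝒴 := by
        rw [h𝒴]
        refine ⟨hTg, hgX.trans hMMt, ?_⟩
        rw [← hMsup]
        refine sup_le ?_ le_sup_right
        have h2 : cj g M ≤ cj g (X ⊔ (M ⊓ C)) := cj_mono hsupX
        rw [cj_eq_self_of_mem hg, cj_sup, cj_eq_self_of_mem_normalizer (hMMC hg)] at h2
        exact h2.trans (sup_le_sup_left inf_le_right _)
      have h2 := min1 _ h1 hgX
      apply hXne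
      have h3 : cj g⁻¹ (cj g X) = cj g⁻¹ M := by rw [h2]
      rw [cj_inv_cj, cj_eq_self_of_mem (inv_mem hg)] at h3
      exact h3
  -- the subgroup `L*`
  obtain ⟨M', hM'⟩ : ∃ M' : Subgroup H, M' = M ⊓ (L ⊔ CL) := ⟨_, rfl⟩
  have hTM' : (T : Subgroup H) ≤ M' := by rw [hM']; exact le_inf hTM (hTL.trans le_sup_left)
  have hLCL : L ≤ Subgroup.normalizer (CL : Set H) := by
    rw [hCL]; exact hLYL.trans (normalizer_le_normalizer_centralizer YL)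
  have hfac : M' ⊔ CL = L ⊔ CL := by
    apply le_antisymm
    · rw [hM']; exact sup_le inf_le_right le_sup_right
    · refine sup_le ?_ le_sup_right
      intro l hl
      obtain ⟨c, hc, hlc⟩ := hcondM l hl
      have h1 : l * c ∈ M' := by
        rw [hM']
        exact ⟨hlc, mul_mem (Subgroup.mem_sup_left hl) (Subgroup.mem_sup_right hc)⟩
      have e : l = (l * c) * c⁻¹ := by group
      rw [e]
      exact mul_mem (Subgroup.mem_sup_left h1) (Subgroup.mem_sup_right (inv_mem hc))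
  obtain ⟨T₀, hT₀⟩ : ∃ T₀ : Subgroup H, T₀ = (T : Subgroup H) ⊓ CL := ⟨_, rfl⟩
  obtain ⟨Ls, hLs⟩ : ∃ Ls : Subgroup H, Ls = M' ⊓ Subgroup.normalizer (T₀ : Set H) :=
    ⟨_, rfl⟩
  have hstar := largestPReducedOf_star T L M' hTL hTM' (fm_type_charP hL) T₀
    (by rw [hT₀, hCL, hYL]) (by rw [← hYL, ← hCL]; exact hfac) Ls hLs
  rw [← hYL, ← hCL] at hstar
  obtain ⟨hYLs, hfacLs⟩ := hstar
  have hT₀T : T₀ ≤ T := by rw [hT₀]; exact inf_le_left
  have hTT₀ : (T : Subgroup H) ≤ Subgroup.normalizer (T₀ : Set H) := by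
    rw [hT₀]; exact le_normalizer_inf' Subgroup.le_normalizer (hTL.trans hLCL)
  have hTLs : (T : Subgroup H) ≤ Ls := by rw [hLs]; exact le_inf hTM' hTT₀
  have hLsM : Ls ≤ M := by rw [hLs, hM']; exact inf_le_left.trans inf_le_left
  have hT₀ne : T₀ ≠ ⊥ := by
    intro h
    have h1 : Cfsg.pCoreOf p L ≤ T₀ := by
      rw [hT₀, hCL, hYL]
      exact le_inf (pCoreOf_le_sylow T hTL) (pCoreOf_le_centralizer_largest L)
    rw [h] at h1
    exact fm_pCoreOf_ne_bot.mpr hL.1 (le_bot_iff.mp h1)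
  have hOLs : Cfsg.pCore p ↥Ls ≠ ⊥ := by
    refine fm_pCoreOf_ne_bot.mp ?_
    intro h
    have h1 : T₀ ≤ Cfsg.pCoreOf p Ls :=
      le_pCoreOf' (hT₀T.trans hTLs) (by rw [hLs]; exact inf_le_right)
        (T.isPGroup'.to_le hT₀T)
    rw [h] at h1
    exact hT₀ne (le_bot_iff.mp h1)
  exact ⟨M, Ls, hTM, hfrak, hTLs, hLsM, hchar Ls hTLs hOLs, hYLs.symm,
    hYLY.trans hYMeq.ge, hfacLs⟩

/-- S2847. -/
theorem fm_main47 {H : Type*} [Group H] [Finite H] {p : ℕ} [Fact p.Prime]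
    (hH : Cfsg.IsOfParabolicCharacteristic p H) (T : Sylow p H) (L : Subgroup H)
    (hTL : (T : Subgroup H) ≤ L) (hL : L ∈ Cfsg.charPSubgroups p H) :
    ∃ M Ls : Subgroup H, (T : Subgroup H) ≤ M ∧ Cfsg.IsInFrakM p M ∧ (T : Subgroup H) ≤ Ls ∧
      Ls ≤ M ∧ Ls ∈ Cfsg.charPSubgroups p H ∧
      (Cfsg.largestPReducedOf p L) = (Cfsg.largestPReducedOf p Ls) ∧
      (Cfsg.largestPReducedOf p L) ≤ (Cfsg.largestPReducedOf p M) ∧
      L ⊔ Subgroup.centralizer (((Cfsg.largestPReducedOf p L) : Subgroup H) : Set H) =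
        Ls ⊔ Subgroup.centralizer (((Cfsg.largestPReducedOf p L) : Subgroup H) : Set H) :=
  fm_core T (fm_F1_of_parabolic hH) L hTL hL

/-- S2846. -/
theorem fm_main46 {H : Type*} [Group H] [Finite H] {p : ℕ} [Fact p.Prime] (Q : Subgroup H)
    (hQp : IsPGroup p ↥Q) (hQ1 : Q ≠ ⊥) (hLg : Cfsg.IsLarge Q) (S : Sylow p H)
    (hQS : Q ≤ (S : Subgroup H)) (L : Subgroup H) (hSL : (S : Subgroup H) ≤ L)
    (hL : L ∈ Cfsg.charPSubgroups p H) :
    ∃ M Ls : Subgroup H, (S : Subgroup H) ≤ M ∧ Cfsg.IsInFrakM p M ∧ (S : Subgroup H) ≤ Ls ∧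
      Ls ≤ M ∧ Ls ∈ Cfsg.charPSubgroups p H ∧
      L ⊔ Subgroup.centralizer (((Cfsg.largestPReducedOf p L) : Subgroup H) : Set H) =
        Ls ⊔ Subgroup.centralizer (((Cfsg.largestPReducedOf p L) : Subgroup H) : Set H) ∧
      Cfsg.weakClosure Q L = Cfsg.weakClosure Q Ls ∧
      Cfsg.weakClosure Q Ls ≤ Cfsg.weakClosure Q M ∧
      (Cfsg.largestPReducedOf p L) = (Cfsg.largestPReducedOf p Ls) ∧
      (Cfsg.largestPReducedOf p Ls) ≤ (Cfsg.largestPReducedOf p M) ∧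
      (¬ L ≤ Subgroup.normalizer ((Q : Subgroup H) : Set H) →
        ¬ Ls ≤ Subgroup.normalizer ((Q : Subgroup H) : Set H) ∧
        ¬ M ≤ Subgroup.normalizer ((Q : Subgroup H) : Set H)) := by
  obtain ⟨M, Ls, hSM, hfrak, hSLs, hLsM, hLschar, hYeq, hYle, hfac⟩ :=
    fm_core S (large_main Q hQp hQ1 hLg).2.1 L hSL hL
  obtain ⟨hLY, hYe, -⟩ := largestPReducedOf_spec p L
  have hLsY := (largestPReducedOf_spec p Ls).1
  have hYne := fm_Y_ne_bot S hSL hL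
  rw [← hYeq] at hLsY
  have hYp : IsPGroup p (Cfsg.largestPReducedOf p L) := isPGroup_of_isElementaryAbelian hYe
  have hCN : Subgroup.centralizer (Cfsg.largestPReducedOf p L : Set H) ≤
      Subgroup.normalizer (Q : Set H) :=
    large_centralizer_le_normalizer hQp hLg hYp hYne ((hQS.trans hSL).trans hLY)
  have hw1 := (large_weakClosure_main Q hQp hQ1 hLg L (hQS.trans hSL) _ hYp hYne hLY).1
  have hw2 := (large_weakClosure_main Q hQp hQ1 hLg Ls (hQS.trans hSLs) _ hYp hYne hLsY).1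
  refine ⟨M, Ls, hSM, hfrak, hSLs, hLsM, hLschar, hfac, ?_, ?_, hYeq, ?_, ?_⟩
  · rw [hw1, hw2, hfac]
  · unfold Cfsg.weakClosure
    apply iSup_le
    intro g
    exact le_iSup (fun g : {g : H // Q.map (MulAut.conj g).toMonoidHom ≤ M} =>
      Q.map (MulAut.conj (g : H)).toMonoidHom) ⟨g.1, g.2.trans hLsM⟩
  · rw [← hYeq]; exact hYle
  · intro hLQ
    have h1 : ¬ Ls ≤ Subgroup.normalizer (Q : Set H) := by
      intro h
      apply hLQ
      exact (le_sup_left.trans hfac.le).trans (sup_le h hCN)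
    exact ⟨h1, fun h => h1 (hLsM.trans h)⟩

end Cfsg.Agent.Helper10
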