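import Mathlib
import Cfsg.Agent.Helper10.FrakM
import Cfsg.Agent.Helper10.FStar

set_option autoImplicit false

/-!
# Helper10: `Y_M ≤ Y_H` for subgroups `H` of characteristic `p` containing the preimage of
`F*(M†/C_{M†}(Y_M))` in the asymmetric case (S2851)
-/

namespace Cfsg.Agent.Helper10

open Subgroup Cfsg.Agent.Helper17

/-- `O_p(Md/C) = 1` from the ambient form of `p`-reducedness. -/
theorem fm_pCore_quot {G : Type*} [Group G] [Finite G] {p : ℕ} [Fact p.Prime]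
    (Md C : Subgroup G) [hn : (C.subgroupOf Md).Normal]
    (hpr : ∀ D : Subgroup G, D ≤ Md → Md ≤ Subgroup.normalizer (D : Set G) →
      (∀ d ∈ D, ∃ k : ℕ, d ^ p ^ k ∈ C) → D ≤ C) :
    Cfsg.pCore p (↥Md ⧸ C.subgroupOf Md) = ⊥ := by
  rw [pCore_quotient_eq_bot_iff]
  intro D hD hDp
  haveI := hD
  have h1 := hpr (D.map Md.subtype) (Subgroup.map_subtype_le _)
    (Cfsg.Agent.Helper17.le_normalizer_map_subtype D) ?_
  · intro d hd
    exact Subgroup.mem_subgroupOf.mpr (h1 ⟨d, hd, rfl⟩)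
  · rintro _ ⟨d, hd, rfl⟩
    obtain ⟨k, hk⟩ := hDp d hd
    refine ⟨k, ?_⟩
    have := Subgroup.mem_subgroupOf.mp hk
    rwa [Subgroup.coe_pow] at this

/-- the key lemma: a subgroup `A ≤ Md` normalized by the preimage `F` of `F*(Md/C)` with
`(A ∩ F)C/C` a `p`-group lies in `C`, if `O_p(Md/C) = 1`. -/
theorem fm_key {G : Type*} [Group G] [Finite G] {p : ℕ} [Fact p.Prime] (Md C : Subgroup G)
    [hn : (C.subgroupOf Md).Normal]
    (hO : Cfsg.pCore p (↥Md ⧸ C.subgroupOf Md) = ⊥)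
    (F : Subgroup G)
    (hF : F = ((Cfsg.generalizedFittingSubgroup (↥Md ⧸ C.subgroupOf Md)).comap
      (QuotientGroup.mk' (C.subgroupOf Md))).map Md.subtype)
    (A : Subgroup G) (hAM : A ≤ Md) (hFA : F ≤ Subgroup.normalizer (A : Set G))
    (hAp : ∀ a ∈ A ⊓ F, ∃ k : ℕ, a ^ p ^ k ∈ C) : A ≤ C := by
  obtain ⟨π, hπ⟩ : ∃ π : ↥Md →* ↥Md ⧸ C.subgroupOf Md,
      π = QuotientGroup.mk' (C.subgroupOf Md) := ⟨_, rfl⟩
  rw [← hπ] at hF
  have hsurj : Function.Surjective π := by rw [hπ]; exact QuotientGroup.mk'_surjective _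
  have hone : ∀ m : ↥Md, π m = 1 ↔ (m : G) ∈ C := by
    intro m
    rw [hπ, QuotientGroup.mk'_apply, QuotientGroup.eq_one_iff, Subgroup.mem_subgroupOf]
  obtain ⟨Fb, hFb⟩ : ∃ Fb : Subgroup (↥Md ⧸ C.subgroupOf Md),
      Fb = Cfsg.generalizedFittingSubgroup (↥Md ⧸ C.subgroupOf Md) := ⟨_, rfl⟩
  rw [← hFb] at hF
  have hFbn : Fb.Normal := by rw [hFb]; exact gfitting_normal _
  have hFbc : Subgroup.centralizer (Fb : Set (↥Md ⧸ C.subgroupOf Md)) ≤ Fb := by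
    rw [hFb]; exact centralizer_gfitting_le _
  have hmemF : ∀ m : ↥Md, (m : G) ∈ F ↔ π m ∈ Fb := by
    intro m
    rw [hF]
    constructor
    · rintro ⟨m', hm', hmm⟩
      have hmm' : m' = m := Subtype.ext hmm
      rw [← hmm']; exact hm'
    · intro h; exact ⟨m, h, rfl⟩
  have hFMd : F ≤ Md := by rw [hF]; exact Subgroup.map_subtype_le _
  have hB : A ⊓ F ≤ C := by
    obtain ⟨Bb, hBb⟩ : ∃ Bb : Subgroup (↥Md ⧸ C.subgroupOf Md),
        Bb = ((A ⊓ F).subgroupOf Md).map π := ⟨_, rfl⟩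
    have hBbF : Bb ≤ Fb := by
      rw [hBb]; rintro _ ⟨b, hb, rfl⟩
      exact (hmemF b).mp (Subgroup.mem_subgroupOf.mp hb).2
    have hBbp : IsPGroup p Bb := by
      rintro ⟨_, hx⟩
      rw [hBb] at hx
      obtain ⟨b, hb, rfl⟩ := hx
      obtain ⟨k, hk⟩ := hAp (b : G) (Subgroup.mem_subgroupOf.mp hb)
      refine ⟨k, Subtype.ext ?_⟩
      show (π b) ^ p ^ k = 1
      rw [← map_pow, hone, Subgroup.coe_pow]
      exact hk
    have hFbB : Fb ≤ Subgroup.normalizer (Bb : Set (↥Md ⧸ C.subgroupOf Md)) := by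
      intro f hf
      apply mem_normalizer_of_cj_le
      intro z hz
      obtain ⟨x, hx, rfl⟩ := mem_cj'.mp hz
      rw [hBb] at hx ⊢
      obtain ⟨b, hb, rfl⟩ := hx
      obtain ⟨f', rfl⟩ := hsurj f
      have hf'F : (f' : G) ∈ F := (hmemF f').mpr hf
      have hb' : (b : G) ∈ A ⊓ F := Subgroup.mem_subgroupOf.mp hb
      refine ⟨f' * b * f'⁻¹, Subgroup.mem_subgroupOf.mpr ⟨?_, ?_⟩, by simp⟩
      · exact (Subgroup.mem_normalizer_iff.mp (hFA hf'F) _).mp hb'.1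
      · exact F.mul_mem (F.mul_mem hf'F hb'.2) (F.inv_mem hf'F)
    have h1 : Bb ≤ Cfsg.pCoreOf p Fb := le_pCoreOf' hBbF hFbB hBbp
    have hn2 : (Cfsg.pCoreOf p Fb).Normal := by
      rw [← Subgroup.normalizer_eq_top_iff, eq_top_iff,
        ← Subgroup.normalizer_eq_top_iff.mpr hFbn]
      exact normalizer_le_normalizer_pCoreOf p Fb
    have h2 : Cfsg.pCoreOf p Fb ≤ Cfsg.pCore p (↥Md ⧸ C.subgroupOf Md) :=
      le_pCore hn2 (pCoreOf_isPGroup' p Fb)
    rw [hO] at h2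
    intro b hb
    have hbMd : b ∈ Md := hAM hb.1
    have h3 : π ⟨b, hbMd⟩ ∈ Bb := by
      rw [hBb]; exact ⟨⟨b, hbMd⟩, Subgroup.mem_subgroupOf.mpr hb, rfl⟩
    have h4 := h2 (h1 h3)
    rw [Subgroup.mem_bot] at h4
    exact (hone _).mp h4
  intro a ha
  have haMd : a ∈ Md := hAM ha
  have hcomm : ∀ f ∈ F, a * f * a⁻¹ * f⁻¹ ∈ C := by
    intro f hf
    apply hB
    have hfMd := hFMd hf
    refine ⟨?_, ?_⟩
    · have h1 : f * a⁻¹ * f⁻¹ ∈ A :=
        (Subgroup.mem_normalizer_iff.mp (hFA hf) _).mp (A.inv_mem ha)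
      have e : a * f * a⁻¹ * f⁻¹ = a * (f * a⁻¹ * f⁻¹) := by group
      rw [e]; exact A.mul_mem ha h1
    · have h1 : a * f * a⁻¹ ∈ F := by
        have h2 : π (⟨a, haMd⟩ * ⟨f, hfMd⟩ * ⟨a, haMd⟩⁻¹) ∈ Fb := by
          rw [map_mul, map_mul, map_inv]
          exact hFbn.conj_mem _ ((hmemF ⟨f, hfMd⟩).mp hf) _
        exact (hmemF _).mpr h2
      exact F.mul_mem h1 (F.inv_mem hf)
  have haC : π ⟨a, haMd⟩ ∈ Subgroup.centralizer (Fb : Set (↥Md ⧸ C.subgroupOf Md)) := by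
    rw [Subgroup.mem_centralizer_iff]
    intro fb hfb
    obtain ⟨f, rfl⟩ := hsurj fb
    have hfF : (f : G) ∈ F := (hmemF f).mpr hfb
    have h1 := hcomm (f : G) hfF
    have h2 : π (⟨a, haMd⟩ * f * ⟨a, haMd⟩⁻¹ * f⁻¹) = 1 := by
      rw [hone]; exact h1
    rw [map_mul, map_mul, map_mul, map_inv, map_inv] at h2
    calc π f * π ⟨a, haMd⟩
        = (π ⟨a, haMd⟩ * π f * (π ⟨a, haMd⟩)⁻¹ * (π f)⁻¹)⁻¹ * (π ⟨a, haMd⟩ * π f) := by group
      _ = π ⟨a, haMd⟩ * π f := by rw [h2]; simp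
  have haF : a ∈ F := (hmemF ⟨a, haMd⟩).mpr (hFbc haC)
  exact hB ⟨ha, haF⟩

/-- two `p`-subgroups `O`, `P` of `H`: some `H`-conjugate of `P` generates a `p`-group with
`O`. -/
theorem fm_conj_pgroups {G : Type*} [Group G] [Finite G] {p : ℕ} [Fact p.Prime]
    (H O P : Subgroup G) (hOH : O ≤ H) (hPH : P ≤ H) (hO : IsPGroup p O) (hP : IsPGroup p P) :
    ∃ g ∈ H, ∃ R : Subgroup G, IsPGroup p R ∧ O ≤ R ∧ cj g P ≤ R := by
  obtain ⟨SH, hSH⟩ := (hO.comap_subtype (K := H)).exists_le_sylow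
  obtain ⟨g, hg⟩ := exists_le_cj_sylow (hP.comap_subtype (K := H)) SH
  refine ⟨((g⁻¹ : ↥H) : G), (g⁻¹).2, (SH : Subgroup ↥H).map H.subtype, SH.isPGroup'.map _,
    ?_, ?_⟩
  · intro o ho
    exact ⟨⟨o, hOH ho⟩, hSH (Subgroup.mem_subgroupOf.mpr ho), rfl⟩
  · intro z hz
    obtain ⟨x, hx, rfl⟩ := mem_cj'.mp hz
    have h1 : (⟨x, hPH hx⟩ : ↥H) ∈ cj g (SH : Subgroup ↥H) :=
      hg (Subgroup.mem_subgroupOf.mpr hx)
    rw [mem_cj] at h1
    exact ⟨g⁻¹ * ⟨x, hPH hx⟩ * g, h1, by simp⟩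

theorem fm_aux51 {G : Type*} [Group G] [Finite G] {p : ℕ} [Fact p.Prime]
    (Y O Md C F H : Subgroup G) (hC : C = Subgroup.centralizer (Y : Set G))
    (hYO : Y ≤ O) (hOC : O ≤ C) (hOp : IsPGroup p O) (hYe : Cfsg.IsElementaryAbelian p Y)
    (hNO : ∀ L : Subgroup G, IsPGroup p L → O ≤ L →
      Subgroup.normalizer (L : Set G) ≤ Subgroup.normalizer (O : Set G) ∧
      Subgroup.normalizer (O : Set G) ≤ Md)
    (hFMd : F ≤ Md) (hCF : C ≤ F)
    (key : ∀ A : Subgroup G, A ≤ Md → F ≤ Subgroup.normalizer (A : Set G) →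
      (∀ a ∈ A ⊓ F, ∃ k : ℕ, a ^ p ^ k ∈ C) → A ≤ C)
    (hFH : F ≤ H)
    (hH : Subgroup.centralizer (Cfsg.pCore p ↥H : Set ↥H) ≤ Cfsg.pCore p ↥H) :
    Y ≤ Cfsg.largestPReducedOf p H := by
  subst hC
  have hOH : O ≤ H := (hOC.trans hCF).trans hFH
  have hYH : Y ≤ H := hYO.trans hOH
  obtain ⟨D, hD⟩ : ∃ D : Subgroup G, D = Cfsg.pCoreOf p H := ⟨_, rfl⟩
  have hDp : IsPGroup p D := hD ▸ pCoreOf_isPGroup' p H
  have hHD : H ≤ Subgroup.normalizer (D : Set G) := hD ▸ le_normalizer_pCoreOf p H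
  have hDH : D ≤ H := hD ▸ pCoreOf_le' p H
  have hpMd : ∀ R : Subgroup G, IsPGroup p R → O ≤ R → R ≤ Md := fun R hR hOR =>
    (Subgroup.le_normalizer.trans (hNO R hR hOR).1).trans (hNO R hR hOR).2
  have hDMd : D ≤ Md := by
    have h1 : IsPGroup p (O ⊔ D : Subgroup G) :=
      IsPGroup.to_sup_of_normal_right' hOp hDp (hOH.trans hHD)
    exact le_sup_right.trans (hpMd _ h1 le_sup_left)
  have hDC : D ≤ Subgroup.centralizer (Y : Set G) := by
    apply key D hDMd (hFH.trans hHD)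
    intro a ha
    obtain ⟨k, hk⟩ := exists_pow_of_isPGroup hDp ha.1
    exact ⟨k, by rw [hk]; exact one_mem _⟩
  have hYD : Y ≤ D := by
    intro y hy
    have h1 : (⟨y, hYH hy⟩ : ↥H) ∈ Subgroup.centralizer (Cfsg.pCore p ↥H : Set ↥H) := by
      rw [Subgroup.mem_centralizer_iff]
      intro n hn
      apply Subtype.ext
      have hnD : (n : G) ∈ D := by rw [hD]; exact ⟨n, hn, rfl⟩
      exact (Subgroup.mem_centralizer_iff.mp (hDC hnD) y hy).symm
    rw [hD]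
    exact ⟨⟨y, hYH hy⟩, hH h1, rfl⟩
  have hYΩ : Y ≤ Cfsg.omegaOne p (D ⊓ Subgroup.centralizer (D : Set G)) := by
    intro y hy
    exact Subgroup.subset_closure ⟨⟨hYD hy, Subgroup.le_centralizer_iff.mp hDC hy⟩,
      ((isElementaryAbelian_iff Y).mp hYe).2 y hy⟩
  have hHΩ : H ≤ Subgroup.normalizer
      ((Cfsg.omegaOne p (D ⊓ Subgroup.centralizer (D : Set G)) : Subgroup G) : Set G) :=
    hHD.trans (normalizer_le_normalizer_omegaOne_center _)
  have hΩD : Cfsg.omegaOne p (D ⊓ Subgroup.centralizer (D : Set G)) ≤ D := by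
    intro w hw; exact (omegaOne_center_mem _ w hw).1.1
  obtain ⟨V, hV⟩ : ∃ V : Subgroup G, V = fhNC H Y := ⟨_, rfl⟩
  have hYV : Y ≤ V := hV ▸ fhNC_ge H Y
  have hVΩ : V ≤ Cfsg.omegaOne p (D ⊓ Subgroup.centralizer (D : Set G)) := by
    rw [hV]; exact fhNC_le_of_normalizer hYΩ hHΩ
  have hVH : V ≤ H := hVΩ.trans (hΩD.trans hDH)
  have hHV : H ≤ Subgroup.normalizer (V : Set G) := hV ▸ fhNC_normal H Y
  have hVe : Cfsg.IsElementaryAbelian p V := isElementaryAbelian_of_le_omegaOne_center hVΩ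
  refine hYV.trans (le_largestPReducedOf hVH ?_)
  rw [isPReducedNormal_subgroupOf_iff hVH]
  refine ⟨hHV, hVe, fun E hEH hHE hE => ?_⟩
  have hCVY : Subgroup.centralizer (V : Set G) ≤ Subgroup.centralizer (Y : Set G) :=
    Subgroup.centralizer_le (SetLike.coe_subset_coe.mpr hYV)
  have hE₁ : E ⊓ Md ≤ Subgroup.centralizer (Y : Set G) := by
    apply key (E ⊓ Md) inf_le_right
    · exact le_normalizer_inf' (hFH.trans hHE) (hFMd.trans Subgroup.le_normalizer)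
    · intro a ha
      obtain ⟨k, hk⟩ := hE a ha.1.1
      exact ⟨k, hCVY hk⟩
  obtain ⟨P, hPE, hPp, hEP⟩ := exists_pGroup_sup E (Subgroup.centralizer (V : Set G)) hE
  obtain ⟨g, hg, R, hRp, hOR, hgP⟩ := fm_conj_pgroups H O P hOH (hPE.trans hEH) hOp hPp
  have hgPC : cj g P ≤ Subgroup.centralizer (Y : Set G) := by
    refine le_trans ?_ hE₁
    refine le_inf ?_ (hgP.trans (hpMd R hRp hOR))
    have := cj_mono (g := g) hPE
    rwa [cj_eq_self_of_mem_normalizer (hHE hg)] at this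
  have hEC : E ≤ Subgroup.centralizer (Y : Set G) := by
    have h1 : cj g E ≤ cj g ((Subgroup.centralizer (V : Set G) ⊓ E) ⊔ P) := cj_mono hEP
    have hnCV : H ≤ Subgroup.normalizer
        ((Subgroup.centralizer (V : Set G) : Subgroup G) : Set G) :=
      hHV.trans (normalizer_le_normalizer_centralizer V)
    rw [cj_eq_self_of_mem_normalizer (hHE hg), cj_sup,
      cj_eq_self_of_mem_normalizer ((le_normalizer_inf' hnCV hHE) hg)] at h1
    exact h1.trans (sup_le (inf_le_left.trans hCVY) hgPC)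
  have h3 : Y ≤ Subgroup.centralizer (E : Set G) := Subgroup.le_centralizer_iff.mp hEC
  have h4 : V ≤ Subgroup.centralizer (E : Set G) := by
    rw [hV]
    exact fhNC_le_of_normalizer h3 (hHE.trans (normalizer_le_normalizer_centralizer E))
  exact Subgroup.le_centralizer_iff.mp h4

/-- S2851. -/
theorem fm_main51 {G : Type*} [Group G] [Finite G] {p : ℕ} [Fact p.Prime] (S : Sylow p G)
    (Q : Subgroup G) (hQp : IsPGroup p ↥Q) (hQ1 : Q ≠ ⊥) (hQS : Q ≤ (S : Subgroup G))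
    (hQ : Cfsg.IsLarge Q) (M : Subgroup G) (hSM : (S : Subgroup G) ≤ M)
    (hM : Cfsg.IsInFrakM p M) (hasym : ¬ Cfsg.IsSymmetricIn (Cfsg.largestPReducedOf p M))
    [hn : ((Subgroup.centralizer (((Cfsg.largestPReducedOf p M) : Subgroup G) : Set G)).subgroupOf (M ⊔ Subgroup.centralizer (((Cfsg.largestPReducedOf p M) : Subgroup G) : Set G))).Normal]
    (F : Subgroup G)
    (hF : F = ((Cfsg.generalizedFittingSubgroup (↥(M ⊔ Subgroup.centralizer (((Cfsg.largestPReducedOf p M) : Subgroup G) : Set G)) ⧸ (Subgroup.centralizer (((Cfsg.largestPReducedOf p M) : Subgroup G) : Set G)).subgroupOf (M ⊔ Subgroup.centralizer (((Cfsg.largestPReducedOf p M) : Subgroup G) : Set G)))).comap (QuotientGroup.mk' ((Subgroup.centralizer (((Cfsg.largestPReducedOf p M) : Subgroup G) : Set G)).subgroupOf (M ⊔ Subgroup.centralizer (((Cfsg.largestPReducedOf p M) : Subgroup G) : Set G))))).map ((M ⊔ Subgroup.centralizer (((Cfsg.largestPReducedOf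 p M) : Subgroup G) : Set G))).subtype)
    (H : Subgroup G) (hFH : F ≤ H)
    (hH : Subgroup.centralizer (Cfsg.pCore p ↥H : Set ↥H) ≤ Cfsg.pCore p ↥H) :
    (Cfsg.largestPReducedOf p M) ≤ Cfsg.largestPReducedOf p H := by
  have hA := (asym_main S Q hQp hQ1 hQS hQ M hSM hM hasym).1
  have hYeq := hM.2.2.2.1
  have hspec := largestPReducedOf_spec p
    (M ⊔ Subgroup.centralizer (Cfsg.largestPReducedOf p M : Set G))
  rw [← hYeq] at hspec
  obtain ⟨-, hYe, hYr⟩ := hspec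
  have hFMd : F ≤ M ⊔ Subgroup.centralizer (Cfsg.largestPReducedOf p M : Set G) := by
    rw [hF]; exact Subgroup.map_subtype_le _
  have hCF : Subgroup.centralizer (Cfsg.largestPReducedOf p M : Set G) ≤ F := by
    intro c hc
    rw [hF]
    have h1 : QuotientGroup.mk' ((Subgroup.centralizer (((Cfsg.largestPReducedOf p M) : Subgroup G) : Set G)).subgroupOf (M ⊔ Subgroup.centralizer (((Cfsg.largestPReducedOf p M) : Subgroup G) : Set G))) ⟨c, Subgroup.mem_sup_right hc⟩ = 1 :=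
      (QuotientGroup.eq_one_iff _).mpr (Subgroup.mem_subgroupOf.mpr hc)
    refine ⟨⟨c, Subgroup.mem_sup_right hc⟩, Subgroup.mem_comap.mpr ?_, rfl⟩
    rw [h1]; exact one_mem _
  have hOq := fm_pCore_quot (p := p)
    (M ⊔ Subgroup.centralizer (Cfsg.largestPReducedOf p M : Set G))
    (Subgroup.centralizer (Cfsg.largestPReducedOf p M : Set G)) hYr
  exact fm_aux51 (Cfsg.largestPReducedOf p M) (Cfsg.pCoreOf p M)
    (M ⊔ Subgroup.centralizer (Cfsg.largestPReducedOf p M : Set G))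
    (Subgroup.centralizer (Cfsg.largestPReducedOf p M : Set G)) F H rfl
    (largestPReducedOf_le_pCoreOf M) (pCoreOf_le_centralizer_largest M) (pCoreOf_isPGroup' p M)
    hYe hA hFMd hCF
    (fun A hAM hFA hAp => fm_key (p := p) _ _ hOq F hF A hAM hFA hAp) hFH hH

end Cfsg.Agent.Helper10
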