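import Mathlib
import Cfsg.Agent.Helper10.PComp

set_option autoImplicit false

namespace Cfsg.Agent.Helper10

theorem inv2_sq {G : Type*} [Group G] {t : G} (ht : orderOf t = 2) : t * t = 1 := by
  have := pow_orderOf_eq_one t
  rwa [ht, pow_two] at this

theorem inv2_inv {G : Type*} [Group G] {t : G} (ht : orderOf t = 2) : t⁻¹ = t :=
  inv_eq_of_mul_eq_one_left (inv2_sq ht)

theorem inv2_ne_one {G : Type*} [Group G] {t : G} (ht : orderOf t = 2) : t ≠ 1 := by
  intro h; rw [h, orderOf_one] at ht; omega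

theorem inv2_of_sq {G : Type*} [Group G] {t : G} (h1 : t * t = 1) (h2 : t ≠ 1) : orderOf t = 2 := by
  apply orderOf_eq_prime _ h2
  rw [pow_two]; exact h1

theorem inv2_conj {G : Type*} [Group G] {t : G} (ht : orderOf t = 2) (g : G) :
    orderOf (g * t * g⁻¹) = 2 := by
  have : g * t * g⁻¹ = MulAut.conj g t := rfl
  rw [this, MulEquiv.orderOf_eq]
  exact ht

theorem dih_pow_mul {G : Type*} [Group G] {s t : G} (hs : s * s = 1) (ht : t * t = 1) (j : ℕ) :
    (s * t) ^ j * s = s * ((s * t) ^ j)⁻¹ := by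
  induction j with
  | zero => simp
  | succ j ih =>
    have h1 : (s * t) * s = s * (s * t)⁻¹ := by
      rw [mul_inv_rev, inv_eq_of_mul_eq_one_left hs, inv_eq_of_mul_eq_one_left ht]
      group
    rw [pow_succ, mul_assoc, h1, ← mul_assoc, ih, mul_assoc, ← mul_inv_rev, ← pow_succ', pow_succ]

/-- Two involutions with product of odd order are conjugate. -/
theorem dih_odd {G : Type*} [Group G] {s t : G} (hs : s * s = 1) (ht : t * t = 1)
    (hodd : Odd (orderOf (s * t))) : ∃ w : G, w * s * w⁻¹ = t := by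
  obtain ⟨k, hk⟩ := hodd
  refine ⟨(s * t) ^ k, ?_⟩
  have h1 := dih_pow_mul hs ht k
  have h2 : (s * t) ^ (2 * k + 1) = 1 := by rw [← hk]; exact pow_orderOf_eq_one _
  have h3 : ((s * t) ^ k)⁻¹ * ((s * t) ^ k)⁻¹ = s * t := by
    have h4 : (s * t) ^ k * (s * t) ^ k * (s * t) = 1 := by
      rw [← pow_add, ← pow_succ, show k + k + 1 = 2 * k + 1 by ring]; exact h2
    calc ((s * t) ^ k)⁻¹ * ((s * t) ^ k)⁻¹
        = ((s * t) ^ k)⁻¹ * ((s * t) ^ k)⁻¹ * ((s * t) ^ k * (s * t) ^ k * (s * t)) := by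
          rw [h4, mul_one]
      _ = s * t := by group
  rw [h1, mul_assoc, h3, ← mul_assoc, hs, one_mul]

/-- Two involutions with product of even order commute with a common involution. -/
theorem dih_even {G : Type*} [Group G] [Finite G] {s t : G} (hs : s * s = 1) (ht : t * t = 1)
    (heven : Even (orderOf (s * t))) : ∃ z : G, orderOf z = 2 ∧ z * s = s * z ∧ z * t = t * z := by
  obtain ⟨k, hk⟩ := heven
  have hpos : 0 < orderOf (s * t) := orderOf_pos _
  have hk0 : 0 < k := by omega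
  have hz2 : (s * t) ^ k * (s * t) ^ k = 1 := by rw [← pow_add, ← hk]; exact pow_orderOf_eq_one _
  have hz1 : (s * t) ^ k ≠ 1 := pow_ne_one_of_lt_orderOf hk0.ne' (by omega)
  have hinv : ((s * t) ^ k)⁻¹ = (s * t) ^ k := inv_eq_of_mul_eq_one_left hz2
  have hzs : (s * t) ^ k * s = s * (s * t) ^ k := by
    have := dih_pow_mul hs ht k
    rwa [hinv] at this
  refine ⟨(s * t) ^ k, inv2_of_sq hz2 hz1, hzs, ?_⟩
  have htx : s * (s * t) = t := by rw [← mul_assoc, hs, one_mul]
  have hzx : (s * t) ^ k * (s * t) = (s * t) * (s * t) ^ k := pow_mul_comm' (s * t) k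
  calc (s * t) ^ k * t = (s * t) ^ k * (s * (s * t)) := by rw [htx]
    _ = ((s * t) ^ k * s) * (s * t) := by rw [mul_assoc]
    _ = s * ((s * t) ^ k * (s * t)) := by rw [hzs, mul_assoc]
    _ = s * (s * t) * (s * t) ^ k := by rw [hzx]; exact (mul_assoc _ _ _).symm
    _ = t * (s * t) ^ k := by rw [htx]

/-- A coset `v C_S(t)` outside `M` contains at most one involution. -/
theorem invol_coset_unique {S : Type*} [Group S] [Finite S] (M : Subgroup S)
    (hC : ∀ i ∈ M, orderOf i = 2 → Subgroup.centralizer ({i} : Set S) ≤ M)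
    {t : S} (htM : t ∈ M) (ht : orderOf t = 2) {v₁ v₂ : S} (h₁ : orderOf v₁ = 2)
    (h₂ : orderOf v₂ = 2) (hv₁ : v₁ ∉ M)
    (hc : v₁⁻¹ * v₂ ∈ Subgroup.centralizer ({t} : Set S)) : v₁ = v₂ := by
  have hv1 : v₁ * v₁ = 1 := inv2_sq h₁
  have hv2 : v₂ * v₂ = 1 := inv2_sq h₂
  have ht2 : t * t = 1 := inv2_sq ht
  have hinv : v₁ * (v₁⁻¹ * v₂) * v₁⁻¹ = (v₁⁻¹ * v₂)⁻¹ := by
    rw [mul_inv_rev, inv_inv, inv2_inv h₂, inv2_inv h₁, ← mul_assoc, hv1, one_mul]
  obtain ⟨c, hcdef⟩ : ∃ c, c = v₁⁻¹ * v₂ := ⟨_, rfl⟩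
  rw [← hcdef] at hc hinv
  have hct : c * t = t * c :=
    (Subgroup.mem_centralizer_iff.mp hc t (Set.mem_singleton t)).symm
  have hodd : Odd (orderOf (t * v₁)) := by
    by_contra hne
    rw [Nat.not_odd_iff_even] at hne
    obtain ⟨z, hz, hzt, hzv⟩ := dih_even ht2 hv1 hne
    have hzM : z ∈ M := hC t htM ht (Subgroup.mem_centralizer_iff.mpr (fun y hy => by
      rw [Set.mem_singleton_iff] at hy; subst hy; exact hzt.symm))
    exact hv₁ (hC z hzM hz (Subgroup.mem_centralizer_iff.mpr (fun y hy => by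
      rw [Set.mem_singleton_iff] at hy; subst hy; exact hzv)))
  have hct' : c * (v₁ * t * v₁⁻¹) = (v₁ * t * v₁⁻¹) * c := by
    have e1 : c⁻¹ * (v₁ * t * v₁⁻¹) = (v₁ * t * v₁⁻¹) * c⁻¹ := by
      rw [← hinv]
      calc v₁ * c * v₁⁻¹ * (v₁ * t * v₁⁻¹) = v₁ * (c * t) * v₁⁻¹ := by group
        _ = v₁ * (t * c) * v₁⁻¹ := by rw [hct]
        _ = v₁ * t * v₁⁻¹ * (v₁ * c * v₁⁻¹) := by group
    calc c * (v₁ * t * v₁⁻¹) = c * ((v₁ * t * v₁⁻¹) * c⁻¹) * c := by group
      _ = c * (c⁻¹ * (v₁ * t * v₁⁻¹)) * c := by rw [e1]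
      _ = (v₁ * t * v₁⁻¹) * c := by group
  have hsq : (t * v₁) * (t * v₁) = t * (v₁ * t * v₁⁻¹) := by
    rw [inv2_inv h₁]; group
  have hc2 : Commute c ((t * v₁) * (t * v₁)) := by
    show c * ((t * v₁) * (t * v₁)) = ((t * v₁) * (t * v₁)) * c
    rw [hsq]
    calc c * (t * (v₁ * t * v₁⁻¹)) = (c * t) * (v₁ * t * v₁⁻¹) := (mul_assoc _ _ _).symm
      _ = (t * c) * (v₁ * t * v₁⁻¹) := by rw [hct]
      _ = t * (c * (v₁ * t * v₁⁻¹)) := mul_assoc _ _ _
      _ = t * ((v₁ * t * v₁⁻¹) * c) := by rw [hct']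
      _ = t * (v₁ * t * v₁⁻¹) * c := (mul_assoc _ _ _).symm
  have hcx : c * (t * v₁) = (t * v₁) * c := by
    obtain ⟨k, hk⟩ := hodd
    have h2 : Commute c (((t * v₁) * (t * v₁)) ^ (k + 1)) := hc2.pow_right (k + 1)
    have h3 : ((t * v₁) * (t * v₁)) ^ (k + 1) = t * v₁ := by
      rw [← pow_two, ← pow_mul, show 2 * (k + 1) = (2 * k + 1) + 1 by ring, pow_succ, ← hk,
        pow_orderOf_eq_one, one_mul]
    rw [h3] at h2
    exact h2
  have hcv : c * v₁ = v₁ * c := by
    have e : t * (t * v₁) = v₁ := by rw [← mul_assoc, ht2, one_mul]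
    calc c * v₁ = c * (t * (t * v₁)) := by rw [e]
      _ = t * (c * (t * v₁)) := by rw [← mul_assoc, hct, mul_assoc]
      _ = t * ((t * v₁) * c) := by rw [hcx]
      _ = v₁ * c := by rw [← mul_assoc t, e]
  have hci : c⁻¹ = c := by rw [← hinv, ← hcv]; group
  have hcc : c * c = 1 := by
    calc c * c = c⁻¹ * c := by rw [hci]
      _ = 1 := inv_mul_cancel c
  by_cases hc1 : c = 1
  · rw [hcdef] at hc1
    exact inv_mul_eq_one.mp hc1
  · exfalso
    have hco : orderOf c = 2 := inv2_of_sq hcc hc1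
    have hcM : c ∈ M := hC t htM ht hc
    exact hv₁ (hC c hcM hco (Subgroup.mem_centralizer_iff.mpr (fun y hy => by
      rw [Set.mem_singleton_iff] at hy; subst hy; exact hcv)))

/-- Fusion control: if `X` is a Sylow 2-subgroup of `M` with `N_S(X) ≤ M`, centralized by the
involution `t`, and `g t g⁻¹ ∈ M`, then `g ∈ M`. -/
theorem invol_fusion {S : Type*} [Group S] [Finite S] (M : Subgroup S)
    (hC : ∀ i ∈ M, orderOf i = 2 → Subgroup.centralizer ({i} : Set S) ≤ M)
    (X : Sylow 2 M) (t : S) (ht : orderOf t = 2)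
    (hXt : ∀ x ∈ (X : Subgroup M), (x : S) * t = t * x)
    (hN : Subgroup.normalizer (((X : Subgroup M).map M.subtype : Subgroup S) : Set S) ≤ M)
    (g : S) (hg : g * t * g⁻¹ ∈ M) : g ∈ M := by
  have hy2 : orderOf (g * t * g⁻¹) = 2 := inv2_conj ht g
  have hCy := hC _ hg hy2
  have hconj : ∀ x ∈ (X : Subgroup M), g * (x : S) * g⁻¹ ∈ M := by
    intro x hx
    apply hCy
    rw [Subgroup.mem_centralizer_iff]
    intro y hy
    rw [Set.mem_singleton_iff] at hy
    subst hy
    have := hXt x hx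
    calc g * t * g⁻¹ * (g * x * g⁻¹) = g * (t * x) * g⁻¹ := by group
      _ = g * (x * t) * g⁻¹ := by rw [this]
      _ = g * x * g⁻¹ * (g * t * g⁻¹) := by group
  let f : ↥(X : Subgroup M) →* ↥M :=
    { toFun := fun x => ⟨g * ((x : M) : S) * g⁻¹, hconj x x.2⟩
      map_one' := by apply Subtype.ext; simp
      map_mul' := by intro a b; apply Subtype.ext; simp }
  have hf : Function.Injective f := by
    intro a b hab
    have h1 : g * ((a : M) : S) * g⁻¹ = g * ((b : M) : S) * g⁻¹ := congrArg Subtype.val hab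
    have h2 : ((a : M) : S) = ((b : M) : S) := by
      have := congrArg (fun z => g⁻¹ * z * g) h1
      simpa [mul_assoc] using this
    exact Subtype.ext (Subtype.ext h2)
  have hcard : Nat.card f.range = 2 ^ (Nat.card M).factorization 2 := by
    rw [← X.card_eq_multiplicity]
    exact (Nat.card_congr (MonoidHom.ofInjective hf).toEquiv).symm
  obtain ⟨m, hm⟩ := MulAction.exists_smul_eq M X (Sylow.ofCard f.range hcard)
  have hkey : ∀ x ∈ (X : Subgroup M), ∃ x' ∈ (X : Subgroup M),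
      g * (x' : S) * g⁻¹ = (m : S) * x * (m : S)⁻¹ := by
    intro x hx
    have h1 : m * x * m⁻¹ ∈ ((m • X : Sylow 2 M) : Subgroup M) := by
      rw [Sylow.coe_subgroup_smul]
      exact Subgroup.smul_mem_pointwise_smul x (MulAut.conj m) _ hx
    rw [hm] at h1
    obtain ⟨x', hx'⟩ := h1
    exact ⟨x', x'.2, congrArg Subtype.val hx'⟩
  have hnorm : g⁻¹ * (m : S) ∈
      Subgroup.normalizer (((X : Subgroup M).map M.subtype : Subgroup S) : Set S) := by
    apply mem_normalizer_of_map_conj_eq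
    apply Subgroup.eq_of_le_of_card_ge
    · rintro _ ⟨w, ⟨x, hx, rfl⟩, rfl⟩
      obtain ⟨x', hx', he⟩ := hkey x hx
      refine ⟨x', hx', ?_⟩
      show ((x' : M) : S) = (g⁻¹ * (m : S)) * (x : S) * (g⁻¹ * (m : S))⁻¹
      calc ((x' : M) : S) = g⁻¹ * (g * (x' : S) * g⁻¹) * g := by group
        _ = g⁻¹ * ((m : S) * x * (m : S)⁻¹) * g := by rw [he]
        _ = (g⁻¹ * (m : S)) * (x : S) * (g⁻¹ * (m : S))⁻¹ := by group
    · rw [Subgroup.card_map_of_injective (show Function.Injective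
        ((MulAut.conj (g⁻¹ * (m : S))).toMonoidHom) from (MulAut.conj (g⁻¹ * (m : S))).injective)]
  have h3 := M.mul_mem (hN hnorm) (M.inv_mem m.2)
  have h4 : g⁻¹ ∈ M := by
    have e : g⁻¹ * (m : S) * (m : S)⁻¹ = g⁻¹ := by group
    rwa [e] at h3
  simpa using M.inv_mem h4

/-- S1905. -/
theorem strongly_embedded_invol {S : Type*} [Group S] [Finite S] (M : Subgroup S)
    (hM : Even (Nat.card M))
    (hC : ∀ i ∈ M, orderOf i = 2 → Subgroup.centralizer ({i} : Set S) ≤ M)
    (hcore : Odd (Nat.card M.normalCore)) :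
    (∀ x y : S, orderOf x = 2 → orderOf y = 2 → IsConj x y) ∧
      ∀ (X : Sylow 2 M) (I : M),
        I ∈ (Subgroup.center ↥(X : Subgroup ↥M)).map (X : Subgroup ↥M).subtype → orderOf I = 2 →
        Subgroup.normalizer (((X : Subgroup M).map M.subtype : Subgroup S) : Set S) ≤ M →
        (∀ x y : M, orderOf x = 2 → orderOf y = 2 → IsConj x y) ∧
          ∃ M₀ : Subgroup M, Odd (Nat.card M₀) ∧
            ∀ m : M, ∃ a ∈ M₀, ∃ c ∈ Subgroup.centralizer ({I} : Set M), m = a * c := by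
  obtain ⟨i₀, hi₀⟩ := exists_prime_orderOf_dvd_card' 2 (even_iff_two_dvd.mp hM)
  have hi : orderOf (i₀ : S) = 2 := by rw [Subgroup.orderOf_coe]; exact hi₀
  have hnocore : ∀ j : S, orderOf j = 2 → j ∉ M.normalCore := by
    intro j hj hjc
    have h1 : orderOf (⟨j, hjc⟩ : M.normalCore) = 2 := by rw [← Subgroup.orderOf_coe]; exact hj
    have h2 : 2 ∣ Nat.card M.normalCore := h1 ▸ orderOf_dvd_natCard _
    exact (Nat.not_even_iff_odd.mpr hcore) (even_iff_two_dvd.mpr h2)
  have hA : ∀ j : S, orderOf j = 2 → ∃ g : S, g * (i₀ : S) * g⁻¹ = j := by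
    intro j hj
    by_contra hno
    push Not at hno
    apply hnocore j hj
    show ∀ b : S, b * j * b⁻¹ ∈ M
    intro b
    have hj' : orderOf (b * j * b⁻¹) = 2 := inv2_conj hj b
    by_cases hodd : Odd (orderOf ((i₀ : S) * (b * j * b⁻¹)))
    · exfalso
      obtain ⟨w, hw⟩ := dih_odd (inv2_sq hi) (inv2_sq hj') hodd
      apply hno (b⁻¹ * w)
      calc b⁻¹ * w * (i₀ : S) * (b⁻¹ * w)⁻¹ = b⁻¹ * (w * i₀ * w⁻¹) * b := by group
        _ = b⁻¹ * (b * j * b⁻¹) * b := by rw [hw]
        _ = j := by group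
    · rw [Nat.not_odd_iff_even] at hodd
      obtain ⟨z, hz, hzi, hzj⟩ := dih_even (inv2_sq hi) (inv2_sq hj') hodd
      have hzM : z ∈ M := hC _ i₀.2 hi (Subgroup.mem_centralizer_iff.mpr (fun y hy => by
        rw [Set.mem_singleton_iff] at hy; rw [hy]; exact hzi.symm))
      exact hC z hzM hz (Subgroup.mem_centralizer_iff.mpr (fun y hy => by
        rw [Set.mem_singleton_iff] at hy; rw [hy]; exact hzj))
  refine ⟨?_, ?_⟩
  · intro x y hx hy
    obtain ⟨g, hg⟩ := hA x hx
    obtain ⟨h, hh⟩ := hA y hy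
    rw [isConj_iff]
    refine ⟨h * g⁻¹, ?_⟩
    rw [← hg, ← hh]; group
  · intro X I hI hI2 hN
    have hIS : orderOf (I : S) = 2 := by rw [Subgroup.orderOf_coe]; exact hI2
    have hXI : ∀ x ∈ (X : Subgroup M), (x : S) * (I : S) = (I : S) * x := by
      intro x hx
      obtain ⟨c, hc, hcI⟩ := hI
      have h1 := Subgroup.mem_center_iff.mp hc ⟨x, hx⟩
      have h2 : x * I = I * x := by rw [← hcI]; exact congrArg Subtype.val h1
      exact congrArg Subtype.val h2
    have hfus : ∀ g : S, g * (I : S) * g⁻¹ ∈ M → g ∈ M := invol_fusion M hC X I hIS hXI hN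
    have hB1 : ∀ y : S, y ∈ M → orderOf y = 2 → ∃ a ∈ M, a * (I : S) * a⁻¹ = y := by
      intro y hyM hy
      obtain ⟨g, hg⟩ := hA y hy
      obtain ⟨h, hh⟩ := hA (I : S) hIS
      have e : (g * h⁻¹) * (I : S) * (g * h⁻¹)⁻¹ = y := by rw [← hh, ← hg]; group
      exact ⟨g * h⁻¹, hfus _ (by rw [e]; exact hyM), e⟩
    have hfus' : ∀ y : S, y ∈ M → orderOf y = 2 → ∀ g : S, g * y * g⁻¹ ∈ M → g ∈ M := by
      intro y hyM hy g hg
      obtain ⟨a, haM, ha⟩ := hB1 y hyM hy
      have e : (g * a) * (I : S) * (g * a)⁻¹ = g * y * g⁻¹ := by rw [← ha]; group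
      have h1 := hfus (g * a) (by rw [e]; exact hg)
      have h2 := M.mul_mem h1 (M.inv_mem haM)
      have e2 : g * a * a⁻¹ = g := by group
      rwa [e2] at h2
    refine ⟨?_, ?_⟩
    · intro x y hx hy
      obtain ⟨a, haM, ha⟩ := hB1 x x.2 (by rw [Subgroup.orderOf_coe]; exact hx)
      obtain ⟨b, hbM, hb⟩ := hB1 y y.2 (by rw [Subgroup.orderOf_coe]; exact hy)
      rw [isConj_iff]
      refine ⟨⟨b, hbM⟩ * ⟨a, haM⟩⁻¹, ?_⟩
      apply Subtype.ext
      show b * a⁻¹ * (x : S) * (b * a⁻¹)⁻¹ = y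
      rw [← ha, ← hb]; group
    · obtain ⟨u, hu, huM⟩ : ∃ u : S, orderOf u = 2 ∧ u ∉ M := by
        by_contra hno
        push Not at hno
        apply hnocore (I : S) hIS
        show ∀ b : S, b * (I : S) * b⁻¹ ∈ M
        intro b
        exact hno _ (inv2_conj hIS b)
      have hu2 : u * u = 1 := inv2_sq hu
      have hui : u⁻¹ = u := inv2_inv hu
      obtain ⟨D, hDdef⟩ : ∃ D : Subgroup S, D = M ⊓ M.comap (MulAut.conj u).toMonoidHom :=
        ⟨_, rfl⟩
      have hDmem : ∀ d : S, d ∈ D ↔ d ∈ M ∧ u * d * u⁻¹ ∈ M := by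
        intro d; rw [hDdef]; exact Iff.rfl
      have hDM : D ≤ M := by rw [hDdef]; exact inf_le_left
      have hDodd : Odd (Nat.card D) := by
        by_contra hne
        rw [Nat.not_odd_iff_even] at hne
        obtain ⟨k, hk⟩ := exists_prime_orderOf_dvd_card' 2 (even_iff_two_dvd.mp hne)
        have hkS : orderOf (k : S) = 2 := by rw [Subgroup.orderOf_coe]; exact hk
        have hkD := (hDmem _).mp k.2
        exact huM (hfus' _ hkD.1 hkS u hkD.2)
      refine ⟨D.subgroupOf M, ?_, ?_⟩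
      · have e : Nat.card (D.subgroupOf M) = Nat.card D :=
          Nat.card_congr (Subgroup.subgroupOfEquivOfLe hDM).toEquiv
        rw [e]; exact hDodd
      · obtain ⟨C, hCdef⟩ : ∃ C : Subgroup S, C = Subgroup.centralizer ({(I : S)} : Set S) :=
          ⟨_, rfl⟩
        have hCM : C ≤ M := by rw [hCdef]; exact hC I I.2 hIS
        have hCI : ∀ c ∈ C, c * (I : S) = (I : S) * c := by
          intro c hc
          rw [hCdef] at hc
          exact (Subgroup.mem_centralizer_iff.mp hc _ (Set.mem_singleton _)).symm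
        let φ : S ⧸ C → S := Quotient.lift (fun g : S => g * (I : S) * g⁻¹) (by
          intro a b hab
          have h : a⁻¹ * b ∈ C := QuotientGroup.leftRel_apply.mp hab
          have hcI := hCI _ h
          show a * (I : S) * a⁻¹ = b * (I : S) * b⁻¹
          calc a * (I : S) * a⁻¹ = a * ((I : S) * (a⁻¹ * b)) * b⁻¹ := by group
            _ = a * ((a⁻¹ * b) * (I : S)) * b⁻¹ := by rw [hcI]
            _ = b * (I : S) * b⁻¹ := by group)
        have hφ : ∀ g : S, φ (g : S ⧸ C) = g * (I : S) * g⁻¹ := fun g => rfl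
        have hφinj : Function.Injective φ := by
          intro q₁ q₂
          induction q₁ using QuotientGroup.induction_on with
          | H a =>
          induction q₂ using QuotientGroup.induction_on with
          | H b =>
          intro hab
          rw [hφ, hφ] at hab
          apply QuotientGroup.eq.mpr
          rw [hCdef]
          apply Subgroup.mem_centralizer_iff.mpr
          intro y hy
          rw [Set.mem_singleton_iff] at hy
          rw [hy]
          calc (I : S) * (a⁻¹ * b) = a⁻¹ * (a * (I : S) * a⁻¹) * b := by group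
            _ = a⁻¹ * (b * (I : S) * b⁻¹) * b := by rw [hab]
            _ = a⁻¹ * b * (I : S) := by group
        let A : Set (S ⧸ C) := {q | ∃ g : S, g ∉ M ∧ (g : S ⧸ C) = q}
        let ψ : S ⧸ C → S ⧸ C := fun q => ((φ q : S) : S ⧸ C)
        have hmaps : ∀ q ∈ A, ψ q ∈ A := by
          rintro _ ⟨g, hg, rfl⟩
          exact ⟨g * (I : S) * g⁻¹, fun h => hg (hfus g h), rfl⟩
        have hinj : Function.Injective (fun q : A => (⟨ψ q, hmaps q q.2⟩ : A)) := by
          rintro ⟨_, ⟨g₁, hg₁, rfl⟩⟩ ⟨_, ⟨g₂, hg₂, rfl⟩⟩ h12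
          have h1 : ((g₁ * (I : S) * g₁⁻¹ : S) : S ⧸ C) = ((g₂ * (I : S) * g₂⁻¹ : S) : S ⧸ C) :=
            congrArg Subtype.val h12
          have h2 : (g₁ * (I : S) * g₁⁻¹)⁻¹ * (g₂ * (I : S) * g₂⁻¹) ∈ C := QuotientGroup.eq.mp h1
          rw [hCdef] at h2
          have h3 := invol_coset_unique M hC I.2 hIS (inv2_conj hIS g₁) (inv2_conj hIS g₂)
            (fun h => hg₁ (hfus g₁ h)) h2
          apply Subtype.ext
          apply hφinj
          rw [hφ, hφ]
          exact h3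
        have hsurj := Finite.injective_iff_surjective.mp hinj
        intro m
        have hx : u * (m : S) ∉ M := by
          intro h
          have h2 := M.mul_mem h (M.inv_mem m.2)
          have e : u * (m : S) * (m : S)⁻¹ = u := by group
          rw [e] at h2
          exact huM h2
        obtain ⟨⟨_, ⟨g, hg, rfl⟩⟩, hq⟩ := hsurj ⟨((u * (m : S) : S) : S ⧸ C), ⟨_, hx, rfl⟩⟩
        have h1 : ((g * (I : S) * g⁻¹ : S) : S ⧸ C) = ((u * (m : S) : S) : S ⧸ C) :=
          congrArg Subtype.val hq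
        have hc₀ : (g * (I : S) * g⁻¹)⁻¹ * (u * (m : S)) ∈ C := QuotientGroup.eq.mp h1
        have hv : orderOf (g * (I : S) * g⁻¹) = 2 := inv2_conj hIS g
        obtain ⟨v, hvdef⟩ : ∃ v : S, v = g * (I : S) * g⁻¹ := ⟨_, rfl⟩
        rw [← hvdef] at hc₀ hv
        have hvi : v⁻¹ = v := inv2_inv hv
        have hm : (m : S) = (u * v) * (v⁻¹ * (u * (m : S))) := by
          calc (m : S) = (u * u) * m := by rw [hu2, one_mul]
            _ = (u * v) * (v⁻¹ * (u * (m : S))) := by group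
        have hdM : u * v ∈ M := by
          have h2 := M.mul_mem m.2 (M.inv_mem (hCM hc₀))
          have e : (m : S) * (v⁻¹ * (u * (m : S)))⁻¹ = u⁻¹ * v := by group
          rw [e, hui] at h2
          exact h2
        have hdD : u * v ∈ D := by
          rw [hDmem]
          refine ⟨hdM, ?_⟩
          have e : u * (u * v) * u⁻¹ = (u * v)⁻¹ := by
            rw [mul_inv_rev, hvi, hui, ← mul_assoc, hu2, one_mul]
          rw [e]
          exact M.inv_mem hdM
        refine ⟨⟨u * v, hdM⟩, Subgroup.mem_subgroupOf.mpr hdD, ⟨v⁻¹ * (u * (m : S)), hCM hc₀⟩, ?_, ?_⟩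
        · apply Subgroup.mem_centralizer_iff.mpr
          intro y hy
          rw [Set.mem_singleton_iff] at hy
          rw [hy]
          apply Subtype.ext
          exact (hCI _ hc₀).symm
        · apply Subtype.ext
          exact hm

end Cfsg.Agent.Helper10
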