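import Mathlib
import Cfsg.Agent.Helper10.Invol

set_option autoImplicit false

namespace Cfsg.Agent.Helper10

theorem mem_map_conj_iff_i2 {G : Type*} [Group G] (H : Subgroup G) (g x : G) :
    x ∈ H.map (MulAut.conj g).toMonoidHom ↔ g⁻¹ * x * g ∈ H := by
  constructor
  · rintro ⟨h, hh, rfl⟩
    have e : g⁻¹ * ((MulAut.conj g).toMonoidHom h) * g = h := by
      show g⁻¹ * (g * h * g⁻¹) * g = h
      group
    rw [e]; exact hh
  · intro hx
    refine ⟨g⁻¹ * x * g, hx, ?_⟩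
    show g * (g⁻¹ * x * g) * g⁻¹ = x
    group

/-- An involution of a finite set with exactly one fixed point: the set has odd size. -/
theorem odd_card_of_involutive {α : Type*} [Finite α] (f : α → α) (hf : ∀ a, f (f a) = a) (a₀ : α)
    (h0 : f a₀ = a₀) (huniq : ∀ a, f a = a → a = a₀) : Odd (Nat.card α) := by
  classical
  have := Fintype.ofFinite α
  let f' : Function.End α := f
  have hfp : f' ^ 2 ^ 1 = 1 := by
    rw [pow_one, pow_two]
    funext a
    exact hf a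
  have hmod := Equiv.Perm.card_fixedPoints_modEq (p := 2) (n := 1) hfp
  have h1 : Fintype.card (Function.fixedPoints f') = 1 := by
    rw [Fintype.card_eq_one_iff]
    exact ⟨⟨a₀, h0⟩, fun y => Subtype.ext (huniq y y.2)⟩
  rw [h1, ← Nat.card_eq_fintype_card] at hmod
  rw [Nat.odd_iff]
  exact hmod

/-- An involution whose centralizer has odd index is central in some Sylow 2-subgroup. -/
theorem two_central_of_odd_index {G : Type*} [Group G] [Finite G] (z : G) (hz : orderOf z = 2)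
    (h : Odd (Subgroup.centralizer ({z} : Set G)).index) :
    ∃ P : Sylow 2 G, z ∈ (Subgroup.center ↥(P : Subgroup G)).map (P : Subgroup G).subtype := by
  obtain ⟨C, hCdef⟩ : ∃ C : Subgroup G, C = Subgroup.centralizer ({z} : Set G) := ⟨_, rfl⟩
  rw [← hCdef] at h
  have hzC : z ∈ C := by
    rw [hCdef]
    exact Subgroup.mem_centralizer_iff.mpr (fun y hy => by
      rw [Set.mem_singleton_iff] at hy; rw [hy])
  have hCz : ∀ c ∈ C, c * z = z * c := by
    intro c hc; rw [hCdef] at hc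
    exact (Subgroup.mem_centralizer_iff.mp hc z (Set.mem_singleton z)).symm
  have hX : IsPGroup 2 (Subgroup.zpowers (⟨z, hzC⟩ : C)) := by
    apply IsPGroup.of_card (n := 1)
    rw [Nat.card_zpowers, Subgroup.orderOf_mk, hz]; rfl
  obtain ⟨T, hT⟩ := hX.exists_le_sylow
  have hzT : (⟨z, hzC⟩ : C) ∈ (T : Subgroup C) := hT (Subgroup.mem_zpowers _)
  have hcard : Nat.card ((T : Subgroup C).map C.subtype) = 2 ^ (Nat.card G).factorization 2 := by
    rw [Subgroup.card_map_of_injective C.subtype_injective, T.card_eq_multiplicity]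
    congr 1
    have e : Nat.card G = Nat.card C * C.index := (Subgroup.card_mul_index C).symm
    have h0 : (C.index).factorization 2 = 0 :=
      Nat.factorization_eq_zero_of_not_dvd (by
        rw [← even_iff_two_dvd, Nat.not_even_iff_odd]; exact h)
    rw [e, Nat.factorization_mul Nat.card_pos.ne' Subgroup.index_ne_zero_of_finite]
    simp [h0]
  refine ⟨Sylow.ofCard _ hcard, ?_⟩
  have hzP : z ∈ (T : Subgroup C).map C.subtype := ⟨⟨z, hzC⟩, hzT, rfl⟩
  refine ⟨⟨z, hzP⟩, Subgroup.mem_center_iff.mpr ?_, rfl⟩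
  intro g
  obtain ⟨c, hc, hcg⟩ := (g.2 : (g : G) ∈ (T : Subgroup C).map C.subtype)
  apply Subtype.ext
  show (g : G) * z = z * g
  rw [← hcg]
  exact hCz c c.2

/-- Refined even dihedral lemma: the central involution `i`, and `s * i` is conjugate to `s` or `t`. -/
theorem dih_even' {G : Type*} [Group G] [Finite G] {s t : G} (hs : s * s = 1) (ht : t * t = 1)
    (heven : Even (orderOf (s * t))) :
    ∃ i : G, orderOf i = 2 ∧ i * s = s * i ∧ i * t = t * i ∧
      ((∃ w, w * s * w⁻¹ = s * i) ∨ (∃ w, w * t * w⁻¹ = s * i)) := by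
  obtain ⟨k, hk⟩ := heven
  have hpos : 0 < orderOf (s * t) := orderOf_pos _
  have hk0 : 0 < k := by omega
  have hz2 : (s * t) ^ k * (s * t) ^ k = 1 := by rw [← pow_add, ← hk]; exact pow_orderOf_eq_one _
  have hz1 : (s * t) ^ k ≠ 1 := pow_ne_one_of_lt_orderOf hk0.ne' (by omega)
  have hinv : ((s * t) ^ k)⁻¹ = (s * t) ^ k := inv_eq_of_mul_eq_one_left hz2
  have hzs : (s * t) ^ k * s = s * (s * t) ^ k := by
    have := dih_pow_mul hs ht k
    rwa [hinv] at this
  have htx : s * (s * t) = t := by rw [← mul_assoc, hs, one_mul]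
  have hzx : (s * t) ^ k * (s * t) = (s * t) * (s * t) ^ k := pow_mul_comm' (s * t) k
  have hzt : (s * t) ^ k * t = t * (s * t) ^ k := by
    calc (s * t) ^ k * t = (s * t) ^ k * (s * (s * t)) := by rw [htx]
      _ = ((s * t) ^ k * s) * (s * t) := by rw [mul_assoc]
      _ = s * ((s * t) ^ k * (s * t)) := by rw [hzs, mul_assoc]
      _ = s * (s * t) * (s * t) ^ k := by rw [hzx]; exact (mul_assoc _ _ _).symm
      _ = t * (s * t) ^ k := by rw [htx]
  refine ⟨(s * t) ^ k, inv2_of_sq hz2 hz1, hzs, hzt, ?_⟩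
  rcases Nat.even_or_odd' k with ⟨j, rfl | rfl⟩
  · left
    refine ⟨((s * t) ^ j)⁻¹, ?_⟩
    have h := dih_pow_mul hs ht j
    have e : (s * t) ^ (2 * j) = (s * t) ^ j * (s * t) ^ j := by rw [two_mul, pow_add]
    rw [e]
    generalize (s * t) ^ j = a at h ⊢
    have h' : s = a⁻¹ * s * a⁻¹ := by rw [mul_assoc, ← h]; group
    calc a⁻¹ * s * a⁻¹⁻¹ = (a⁻¹ * s * a⁻¹) * (a * a) := by group
      _ = s * (a * a) := by rw [← h']
  · right
    refine ⟨((s * t) ^ j)⁻¹, ?_⟩
    have h := dih_pow_mul ht hs j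
    have hts : t * s = (s * t)⁻¹ := by
      rw [mul_inv_rev, inv_eq_of_mul_eq_one_left hs, inv_eq_of_mul_eq_one_left ht]
    rw [hts, inv_pow] at h
    have e : s * (s * t) ^ (2 * j + 1) = t * ((s * t) ^ j * (s * t) ^ j) := by
      rw [pow_succ', two_mul, pow_add, ← mul_assoc, htx]
    rw [e]
    generalize (s * t) ^ j = a at h ⊢
    rw [h, mul_assoc, inv_inv]

/-- If `c = v₁⁻¹ v₂` (a quotient of involutions) commutes with the involution `t` and `t v₁` has odd
order, then `c` commutes with `v₁`. -/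
theorem coset_aux {S : Type*} [Group S] {t v₁ v₂ : S} (ht : orderOf t = 2) (h₁ : orderOf v₁ = 2)
    (h₂ : orderOf v₂ = 2) (hct : (v₁⁻¹ * v₂) * t = t * (v₁⁻¹ * v₂))
    (hodd : Odd (orderOf (t * v₁))) : (v₁⁻¹ * v₂) * v₁ = v₁ * (v₁⁻¹ * v₂) := by
  have hv1 : v₁ * v₁ = 1 := inv2_sq h₁
  have ht2 : t * t = 1 := inv2_sq ht
  have hinv : v₁ * (v₁⁻¹ * v₂) * v₁⁻¹ = (v₁⁻¹ * v₂)⁻¹ := by
    rw [mul_inv_rev, inv_inv, inv2_inv h₂, inv2_inv h₁, ← mul_assoc, hv1, one_mul]
  generalize v₁⁻¹ * v₂ = c at hct hinv ⊢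
  have hct' : c * (v₁ * t * v₁⁻¹) = (v₁ * t * v₁⁻¹) * c := by
    have e1 : c⁻¹ * (v₁ * t * v₁⁻¹) = (v₁ * t * v₁⁻¹) * c⁻¹ := by
      rw [← hinv]
      calc v₁ * c * v₁⁻¹ * (v₁ * t * v₁⁻¹) = v₁ * (c * t) * v₁⁻¹ := by group
        _ = v₁ * (t * c) * v₁⁻¹ := by rw [hct]
        _ = v₁ * t * v₁⁻¹ * (v₁ * c * v₁⁻¹) := by group
    calc c * (v₁ * t * v₁⁻¹) = c * ((v₁ * t * v₁⁻¹) * c⁻¹) * c := by group
      _ = c * (c⁻¹ * (v₁ * t * v₁⁻¹)) * c := by rw [e1]
      _ = (v₁ * t * v₁⁻¹) * c := by group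
  have hsq : (t * v₁) * (t * v₁) = t * (v₁ * t * v₁⁻¹) := by
    rw [inv2_inv h₁]; group
  have hc2 : Commute c ((t * v₁) * (t * v₁)) := by
    show c * ((t * v₁) * (t * v₁)) = ((t * v₁) * (t * v₁)) * c
    rw [hsq]
    calc c * (t * (v₁ * t * v₁⁻¹)) = (c * t) * (v₁ * t * v₁⁻¹) := (mul_assoc _ _ _).symm
      _ = (t * c) * (v₁ * t * v₁⁻¹) := by rw [hct]
      _ = t * (c * (v₁ * t * v₁⁻¹)) := mul_assoc _ _ _
      _ = t * ((v₁ * t * v₁⁻¹) * c) := by rw [hct']
      _ = t * (v₁ * t * v₁⁻¹) * c := (mul_assoc _ _ _).symm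
  have hcx : c * (t * v₁) = (t * v₁) * c := by
    obtain ⟨k, hk⟩ := hodd
    have h2 : Commute c (((t * v₁) * (t * v₁)) ^ (k + 1)) := hc2.pow_right (k + 1)
    have h3 : ((t * v₁) * (t * v₁)) ^ (k + 1) = t * v₁ := by
      rw [← pow_two, ← pow_mul, show 2 * (k + 1) = (2 * k + 1) + 1 by ring, pow_succ, ← hk,
        pow_orderOf_eq_one, one_mul]
    rw [h3] at h2
    exact h2
  have e : t * (t * v₁) = v₁ := by rw [← mul_assoc, ht2, one_mul]
  calc c * v₁ = c * (t * (t * v₁)) := by rw [e]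
    _ = t * (c * (t * v₁)) := by rw [← mul_assoc, hct, mul_assoc]
    _ = t * ((t * v₁) * c) := by rw [hcx]
    _ = v₁ * c := by rw [← mul_assoc t, e]

/-- Key counting: under the unique-fixed-point hypotheses the centralizer of `z` has odd index. -/
theorem odd_index_centralizer_of_fixed {G : Type*} [Group G] [Finite G] (z : G)
    (hz : orderOf z = 2) (H : Subgroup G) (hH : H ≠ ⊤)
    (h0 : ∀ g : G, g⁻¹ * z * g ∈ H ↔ g ∈ H)
    (h1 : ∀ t : G, IsConj z t → t ≠ z → t * z = z * t →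
      ∀ g : G, g⁻¹ * (z * t) * g ∈ H ↔ g ∈ H) :
    Odd (Subgroup.centralizer ({z} : Set G)).index := by
  have hz2 : z * z = 1 := inv2_sq hz
  have hzi : z⁻¹ = z := inv2_inv hz
  obtain ⟨C, hCdef⟩ : ∃ C : Subgroup G, C = Subgroup.centralizer ({z} : Set G) := ⟨_, rfl⟩
  rw [← hCdef]
  have hCz : ∀ c ∈ C, c * z = z * c := by
    intro c hc; rw [hCdef] at hc
    exact (Subgroup.mem_centralizer_iff.mp hc z (Set.mem_singleton z)).symm
  have hCmem : ∀ c : G, c * z = z * c → c ∈ C := by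
    intro c hc; rw [hCdef]
    exact Subgroup.mem_centralizer_iff.mpr (fun y hy => by
      rw [Set.mem_singleton_iff] at hy; rw [hy]; exact hc.symm)
  have hzH : z ∈ H := by simpa using (h0 1).mpr H.one_mem
  have hCH : C ≤ H := by
    intro c hc
    apply (h0 c).mp
    have e : c⁻¹ * z * c = z := by rw [mul_assoc, ← hCz c hc, ← mul_assoc, inv_mul_cancel, one_mul]
    rw [e]; exact hzH
  have hKH : ∀ g : G, g * z * g⁻¹ ∈ H ↔ g ∈ H := by
    intro g
    have h := h0 g⁻¹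
    rw [inv_inv] at h
    rw [h]; exact H.inv_mem_iff
  -- conjugated form of (1)
  have h1' : ∀ r r' a : G, r = a * z * a⁻¹ → (∃ b : G, r' = b * z * b⁻¹) → r ≠ r' →
      r * r' = r' * r → r * r' ∈ H → a ∈ H := by
    rintro r r' a rfl ⟨b, rfl⟩ hne hcomm hmem
    have ht1 : IsConj z (a⁻¹ * (b * z * b⁻¹) * a) := by
      rw [isConj_iff]; exact ⟨a⁻¹ * b, by group⟩
    have ht2 : a⁻¹ * (b * z * b⁻¹) * a ≠ z := by
      intro h; apply hne
      calc a * z * a⁻¹ = a * (a⁻¹ * (b * z * b⁻¹) * a) * a⁻¹ := by rw [h]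
        _ = b * z * b⁻¹ := by group
    have ht3 : a⁻¹ * (b * z * b⁻¹) * a * z = z * (a⁻¹ * (b * z * b⁻¹) * a) := by
      calc a⁻¹ * (b * z * b⁻¹) * a * z = a⁻¹ * ((b * z * b⁻¹) * (a * z * a⁻¹)) * a := by group
        _ = a⁻¹ * ((a * z * a⁻¹) * (b * z * b⁻¹)) * a := by rw [hcomm]
        _ = z * (a⁻¹ * (b * z * b⁻¹) * a) := by group
    have h := (h1 _ ht1 ht2 ht3 a⁻¹).mp (by
      have e : a⁻¹⁻¹ * (z * (a⁻¹ * (b * z * b⁻¹) * a)) * a⁻¹ = (a * z * a⁻¹) * (b * z * b⁻¹) := by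
        group
      rw [e]; exact hmem)
    simpa using H.inv_mem h
  -- products of conjugates with different fixed points have odd order
  have hodd : ∀ g : G, g ∉ H → Odd (orderOf (z * (g * z * g⁻¹))) := by
    intro g hg
    by_contra hne
    rw [Nat.not_odd_iff_even] at hne
    have hs2 : (g * z * g⁻¹) * (g * z * g⁻¹) = 1 := inv2_sq (inv2_conj hz g)
    obtain ⟨i, hi, hiz, his, hconj⟩ := dih_even' hz2 hs2 hne
    have hi1 : i ≠ 1 := inv2_ne_one hi
    have ht1 : IsConj z (z * i) := by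
      rw [isConj_iff]
      rcases hconj with ⟨w, hw⟩ | ⟨w, hw⟩
      · exact ⟨w, hw⟩
      · exact ⟨w * g, by rw [← hw]; group⟩
    have ht2 : z * i ≠ z := by
      intro h; apply hi1
      have h' := congrArg (fun x => z⁻¹ * x) h
      simpa using h'
    have ht3 : z * i * z = z * (z * i) := by rw [mul_assoc, hiz]
    have hkey := (h1 _ ht1 ht2 ht3 g).mp (by
      have e : z * (z * i) = i := by rw [← mul_assoc, hz2, one_mul]
      rw [e]
      apply hCH
      apply hCmem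
      calc g⁻¹ * i * g * z = g⁻¹ * (i * (g * z * g⁻¹)) * g := by group
        _ = g⁻¹ * ((g * z * g⁻¹) * i) * g := by rw [his]
        _ = z * (g⁻¹ * i * g) := by group)
    exact hg hkey
  -- uniqueness in cosets
  have huniq : ∀ a b : G, a ∉ H → (a * z * a⁻¹)⁻¹ * (b * z * b⁻¹) ∈ C →
      a * z * a⁻¹ = b * z * b⁻¹ := by
    intro a b ha hc
    have hr := inv2_conj hz a
    have hr' := inv2_conj hz b
    have hcv := coset_aux hz hr hr' (hCz _ hc) (hodd a ha)
    by_contra hne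
    apply ha
    apply h1' _ _ a rfl ⟨b, rfl⟩ hne
    · generalize a * z * a⁻¹ = r at hcv ⊢
      generalize b * z * b⁻¹ = r' at hcv ⊢
      calc r * r' = r * (r * (r⁻¹ * r')) := by group
        _ = r * (r⁻¹ * r' * r) := by rw [hcv]
        _ = r' * r := by group
    · have e : (a * z * a⁻¹) * (b * z * b⁻¹) = (a * z * a⁻¹)⁻¹ * (b * z * b⁻¹) := by
        rw [inv2_inv hr]
      rw [e]; exact hCH hc
  -- the coset map
  let φ : G ⧸ C → G := Quotient.lift (fun g : G => g * z * g⁻¹) (by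
    intro a b hab
    have h : a⁻¹ * b ∈ C := QuotientGroup.leftRel_apply.mp hab
    have hcz := hCz _ h
    show a * z * a⁻¹ = b * z * b⁻¹
    calc a * z * a⁻¹ = a * (z * (a⁻¹ * b)) * b⁻¹ := by group
      _ = a * ((a⁻¹ * b) * z) * b⁻¹ := by rw [hcz]
      _ = b * z * b⁻¹ := by group)
  have hφ : ∀ g : G, φ (g : G ⧸ C) = g * z * g⁻¹ := fun g => rfl
  have hφinj : Function.Injective φ := by
    intro q₁ q₂
    induction q₁ using QuotientGroup.induction_on with
    | H a =>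
    induction q₂ using QuotientGroup.induction_on with
    | H b =>
    intro hab
    rw [hφ, hφ] at hab
    apply QuotientGroup.eq.mpr
    apply hCmem
    calc a⁻¹ * b * z = a⁻¹ * (b * z * b⁻¹) * b := by group
      _ = a⁻¹ * (a * z * a⁻¹) * b := by rw [hab]
      _ = z * (a⁻¹ * b) := by group
  let A : Set (G ⧸ C) := {q | ∃ g : G, g ∉ H ∧ (g : G ⧸ C) = q}
  let ψ : G ⧸ C → G ⧸ C := fun q => ((φ q : G) : G ⧸ C)
  have hmaps : ∀ q ∈ A, ψ q ∈ A := by
    rintro _ ⟨g, hg, rfl⟩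
    exact ⟨g * z * g⁻¹, fun h => hg ((hKH g).mp h), rfl⟩
  have hinj : Function.Injective (fun q : A => (⟨ψ q, hmaps q q.2⟩ : A)) := by
    rintro ⟨_, ⟨g₁, hg₁, rfl⟩⟩ ⟨_, ⟨g₂, hg₂, rfl⟩⟩ h12
    have h1 : ((g₁ * z * g₁⁻¹ : G) : G ⧸ C) = ((g₂ * z * g₂⁻¹ : G) : G ⧸ C) :=
      congrArg Subtype.val h12
    have h2 : (g₁ * z * g₁⁻¹)⁻¹ * (g₂ * z * g₂⁻¹) ∈ C := QuotientGroup.eq.mp h1
    have h3 := huniq g₁ g₂ hg₁ h2
    apply Subtype.ext
    apply hφinj
    rw [hφ, hφ]
    exact h3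
  have hsurj0 := Finite.injective_iff_surjective.mp hinj
  have hsurj : ∀ x : G, x ∉ H → ∃ g : G, g ∉ H ∧ (g * z * g⁻¹)⁻¹ * x ∈ C := by
    intro x hx
    obtain ⟨⟨_, ⟨g, hg, rfl⟩⟩, hq⟩ := hsurj0 ⟨((x : G) : G ⧸ C), ⟨_, hx, rfl⟩⟩
    have h1 : ((g * z * g⁻¹ : G) : G ⧸ C) = ((x : G) : G ⧸ C) := congrArg Subtype.val hq
    exact ⟨g, hg, QuotientGroup.eq.mp h1⟩
  -- a conjugate outside H
  obtain ⟨g₀, hg₀⟩ : ∃ g₀ : G, g₀ ∉ H := by
    by_contra hno
    push Not at hno
    exact hH (eq_top_iff.mpr (fun x _ => hno x))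
  obtain ⟨r, hrdef⟩ : ∃ r, r = g₀ * z * g₀⁻¹ := ⟨_, rfl⟩
  have hr : orderOf r = 2 := by rw [hrdef]; exact inv2_conj hz g₀
  have hri : r⁻¹ = r := inv2_inv hr
  have hrr : r * r = 1 := inv2_sq hr
  have hrH : r ∉ H := by rw [hrdef, hKH]; exact hg₀
  let R : Set G := {r' | (∃ b : G, r' = b * z * b⁻¹) ∧ r⁻¹ * r' ∈ H}
  have hRodd : Odd (Nat.card R) := by
    have hτ : ∀ r' : G, r' ∈ R → r * r' * r⁻¹ ∈ R := by
      rintro r' ⟨⟨b, rfl⟩, hmem⟩
      refine ⟨⟨r * b, by group⟩, ?_⟩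
      have e : r⁻¹ * (r * (b * z * b⁻¹) * r⁻¹) = (r⁻¹ * (b * z * b⁻¹))⁻¹ := by
        rw [mul_inv_rev, inv_inv, inv2_inv (inv2_conj hz b), hri]
        calc r * (r * (b * z * b⁻¹) * r) = (r * r) * (b * z * b⁻¹) * r := by group
          _ = b * z * b⁻¹ * r := by rw [hrr, one_mul]
      rw [e]; exact H.inv_mem hmem
    have hrR : r ∈ R := ⟨⟨g₀, hrdef⟩, by rw [inv_mul_cancel]; exact H.one_mem⟩
    apply odd_card_of_involutive (fun q : R => (⟨r * q * r⁻¹, hτ q q.2⟩ : R)) ?_ ⟨r, hrR⟩ ?_ ?_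
    · intro q
      apply Subtype.ext
      show r * (r * (q : G) * r⁻¹) * r⁻¹ = q
      rw [hri]
      calc r * (r * (q : G) * r) * r = (r * r) * q * (r * r) := by group
        _ = q := by rw [hrr, one_mul, mul_one]
    · apply Subtype.ext
      show r * r * r⁻¹ = r
      group
    · rintro ⟨r', ⟨b, hb⟩, hmem⟩ hfix
      have hfix' : r * r' * r⁻¹ = r' := congrArg Subtype.val hfix
      apply Subtype.ext
      show r' = r
      by_contra hne
      apply hg₀
      apply h1' r r' g₀ hrdef ⟨b, hb⟩ (Ne.symm hne)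
      · calc r * r' = (r * r' * r⁻¹) * r := by group
          _ = r' * r := by rw [hfix']
      · have e : r * r' = r⁻¹ * r' := by rw [hri]
        rw [e]; exact hmem
  have hcardR : Nat.card R = C.relIndex H := by
    unfold Subgroup.relIndex Subgroup.index
    apply Nat.card_congr
    refine Equiv.ofBijective
      (fun q : R => ((⟨r⁻¹ * q, q.2.2⟩ : H) : H ⧸ C.subgroupOf H)) ⟨?_, ?_⟩
    · rintro ⟨r₁, ⟨b₁, hb₁⟩, hm₁⟩ ⟨r₂, ⟨b₂, hb₂⟩, hm₂⟩ h12
      have h3 : (⟨r⁻¹ * r₁, hm₁⟩ : H)⁻¹ * ⟨r⁻¹ * r₂, hm₂⟩ ∈ C.subgroupOf H :=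
        QuotientGroup.eq.mp h12
      rw [Subgroup.mem_subgroupOf] at h3
      have h4 : r₁⁻¹ * r₂ ∈ C := by
        have e : (r⁻¹ * r₁)⁻¹ * (r⁻¹ * r₂) = r₁⁻¹ * r₂ := by group
        rw [← e]; exact h3
      apply Subtype.ext
      show r₁ = r₂
      have hb₁H : b₁ ∉ H := by
        intro hb
        have h5 : r₁ ∈ H := by rw [hb₁, hKH]; exact hb
        apply hrH
        have h6 := H.mul_mem h5 (H.inv_mem hm₁)
        have e : r₁ * (r⁻¹ * r₁)⁻¹ = r := by group
        rwa [e] at h6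
      rw [hb₁, hb₂]
      apply huniq b₁ b₂ hb₁H
      rw [← hb₁, ← hb₂]; exact h4
    · intro q
      induction q using QuotientGroup.induction_on with
      | H h =>
      have hx : r * (h : G) ∉ H := by
        intro hx
        apply hrH
        have h6 := H.mul_mem hx (H.inv_mem h.2)
        have e : r * (h : G) * (h : G)⁻¹ = r := by group
        rwa [e] at h6
      obtain ⟨g, hg, hc⟩ := hsurj _ hx
      have hmem : r⁻¹ * (g * z * g⁻¹) ∈ H := by
        have e : r⁻¹ * (g * z * g⁻¹) = h * ((g * z * g⁻¹)⁻¹ * (r * h))⁻¹ := by group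
        rw [e]; exact H.mul_mem h.2 (H.inv_mem (hCH hc))
      refine ⟨⟨g * z * g⁻¹, ⟨g, rfl⟩, hmem⟩, ?_⟩
      apply QuotientGroup.eq.mpr
      rw [Subgroup.mem_subgroupOf]
      show (r⁻¹ * (g * z * g⁻¹))⁻¹ * (h : G) ∈ C
      have e : (r⁻¹ * (g * z * g⁻¹))⁻¹ * (h : G) = (g * z * g⁻¹)⁻¹ * (r * h) := by group
      rw [e]; exact hc
  have hHodd : Odd H.index := by
    unfold Subgroup.index
    apply odd_card_of_involutive (fun q : G ⧸ H => z • q) ?_ ((1 : G) : G ⧸ H) ?_ ?_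
    · intro q
      show z • z • q = q
      rw [smul_smul, hz2, one_smul]
    · show ((z * 1 : G) : G ⧸ H) = ((1 : G) : G ⧸ H)
      apply QuotientGroup.eq.mpr
      have e : (z * 1)⁻¹ * 1 = z := by rw [mul_one, mul_one, hzi]
      rw [e]; exact hzH
    · intro q
      induction q using QuotientGroup.induction_on with
      | H g =>
      intro hfix
      have h2 : ((z * g : G) : G ⧸ H) = (g : G ⧸ H) := hfix
      have h3 := QuotientGroup.eq.mp h2
      have h4 : g⁻¹ * z * g ∈ H := by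
        have e : g⁻¹ * z * g = ((z * g)⁻¹ * g)⁻¹ := by group
        rw [e]; exact H.inv_mem h3
      have hgH := (h0 g).mp h4
      apply QuotientGroup.eq.mpr
      rw [mul_one]
      exact H.inv_mem hgH
  rw [← Subgroup.relIndex_mul_index hCH, ← hcardR]
  exact hRodd.mul hHodd

/-- S1922. -/
theorem unique_fixed_iff {G : Type*} [Group G] [Finite G] (z : G) (hz : orderOf z = 2)
    (H : Subgroup G) (hH : H ≠ ⊤)
    (h0 : ∀ g : G, z ∈ H.map (MulAut.conj g).toMonoidHom ↔ g ∈ H) :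
    (∀ t : G, IsConj z t → t ≠ z → t * z = z * t →
        ∀ g : G, z * t ∈ H.map (MulAut.conj g).toMonoidHom ↔ g ∈ H) ↔
      ((∃ P : Sylow 2 G, z ∈ (Subgroup.center ↥(P : Subgroup G)).map (P : Subgroup G).subtype) ∧
        ∀ t : G, IsConj z t → t ≠ z → t * z = z * t →
          Subgroup.centralizer ({z * t} : Set G) ≤ H) := by
  have h0' : ∀ g : G, g⁻¹ * z * g ∈ H ↔ g ∈ H := fun g => by
    rw [← mem_map_conj_iff_i2]; exact h0 g
  have hzH : z ∈ H := by simpa using (h0' 1).mpr H.one_mem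
  have hz2 : z * z = 1 := inv2_sq hz
  constructor
  · intro h1
    have h1' : ∀ t : G, IsConj z t → t ≠ z → t * z = z * t →
        ∀ g : G, g⁻¹ * (z * t) * g ∈ H ↔ g ∈ H :=
      fun t a b c g => by rw [← mem_map_conj_iff_i2]; exact h1 t a b c g
    refine ⟨two_central_of_odd_index z hz (odd_index_centralizer_of_fixed z hz H hH h0' h1'), ?_⟩
    intro t ht1 ht2 ht3 c hc
    apply (h1' t ht1 ht2 ht3 c).mp
    have hcomm : c * (z * t) = (z * t) * c :=
      (Subgroup.mem_centralizer_iff.mp hc _ (Set.mem_singleton _)).symm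
    have e : c⁻¹ * (z * t) * c = z * t := by
      rw [mul_assoc, ← hcomm, ← mul_assoc, inv_mul_cancel, one_mul]
    rw [e]
    have h := (h1' t ht1 ht2 ht3 1).mpr H.one_mem
    simpa using h
  · rintro ⟨⟨P, hzP⟩, h2⟩ t ht1 ht2 ht3 g
    rw [mem_map_conj_iff_i2]
    have hztH : z * t ∈ H := h2 t ht1 ht2 ht3 (Subgroup.mem_centralizer_iff.mpr (fun y hy => by
      rw [Set.mem_singleton_iff] at hy; rw [hy]))
    constructor
    · intro hx
      obtain ⟨zc, hzc, hzcz⟩ := hzP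
      have hPz : ∀ p ∈ (P : Subgroup G), p * z = z * p := by
        intro p hp
        have h := Subgroup.mem_center_iff.mp hzc ⟨p, hp⟩
        rw [← hzcz]; exact congrArg Subtype.val h
      have hPH : (P : Subgroup G) ≤ H := by
        intro p hp
        apply (h0' p).mp
        have e : p⁻¹ * z * p = z := by
          rw [mul_assoc, ← hPz p hp, ← mul_assoc, inv_mul_cancel, one_mul]
        rw [e]; exact hzH
      -- `z * t` is an involution
      obtain ⟨c₀, hc₀⟩ := isConj_iff.mp ht1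
      have ht : orderOf t = 2 := by rw [← hc₀]; exact inv2_conj hz c₀
      have ht2' : t * t = 1 := inv2_sq ht
      have hzt2 : (z * t) * (z * t) = 1 := by
        calc (z * t) * (z * t) = z * (t * z) * t := by group
          _ = z * (z * t) * t := by rw [ht3]
          _ = (z * z) * (t * t) := by group
          _ = 1 := by rw [hz2, ht2', one_mul]
      have hzt1 : z * t ≠ 1 := by
        intro h
        apply ht2
        have h' : t = z⁻¹ := eq_inv_of_mul_eq_one_right h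
        rw [h', inv2_inv hz]
      have hzt : orderOf (z * t) = 2 := inv2_of_sq hzt2 hzt1
      have hx2 : orderOf (g⁻¹ * (z * t) * g) = 2 := by
        have h := inv2_conj hzt g⁻¹
        rwa [inv_inv] at h
      -- Sylow theory in `H`
      have hX : IsPGroup 2 (Subgroup.zpowers (⟨g⁻¹ * (z * t) * g, hx⟩ : H)) := by
        apply IsPGroup.of_card (n := 1)
        rw [Nat.card_zpowers, Subgroup.orderOf_mk, hx2]; rfl
      obtain ⟨Q, hQ⟩ := hX.exists_le_sylow
      obtain ⟨h, hh⟩ := MulAction.exists_smul_eq H (P.subtype hPH) Q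
      have hxQ : (⟨g⁻¹ * (z * t) * g, hx⟩ : H) ∈ (Q : Subgroup H) := hQ (Subgroup.mem_zpowers _)
      rw [← hh, Sylow.coe_subgroup_smul] at hxQ
      obtain ⟨s, hs, hsx⟩ := (Subgroup.mem_smul_pointwise_iff_exists _ _ _).mp hxQ
      rw [Sylow.coe_subtype, Subgroup.mem_subgroupOf] at hs
      have hsx' : (h : G) * s * (h : G)⁻¹ = g⁻¹ * (z * t) * g := congrArg Subtype.val hsx
      -- the conjugate of `z` centralizes `z * t`
      have hzs : (s : G) * z = z * s := hPz _ hs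
      have hmem : (g * h) * z * (g * h)⁻¹ ∈ Subgroup.centralizer ({z * t} : Set G) := by
        apply Subgroup.mem_centralizer_iff.mpr
        intro y hy
        rw [Set.mem_singleton_iff] at hy
        rw [hy]
        have e : z * t = (g * h) * s * (g * h)⁻¹ := by
          calc z * t = g * (g⁻¹ * (z * t) * g) * g⁻¹ := by group
            _ = g * ((h : G) * s * (h : G)⁻¹) * g⁻¹ := by rw [hsx']
            _ = (g * h) * s * (g * h)⁻¹ := by group
        rw [e]
        calc (g * h) * s * (g * h)⁻¹ * ((g * h) * z * (g * h)⁻¹)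
            = (g * h) * ((s : G) * z) * (g * h)⁻¹ := by group
          _ = (g * h) * (z * s) * (g * h)⁻¹ := by rw [hzs]
          _ = (g * h) * z * (g * h)⁻¹ * ((g * h) * s * (g * h)⁻¹) := by group
      have h3 := h2 t ht1 ht2 ht3 hmem
      have h4 := (h0' (g * h)⁻¹).mp (by rw [inv_inv]; exact h3)
      have h5 : g * h ∈ H := by simpa using H.inv_mem h4
      have h6 := H.mul_mem h5 (H.inv_mem h.2)
      have e : g * (h : G) * (h : G)⁻¹ = g := by group
      rwa [e] at h6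
    · intro hg
      exact H.mul_mem (H.mul_mem (H.inv_mem hg) hztH) hg

end Cfsg.Agent.Helper10
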