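import Mathlib
import Cfsg.Agent.Helper10.FrakH2
import Cfsg.Agent.Helper17.Large
import Cfsg.Agent.Helper17.Comm3
import Cfsg.Agent.Helper17.LocChar

set_option autoImplicit false

/-!
# Helper10: factorization of the weak closure of a weakly closed subgroup (S2859)

* `wf_wc` : for a weakly closed `p`-subgroup `Q ≤ X`, `W = ⟨Q^G ∩ X⟩`, `K = O^p(W)`:
  `W = KQ`, `K = [K, Q]`, `N(X) ≤ N(W) ≤ N(K)`, the generators of `W` are `K`-conjugates of `Q`;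
* `wf_comm_prod`, `wf_comm_sup_le` : commutators with products;
* `wf_side`, `wf_main` : S2859.
-/

namespace Cfsg.Agent.Helper10

open Subgroup Cfsg.Agent.Helper17
open scoped commutatorElement

theorem wf_gen_le {G : Type*} [Group G] {Q X : Subgroup G} {g : G} (h : cj g Q ≤ X) :
    cj g Q ≤ Cfsg.weakClosure Q X :=
  le_iSup (fun g : {g : G // Q.map (MulAut.conj g).toMonoidHom ≤ X} =>
    Q.map (MulAut.conj (g : G)).toMonoidHom) ⟨g, h⟩

theorem wf_self_le {G : Type*} [Group G] {Q X : Subgroup G} (h : Q ≤ X) :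
    Q ≤ Cfsg.weakClosure Q X := by
  have h1 : cj 1 Q ≤ X := by rw [cj_one]; exact h
  have := wf_gen_le h1
  rwa [cj_one] at this

theorem wf_le {G : Type*} [Group G] (Q X : Subgroup G) : Cfsg.weakClosure Q X ≤ X :=
  iSup_le fun g => g.2

theorem wf_closure_le {G : Type*} [Group G] {Q X N : Subgroup G}
    (h : ∀ g : G, cj g Q ≤ X → cj g Q ≤ N) : Cfsg.weakClosure Q X ≤ N :=
  iSup_le fun g => h g.1 g.2

/-- `[X, AB] ≤ MN` if `[X, A] ≤ M`, `[X, B] ≤ N` and `A` normalizes `N`. -/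
theorem wf_comm_prod {G : Type*} [Group G] {X A B M N : Subgroup G}
    (hBA : B ≤ normalizer (A : Set G)) (h1 : ⁅X, A⁆ ≤ M) (h2 : ⁅X, B⁆ ≤ N)
    (hAN : A ≤ normalizer (N : Set G)) : ⁅X, A ⊔ B⁆ ≤ M ⊔ N := by
  rw [Subgroup.commutator_le]
  intro x hx y hy
  obtain ⟨a, ha, b, hb, rfl⟩ := mem_sup_of_le_normalizer hBA hy
  rw [commutatorElement_mul_right']
  refine mul_mem (Subgroup.mem_sup_left (h1 (Subgroup.commutator_mem_commutator hx ha)))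
    (Subgroup.mem_sup_right ?_)
  exact (Subgroup.mem_normalizer_iff.mp (hAN ha) _).mp
    (h2 (Subgroup.commutator_mem_commutator hx hb))

/-- `[AB, C] ≤ N` if `[A, C] ≤ N`, `[B, C] ≤ N` and `A`, `B` normalize `N`. -/
theorem wf_comm_sup_le {G : Type*} [Group G] {A B C N : Subgroup G}
    (hA : A ≤ normalizer (N : Set G)) (hB : B ≤ normalizer (N : Set G))
    (h1 : ⁅A, C⁆ ≤ N) (h2 : ⁅B, C⁆ ≤ N) : ⁅A ⊔ B, C⁆ ≤ N := by
  have := commutator_iSup_le (fun b : Bool => cond b A B) C N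
    (by intro b; cases b <;> simpa) (by intro b; cases b <;> simpa)
  rwa [iSup_bool_eq] at this

/-- structure of the weak closure `W` of the weakly closed `p`-subgroup `Q` in `X ≥ Q`. -/
theorem wf_wc {G : Type*} [Group G] [Finite G] {p : ℕ} [Fact p.Prime] {Q : Subgroup G}
    (hQp : IsPGroup p ↥Q) (hwc : Cfsg.IsWeaklyClosedSubgroup p Q) {X : Subgroup G} (hQX : Q ≤ X)
    (W K : Subgroup G) (hW : W = Cfsg.weakClosure Q X)
    (hK : K = (Cfsg.pResidual p ↥W).map W.subtype) :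
    Q ≤ W ∧ W ≤ X ∧ normalizer (X : Set G) ≤ normalizer (W : Set G) ∧
      normalizer (W : Set G) ≤ normalizer (K : Set G) ∧ K ≤ W ∧
      (∀ x ∈ W, (orderOf x).Coprime p → x ∈ K) ∧
      (∀ g : G, cj g Q ≤ X → ∃ k ∈ K, cj g Q = cj k Q) ∧ W = K ⊔ Q ∧ ⁅K, Q⁆ = K ∧
      (∀ N : Subgroup G, (∀ x ∈ W, (orderOf x).Coprime p → x ∈ N) → K ≤ N) := by
  have hQW : Q ≤ W := hW ▸ wf_self_le hQX
  have hWX : W ≤ X := hW ▸ wf_le Q X
  have hXW : normalizer (X : Set G) ≤ normalizer (W : Set G) := by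
    intro x hx
    apply mem_normalizer_of_cj_le
    rw [cj_le_iff]
    have h1 : Cfsg.weakClosure Q X ≤ cj x⁻¹ W := by
      apply wf_closure_le
      intro g hg
      rw [le_cj_iff, inv_inv, ← cj_mul, hW]
      apply wf_gen_le
      rw [cj_mul]
      have := cj_mono (g := x) hg
      rwa [cj_eq_self_of_mem_normalizer hx] at this
    rwa [← hW] at h1
  have hKeq : K = Subgroup.closure {x : G | x ∈ W ∧ (orderOf x).Coprime p} := by
    rw [hK, map_pResidual_eq]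
  have hWK : normalizer (W : Set G) ≤ normalizer (K : Set G) := by
    intro x hx
    apply mem_normalizer_of_cj_le
    rw [hKeq]
    show Subgroup.map _ (Subgroup.closure _) ≤ _
    rw [Subgroup.map_le_iff_le_comap, Subgroup.closure_le]
    rintro y ⟨hy, hc⟩
    show (MulAut.conj x) y ∈ Subgroup.closure _
    apply Subgroup.subset_closure
    refine ⟨?_, ?_⟩
    · rw [MulAut.conj_apply]; exact (Subgroup.mem_normalizer_iff.mp hx y).mp hy
    · rw [MulAut.conj_apply, orderOf_conj_eq]; exact hc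
  have hKW : K ≤ W := hK ▸ map_pResidual_le p W
  have hpK : ∀ x ∈ W, (orderOf x).Coprime p → x ∈ K :=
    fun x hx hc => hK ▸ mem_map_pResidual hx hc
  have hKN : ∀ N : Subgroup G, (∀ x ∈ W, (orderOf x).Coprime p → x ∈ N) → K ≤ N := by
    intro N hN
    rw [hKeq, Subgroup.closure_le]
    rintro x ⟨hx, hc⟩
    exact hN x hx hc
  obtain ⟨TW, hTW⟩ := (hQp.comap_subtype (K := W)).exists_le_sylow
  have hP : sylowImage TW ≤ normalizer (Q : Set G) :=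
    wc_sylowImage_le_normalizer hwc TW hTW hQW
  have hWdec : W = K ⊔ sylowImage TW := by
    have h := pResidual_sup_sylow TW
    have h2 := congrArg (Subgroup.map W.subtype) h
    rw [Subgroup.map_sup, ← hK] at h2
    rw [h2, ← MonoidHom.range_eq_map, Subgroup.range_subtype]
  have hPK : sylowImage TW ≤ normalizer (K : Set G) :=
    (sylowImage_le TW).trans (Subgroup.le_normalizer.trans hWK)
  have hgen : ∀ g : G, cj g Q ≤ X → ∃ k ∈ K, cj g Q = cj k Q := by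
    intro g hg
    have hgW : cj g Q ≤ W := hW ▸ wf_gen_le hg
    obtain ⟨w, hw, hwe⟩ := wc_conj_in_subgroup hQp hwc hQW hgW
    rw [hWdec] at hw
    obtain ⟨k, hk, t, ht, rfl⟩ := mem_sup_of_le_normalizer hPK hw
    refine ⟨k, hk, ?_⟩
    rw [hwe, cj_mul, cj_eq_self_of_mem_normalizer (hP ht)]
  have hWKQ : W = K ⊔ Q := by
    apply le_antisymm _ (sup_le hKW hQW)
    rw [hW]
    apply wf_closure_le
    intro g hg
    obtain ⟨k, hk, hke⟩ := hgen g hg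
    rw [hke]
    exact cj_le_of_le_of_mem le_sup_right (Subgroup.mem_sup_left hk)
  have hQK : Q ≤ normalizer (K : Set G) := hQW.trans (Subgroup.le_normalizer.trans hWK)
  have hcomm : ⁅K, Q⁆ = K := by
    apply le_antisymm (commutator_le_left_of_le_normalizer hQK)
    apply hKN
    intro x hx hc
    have hWD : W ≤ ⁅K, Q⁆ ⊔ Q := by
      rw [hW]
      apply wf_closure_le
      intro g hg
      obtain ⟨k, hk, hke⟩ := hgen g hg
      rw [hke]
      intro y hy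
      obtain ⟨q, hq, rfl⟩ := mem_cj'.mp hy
      have e : k * q * k⁻¹ = ⁅k, q⁆ * q := by rw [commutatorElement_def]; group
      rw [e]
      exact mul_mem (Subgroup.mem_sup_left (Subgroup.commutator_mem_commutator hk hq))
        (Subgroup.mem_sup_right hq)
    exact fh_coprime_mem hQp (le_normalizer_commutator_right K Q) (hWD hx) hc
  exact ⟨hQW, hWX, hXW, hWK, hKW, hpK, hgen, hWKQ, hcomm, hKN⟩

/-- one side of S2859. -/
theorem wf_side {G : Type*} [Group G] [Finite G] {p : ℕ} [Fact p.Prime] (Q : Subgroup G)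
    (hQp : IsPGroup p ↥Q) (hwc : Cfsg.IsWeaklyClosedSubgroup p Q) (Hc : Subgroup G)
    (hHc : Hc = Cfsg.weakClosure Q ⊤) (H₁ H₂ : Subgroup G)
    (hn₁ : H₁ ≤ Hc ∧ Hc ≤ normalizer (H₁ : Set G))
    (hn₂ : H₂ ≤ Hc ∧ Hc ≤ normalizer (H₂ : Set G))
    (hprod : H₁ ⊔ H₂ = Hc) (hcomm : ⁅H₁, H₂⁆ ≤ normalizer (Q : Set G))
    (K₁ : Subgroup G)
    (hK₁ : K₁ = (Cfsg.pResidual p ↥(Cfsg.weakClosure Q (H₁ ⊔ Q))).map
      (Cfsg.weakClosure Q (H₁ ⊔ Q)).subtype) :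
    ⁅K₁, Q⁆ = K₁ ∧ ⁅K₁, H₁⁆ = K₁ ∧ K₁ ≤ ⁅H₁, H₁⁆ ∧ Hc ≤ normalizer (K₁ : Set G) ∧ K₁ ≤ H₁ ∧
      (∀ a ∈ H₁, cj a Q ≤ K₁ ⊔ Q) ∧ ⁅⁅H₁, H₁⁆, H₂⁆ ≤ Cfsg.pCoreOf p Hc ∧
      (∀ N : Subgroup G, (∀ x ∈ Hc, (orderOf x).Coprime p → x ∈ N) → K₁ ≤ N) := by
  obtain ⟨hH₁, hnH₁⟩ := hn₁
  obtain ⟨hH₂, hnH₂⟩ := hn₂
  obtain ⟨R, hR⟩ : ∃ R : Subgroup G, R = (Cfsg.pResidual p ↥Hc).map Hc.subtype := ⟨_, rfl⟩
  obtain ⟨hQHc, -, hTopHc, -, hRHc, -, hgenHc, -, -, -⟩ :=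
    wf_wc hQp hwc (X := ⊤) le_top Hc R hHc hR
  have hnormHc : ∀ x : G, x ∈ normalizer (Hc : Set G) := fun x =>
    hTopHc (by rw [Subgroup.mem_normalizer_iff]; intro y; simp)
  obtain ⟨O, hO⟩ : ∃ O : Subgroup G, O = Cfsg.pCoreOf p Hc := ⟨_, rfl⟩
  have hOn : ∀ x : G, x ∈ normalizer (O : Set G) := fun x => by
    rw [hO]; exact normalizer_le_normalizer_pCoreOf p Hc (hnormHc x)
  have hOp : IsPGroup p ↥O := by rw [hO]; exact pCoreOf_isPGroup' p Hc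
  have hOHc : O ≤ Hc := by rw [hO]; exact pCoreOf_le' p Hc
  have hOQ : O ≤ normalizer (Q : Set G) := by
    obtain ⟨T₀, hT₀⟩ := (hQp.comap_subtype (K := Hc)).exists_le_sylow
    have h1 : sylowImage T₀ ≤ normalizer (Q : Set G) :=
      wc_sylowImage_le_normalizer hwc T₀ hT₀ hQHc
    have h2 : O ≤ sylowImage T₀ := by
      rw [hO]; exact Subgroup.map_mono (pCore_le_sylow T₀)
    exact h2.trans h1
  obtain ⟨P₀, hP₀⟩ : ∃ P₀ : Subgroup G, P₀ = ⁅H₁, H₂⁆ := ⟨_, rfl⟩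
  have hP₀1 : P₀ ≤ H₁ := by
    rw [hP₀]; exact commutator_le_left_of_le_normalizer (hH₂.trans hnH₁)
  have hP₀n : Hc ≤ normalizer (P₀ : Set G) := by
    rw [hP₀]; exact le_normalizer_commutator' hnH₁ hnH₂
  have hP₀Hc : P₀ ≤ Hc := hP₀1.trans hH₁
  have hP₀Q : P₀ ≤ normalizer (Q : Set G) := by rw [hP₀]; exact hcomm
  -- `[P₀, H°] ≤ O_p(H°)`
  have hM1 : ⁅P₀, Hc⁆ ≤ O := by
    rw [Subgroup.commutator_comm, hHc]
    refine commutator_iSup_le (fun g : {g : G // Q.map (MulAut.conj g).toMonoidHom ≤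
      (⊤ : Subgroup G)} => Q.map (MulAut.conj (g : G)).toMonoidHom) P₀ O ?_ ?_
    · intro g; exact fun x _ => hOn x
    · rintro ⟨g, hg⟩
      show ⁅cj g Q, P₀⁆ ≤ O
      obtain ⟨h, hh, hhe⟩ := hgenHc g hg
      have hhHc : h ∈ Hc := hRHc hh
      rw [hhe]
      have hPn : P₀ ≤ normalizer ((cj h Q : Subgroup G) : Set G) := by
        rw [normalizer_cj]
        have := cj_mono (g := h) hP₀Q
        rwa [cj_eq_self_of_mem_normalizer (hP₀n hhHc)] at this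
      have hcjHc : cj h Q ≤ Hc := cj_le_of_le_of_mem hQHc hhHc
      have h1 : ⁅cj h Q, P₀⁆ ≤ P₀ ⊓ cj h Q :=
        le_inf (commutator_le_right_of_le_normalizer (hcjHc.trans hP₀n))
          (commutator_le_left_of_le_normalizer hPn)
      have h2 : P₀ ⊓ cj h Q ≤ Cfsg.pCoreOf p P₀ :=
        le_pCoreOf' inf_le_left (le_normalizer_inf' Subgroup.le_normalizer hPn)
          ((isPGroup_cj hQp).to_le inf_le_right)
      have h3 : Cfsg.pCoreOf p P₀ ≤ O := by rw [hO]; exact fh_pCoreOf_le hP₀Hc hP₀n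
      exact h1.trans (h2.trans h3)
  -- `[H₁', H₂] ≤ O_p(H°)`
  have hM2 : ⁅⁅H₁, H₁⁆, H₂⁆ ≤ O := by
    apply three_subgroups_mod (fun x _ => hOn x) (fun x _ => hOn x) (fun x _ => hOn x)
    · rw [← hP₀]
      exact (Subgroup.commutator_mono le_rfl hH₁).trans hM1
    · rw [Subgroup.commutator_comm H₂ H₁, ← hP₀]
      exact (Subgroup.commutator_mono le_rfl hH₁).trans hM1
  obtain ⟨W₁, hW₁⟩ : ∃ W₁ : Subgroup G, W₁ = Cfsg.weakClosure Q (H₁ ⊔ Q) := ⟨_, rfl⟩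
  have hK₁' : K₁ = (Cfsg.pResidual p ↥W₁).map W₁.subtype := by subst hW₁; exact hK₁
  obtain ⟨hQW, hWX, hXW, hWK, hKW, hpK, hgen, hWKQ, hKQ, hKN⟩ :=
    wf_wc hQp hwc (X := H₁ ⊔ Q) le_sup_right W₁ K₁ hW₁ hK₁'
  have hQn₁ : Q ≤ normalizer (H₁ : Set G) := hQHc.trans hnH₁
  have hK₁H₁ : K₁ ≤ H₁ := by
    apply hKN
    intro x hx hc
    exact fh_coprime_mem hQp hQn₁ (hWX hx) hc
  have hH₁Hc : H₁ ⊔ Q ≤ Hc := sup_le hH₁ hQHc
  have hNK : normalizer ((H₁ ⊔ Q : Subgroup G) : Set G) ≤ normalizer (K₁ : Set G) :=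
    hXW.trans hWK
  have hH₁K : H₁ ≤ normalizer (K₁ : Set G) :=
    (le_sup_left.trans Subgroup.le_normalizer).trans hNK
  have hOK : O ≤ normalizer (K₁ : Set G) :=
    le_trans (le_normalizer_sup (hOHc.trans hnH₁) hOQ) hNK
  have hKH₂P : ⁅K₁, H₂⁆ ≤ P₀ := by
    rw [hP₀]; exact Subgroup.commutator_mono hK₁H₁ le_rfl
  have hQle : Q ≤ H₁ ⊔ H₂ := by rw [hprod]; exact hQHc
  have hpass1 : K₁ ≤ ⁅H₁, H₁⁆ ⊔ P₀ := by
    refine hKQ.ge.trans ?_
    refine (Subgroup.commutator_mono le_rfl hQle).trans ?_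
    exact wf_comm_prod (hH₂.trans hnH₁) (Subgroup.commutator_mono hK₁H₁ le_rfl) hKH₂P
      (hH₁.trans hP₀n)
  have hH'n : Hc ≤ normalizer ((⁅H₁, H₁⁆ : Subgroup G) : Set G) :=
    le_normalizer_commutator' hnH₁ hnH₁
  have hH'H₁ : ⁅H₁, H₁⁆ ≤ H₁ := commutator_le_left_of_le_normalizer Subgroup.le_normalizer
  have hpass2 : K₁ ≤ ⁅H₁, H₁⁆ ⊔ O := by
    refine hKQ.ge.trans ?_
    refine (Subgroup.commutator_mono hpass1 hQle).trans ?_
    have hNn : Hc ≤ normalizer ((⁅H₁, H₁⁆ ⊔ O : Subgroup G) : Set G) :=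
      le_normalizer_sup hH'n (fun x _ => hOn x)
    apply wf_comm_sup_le ((hH'H₁.trans hH₁).trans hNn) (hP₀Hc.trans hNn)
    · exact wf_comm_prod (hH₂.trans hnH₁)
        (commutator_le_left_of_le_normalizer (hH₁.trans hH'n)) hM2 (fun x _ => hOn x)
    · rw [hprod]; exact hM1.trans le_sup_right
  have hK₁H' : K₁ ≤ ⁅H₁, H₁⁆ := by
    apply hKN
    intro x hx hc
    exact fh_coprime_mem hOp (hOHc.trans hH'n) (hpass2 (hpK x hx hc)) hc
  have hKH₂O : ⁅K₁, H₂⁆ ≤ O := (Subgroup.commutator_mono hK₁H' le_rfl).trans hM2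
  have hH₂K : H₂ ≤ normalizer (K₁ : Set G) := by
    intro b hb
    apply mem_normalizer_of_cj_le
    have h1 : K₁ ≤ cj b⁻¹ K₁ := by
      apply hKN
      intro x hx hc
      rw [mem_cj, inv_inv]
      have hxK : x ∈ K₁ := hpK x hx hc
      have e : b * x * b⁻¹ = x * ⁅x⁻¹, b⁆ := by rw [commutatorElement_def]; group
      have hmem : b * x * b⁻¹ ∈ K₁ ⊔ O := by
        rw [e]
        exact mul_mem (Subgroup.mem_sup_left hxK) (Subgroup.mem_sup_right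
          (hKH₂O (Subgroup.commutator_mem_commutator (inv_mem hxK) hb)))
      exact fh_coprime_mem hOp hOK hmem (by rw [orderOf_conj_eq]; exact hc)
    exact cj_le_iff.mpr h1
  have hHcK : Hc ≤ normalizer (K₁ : Set G) := by
    rw [← hprod]; exact sup_le hH₁K hH₂K
  have hKH₁ : ⁅K₁, H₁⁆ = K₁ := by
    apply le_antisymm (commutator_le_left_of_le_normalizer hH₁K)
    have hDn : O ≤ normalizer ((⁅K₁, H₁⁆ : Subgroup G) : Set G) :=
      le_normalizer_commutator' hOK (hOHc.trans hnH₁)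
    have h1 : K₁ ≤ ⁅K₁, H₁⁆ ⊔ O := by
      refine hKQ.ge.trans ?_
      refine (Subgroup.commutator_mono le_rfl hQle).trans ?_
      exact wf_comm_prod (hH₂.trans hnH₁) le_rfl hKH₂O (fun x _ => hOn x)
    apply hKN
    intro x hx hc
    exact fh_coprime_mem hOp hDn (h1 (hpK x hx hc)) hc
  refine ⟨hKQ, hKH₁, hK₁H', hHcK, hK₁H₁, ?_, ?_, ?_⟩
  · intro a ha
    have h : cj a Q ≤ H₁ ⊔ Q := cj_le_of_le_of_mem le_sup_right (Subgroup.mem_sup_left ha)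
    have h2 := wf_gen_le h
    rw [← hW₁, hWKQ] at h2
    exact h2
  · rw [← hO]; exact hM2
  · intro N hN
    exact hKN N (fun x hx hc => hN x (hH₁Hc (hWX hx)) hc)

/-- S2859. -/
theorem wf_main {G : Type*} [Group G] [Finite G] {p : ℕ} [Fact p.Prime] (Q : Subgroup G)
    (hQp : IsPGroup p ↥Q) (hwc : Cfsg.IsWeaklyClosedSubgroup p Q) (Hc : Subgroup G)
    (hHc : Hc = Cfsg.weakClosure Q ⊤) (H₁ H₂ : Subgroup G)
    (hn₁ : H₁ ≤ Hc ∧ Hc ≤ Subgroup.normalizer ((H₁ : Subgroup G) : Set G))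
    (hn₂ : H₂ ≤ Hc ∧ Hc ≤ Subgroup.normalizer ((H₂ : Subgroup G) : Set G))
    (hprod : H₁ ⊔ H₂ = Hc) (hcomm : ⁅H₁, H₂⁆ ≤ Subgroup.normalizer ((Q : Subgroup G) : Set G))
    (K₁ K₂ : Subgroup G)
    (hK₁ : K₁ = ((Cfsg.pResidual p ↥(Cfsg.weakClosure Q (H₁ ⊔ Q))).map
      ((Cfsg.weakClosure Q (H₁ ⊔ Q))).subtype))
    (hK₂ : K₂ = ((Cfsg.pResidual p ↥(Cfsg.weakClosure Q (H₂ ⊔ Q))).map
      ((Cfsg.weakClosure Q (H₂ ⊔ Q))).subtype)) :
    (⁅K₁, Q⁆ = K₁ ∧ ⁅K₁, H₁⁆ = K₁ ∧ K₁ ≤ ⁅H₁, H₁⁆ ∧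
        Hc ≤ Subgroup.normalizer ((K₁ : Subgroup G) : Set G)) ∧
      (⁅K₂, Q⁆ = K₂ ∧ ⁅K₂, H₂⁆ = K₂ ∧ K₂ ≤ ⁅H₂, H₂⁆ ∧
        Hc ≤ Subgroup.normalizer ((K₂ : Subgroup G) : Set G)) ∧
      K₁ ⊔ K₂ = ((Cfsg.pResidual p ↥Hc).map (Hc).subtype) ∧
      ⁅K₁, K₂⁆ ≤ (Cfsg.pCoreOf p Hc) := by
  obtain ⟨a1, b1, c1, d1, e1, f1, g1, i1⟩ :=
    wf_side Q hQp hwc Hc hHc H₁ H₂ hn₁ hn₂ hprod hcomm K₁ hK₁
  obtain ⟨a2, b2, c2, d2, e2, f2, g2, i2⟩ :=
    wf_side Q hQp hwc Hc hHc H₂ H₁ hn₂ hn₁ (by rw [sup_comm]; exact hprod)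
      (by rw [Subgroup.commutator_comm]; exact hcomm) K₂ hK₂
  refine ⟨⟨a1, b1, c1, d1⟩, ⟨a2, b2, c2, d2⟩, ?_, ?_⟩
  · apply le_antisymm
    · exact sup_le (i1 _ fun x hx hc => mem_map_pResidual hx hc)
        (i2 _ fun x hx hc => mem_map_pResidual hx hc)
    · rw [map_pResidual_eq, Subgroup.closure_le]
      rintro x ⟨hx, hc⟩
      have hQHc : Q ≤ Hc := hHc ▸ wf_self_le le_top
      have hKn : Hc ≤ normalizer ((K₁ ⊔ K₂ : Subgroup G) : Set G) := le_normalizer_sup d1 d2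
      have hH₁n : H₁ ≤ normalizer ((K₁ ⊔ K₂ ⊔ Q : Subgroup G) : Set G) := by
        intro a ha
        apply mem_normalizer_of_cj_le
        rw [cj_sup, cj_eq_self_of_mem_normalizer (hKn (hn₁.1 ha))]
        exact sup_le le_sup_left
          ((f1 a ha).trans (sup_le (le_sup_left.trans le_sup_left) le_sup_right))
      have hH₂n : H₂ ≤ normalizer ((K₁ ⊔ K₂ ⊔ Q : Subgroup G) : Set G) := by
        intro a ha
        apply mem_normalizer_of_cj_le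
        rw [cj_sup, cj_eq_self_of_mem_normalizer (hKn (hn₂.1 ha))]
        exact sup_le le_sup_left
          ((f2 a ha).trans (sup_le (le_sup_right.trans le_sup_left) le_sup_right))
      have hHcn : Hc ≤ normalizer ((K₁ ⊔ K₂ ⊔ Q : Subgroup G) : Set G) := by
        rw [← hprod]; exact sup_le hH₁n hH₂n
      have hHcle : Hc ≤ K₁ ⊔ K₂ ⊔ Q := by
        obtain ⟨R, hR⟩ : ∃ R : Subgroup G, R = (Cfsg.pResidual p ↥Hc).map Hc.subtype :=
          ⟨_, rfl⟩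
        obtain ⟨-, -, -, -, hRHc, -, hgenHc, -, -, -⟩ :=
          wf_wc hQp hwc (X := ⊤) le_top Hc R hHc hR
        have h3 : Cfsg.weakClosure Q ⊤ ≤ K₁ ⊔ K₂ ⊔ Q := by
          apply wf_closure_le
          intro g hg
          obtain ⟨h, hh, hhe⟩ := hgenHc g hg
          rw [hhe]
          have := cj_mono (g := h) (le_sup_right : Q ≤ K₁ ⊔ K₂ ⊔ Q)
          rwa [cj_eq_self_of_mem_normalizer (hHcn (hRHc hh))] at this
        rwa [← hHc] at h3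
      exact fh_coprime_mem hQp (hQHc.trans hKn) (hHcle hx) hc
  · exact (Subgroup.commutator_mono c1 e2).trans g1

end Cfsg.Agent.Helper10
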