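import Mathlib
import Cfsg.Agent.Helper10.WcFact
import Cfsg.Agent.Helper10.FStar
import Cfsg.Agent.Helper10.HatLayer
import Cfsg.Agent.Helper10.PComp2
import Cfsg.Agent.Helper17.PReduced
import Cfsg.Agent.Helper17.YL2

set_option autoImplicit false

/-!
# Helper10: the weak closure of a large subgroup in a quasisimple-type local subgroup (S2860)

* `wq_comm_eq` : `O_p(X) = 1`, `K ⊴ X` quasisimple containing `O^p(X)`, `Y ≠ 1` a `p`-subgroup:
  `[K, Y] = K`;
* `wq_transl` : translation of the hypotheses on `X/N` into statements in `X`;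
* `wq_qs_lift` : `X` perfect, `X/D` quasisimple, `[D, X] ≤ P ≠ X` gives `X/P` quasisimple;
* `wq_main` : S2860.
-/

namespace Cfsg.Agent.Helper10

open Subgroup Cfsg.Agent.Helper17
open scoped commutatorElement

theorem wq_comm_eq {X : Type*} [Group X] [Finite X] {p : ℕ} [Fact p.Prime]
    (hO : Cfsg.pCore p X = ⊥) (K : Subgroup X) [hKn : K.Normal] (hK : Cfsg.IsQuasisimple ↥K)
    (hres : Cfsg.pResidual p X ≤ K) (Y : Subgroup X) (hY : IsPGroup p ↥Y) (hY1 : Y ≠ ⊥) :
    ⁅K, Y⁆ = K := by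
  have hFK : ⁅K, Y⁆ ≤ K := Subgroup.commutator_le_left K Y
  have hperf : ⁅K, K⁆ = K := by
    have hp := hK.1.commutator_eq_top
    have h1 := Subgroup.map_subtype_commutator K
    rw [hp, ← MonoidHom.range_eq_map, Subgroup.range_subtype] at h1
    exact h1.symm
  have hFn : (⁅K, Y⁆.subgroupOf K).Normal :=
    (Subgroup.normal_subgroupOf_iff_le_normalizer hFK).mpr (le_normalizer_commutator_left K Y)
  rcases qs_normal hK _ hFn with h | h
  · exact le_antisymm hFK (Subgroup.subgroupOf_eq_top.mp h)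
  · exfalso
    have h1 : ⁅⁅K, Y⁆, K⁆ = ⊥ := by
      rw [eq_bot_iff, Subgroup.commutator_le]
      intro f hf k hk
      rw [Subgroup.mem_bot, commutatorElement_eq_one_iff_mul_comm]
      have hc : (⟨f, hFK hf⟩ : K) ∈ Subgroup.center ↥K := h (Subgroup.mem_subgroupOf.mpr hf)
      have := Subgroup.mem_center_iff.mp hc ⟨k, hk⟩
      exact (congrArg Subtype.val this).symm
    have h2 : ⁅⁅Y, K⁆, K⁆ = ⊥ := by rw [Subgroup.commutator_comm Y K]; exact h1
    have h3 : ⁅⁅K, K⁆, Y⁆ = ⊥ := Subgroup.commutator_commutator_eq_bot_of_rotate h1 h2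
    rw [hperf, Subgroup.commutator_comm] at h3
    have hYC : Y ≤ centralizer (K : Set X) := Subgroup.commutator_eq_bot_iff_le_centralizer.mp h3
    obtain ⟨T, hYT⟩ := hY.exists_le_sylow
    have hKT : K ⊔ (T : Subgroup X) = ⊤ := by
      rw [eq_top_iff, ← pResidual_sup_sylow T]
      exact sup_le_sup_right hres _
    have hKtop : normalizer (K : Set X) = ⊤ := Subgroup.normalizer_eq_top_iff.mpr hKn
    obtain ⟨Z₀, hZ₀⟩ : ∃ Z₀ : Subgroup X, Z₀ = (T : Subgroup X) ⊓ centralizer (K : Set X) :=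
      ⟨_, rfl⟩
    have hTZ : (T : Subgroup X) ≤ normalizer (Z₀ : Set X) := by
      rw [hZ₀]
      exact le_normalizer_inf' Subgroup.le_normalizer
        (le_trans (by rw [hKtop]; exact le_top) (normalizer_le_normalizer_centralizer K))
    have hKZ : K ≤ normalizer (Z₀ : Set X) := by
      refine le_trans ?_ (Subgroup.centralizer_le_normalizer _)
      intro k hk
      rw [Subgroup.mem_centralizer_iff]
      intro z hz
      have hz' : z ∈ centralizer (K : Set X) := by
        have hz2 : z ∈ Z₀ := hz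
        rw [hZ₀] at hz2
        exact hz2.2
      exact (Subgroup.mem_centralizer_iff.mp hz' k hk).symm
    have hZnorm : Z₀.Normal := by
      rw [← Subgroup.normalizer_eq_top_iff, eq_top_iff, ← hKT]
      exact sup_le hKZ hTZ
    have hZp : IsPGroup p ↥Z₀ := by
      rw [hZ₀]; exact T.isPGroup'.to_le inf_le_left
    have hZ0 : Z₀ ≤ Cfsg.pCore p X := le_pCore hZnorm hZp
    rw [hO] at hZ0
    apply hY1
    rw [eq_bot_iff]
    refine le_trans ?_ hZ0
    rw [hZ₀]
    exact le_inf hYT hYC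

theorem wq_transl {X : Type*} [Group X] [Finite X] {p : ℕ} [Fact p.Prime] (N : Subgroup X)
    [N.Normal] (hred : Cfsg.pCore p (X ⧸ N) = ⊥)
    (hqs : Cfsg.IsQuasisimple ↥((Cfsg.pResidual p X ⊔ N).map (QuotientGroup.mk' N))) :
    Cfsg.pResidual p X ≤ ⁅Cfsg.pResidual p X, Cfsg.pResidual p X⁆ ⊔ N ∧
      ∀ Y : Subgroup X, IsPGroup p ↥Y → ¬ Y ≤ N →
        Cfsg.pResidual p X ≤ ⁅Cfsg.pResidual p X, Y⁆ ⊔ N := by
  haveI := pResidual_normal' p X
  have hpow : ∀ y : X, ∃ a : ℕ, y ^ p ^ a ∈ Cfsg.pResidual p X := by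
    intro y
    obtain ⟨a, ha⟩ := (isPGroup_quotient_pResidual p X) (QuotientGroup.mk y)
    refine ⟨a, ?_⟩
    rw [← QuotientGroup.eq_one_iff, QuotientGroup.mk_pow]
    exact ha
  obtain ⟨R, hR⟩ : ∃ R : Subgroup X, R = Cfsg.pResidual p X := ⟨_, rfl⟩
  have hRn : R.Normal := by rw [hR]; infer_instance
  rw [← hR] at hqs hpow ⊢
  obtain ⟨Kb, hKb⟩ : ∃ Kb : Subgroup (X ⧸ N), Kb = (R ⊔ N).map (QuotientGroup.mk' N) :=
    ⟨_, rfl⟩
  have hKR : Kb = R.map (QuotientGroup.mk' N) := by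
    rw [hKb, Subgroup.map_sup, QuotientGroup.map_mk'_self, sup_bot_eq]
  have hqs' : Cfsg.IsQuasisimple ↥Kb := by subst hKb; exact hqs
  haveI hKn : Kb.Normal := by
    rw [hKR]; exact hRn.map _ (QuotientGroup.mk'_surjective N)
  have hres : Cfsg.pResidual p (X ⧸ N) ≤ Kb := by
    show Subgroup.closure _ ≤ _
    rw [Subgroup.closure_le]
    intro yb hyb
    obtain ⟨y, rfl⟩ := QuotientGroup.mk'_surjective N yb
    have hc : (orderOf (QuotientGroup.mk' N y)).Coprime p := hyb
    obtain ⟨a, hyR⟩ := hpow y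
    have h1 : (QuotientGroup.mk' N y) ^ p ^ a ∈ Kb := by
      rw [hKR, ← map_pow]; exact Subgroup.mem_map_of_mem _ hyR
    have h2 : (QuotientGroup.mk' N y) ^ orderOf (QuotientGroup.mk' N y) ∈ Kb := by
      rw [pow_orderOf_eq_one]; exact one_mem _
    exact mem_of_pow_mem_of_coprime Kb (Nat.Coprime.pow_left a hc.symm) h1 h2
  have hperf : ⁅Kb, Kb⁆ = Kb := by
    have hp := hqs'.1.commutator_eq_top
    have h1 := Subgroup.map_subtype_commutator Kb
    rw [hp, ← MonoidHom.range_eq_map, Subgroup.range_subtype] at h1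
    exact h1.symm
  have key : ∀ A : Subgroup X, (A.map (QuotientGroup.mk' N)) = Kb → R ≤ A ⊔ N := by
    intro A hA
    have h1 : R ≤ (R.map (QuotientGroup.mk' N)).comap (QuotientGroup.mk' N) :=
      Subgroup.le_comap_map _ _
    rw [← hKR, ← hA, Subgroup.comap_map_eq, QuotientGroup.ker_mk'] at h1
    exact h1
  refine ⟨key _ ?_, ?_⟩
  · rw [Subgroup.map_commutator, ← hKR, hperf]
  · intro Y hY hYN
    apply key
    rw [Subgroup.map_commutator, ← hKR]
    apply wq_comm_eq hred Kb hqs' hres _ (hY.map _)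
    intro h
    apply hYN
    have := (Subgroup.map_eq_bot_iff Y).mp h
    rwa [QuotientGroup.ker_mk'] at this

theorem wq_qs_lift {X : Type*} [Group X] (hperf : ⁅(⊤ : Subgroup X), (⊤ : Subgroup X)⁆ = (⊤ : Subgroup X)) (D P : Subgroup X)
    [hDn : D.Normal] [hPn : P.Normal] (hq : Cfsg.IsQuasisimple (X ⧸ D))
    (hDP : ⁅D, (⊤ : Subgroup X)⁆ ≤ P) (hP : P ≠ ⊤) : Cfsg.IsQuasisimple (X ⧸ P) := by
  haveI hX : Group.IsPerfect X := ⟨by rw [_root_.commutator_def]; exact hperf⟩
  have hperfQ : Group.IsPerfect (X ⧸ P) :=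
    Group.IsPerfect.ofSurjective (f := QuotientGroup.mk' P) (QuotientGroup.mk'_surjective P)
  have hnt : Nontrivial (X ⧸ P) := by
    by_contra hn
    rw [not_nontrivial_iff_subsingleton] at hn
    exact hP (QuotientGroup.subgroup_eq_top_of_subsingleton _ hn)
  apply qs_of_dichotomy hperfQ.commutator_eq_top hnt
  intro N hN
  obtain ⟨M, hM⟩ : ∃ M : Subgroup X, M = N.comap (QuotientGroup.mk' P) := ⟨_, rfl⟩
  have hMn : M.Normal := by rw [hM]; exact hN.comap _
  have hPM : P ≤ M := by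
    rw [hM]
    have := Subgroup.ker_le_comap (QuotientGroup.mk' P) N
    rwa [QuotientGroup.ker_mk'] at this
  have hNM : N = M.map (QuotientGroup.mk' P) := by
    rw [hM, Subgroup.map_comap_eq_self_of_surjective (QuotientGroup.mk'_surjective P)]
  have hMbn : (M.map (QuotientGroup.mk' D)).Normal := hMn.map _ (QuotientGroup.mk'_surjective D)
  have hnormM : ∀ A : Subgroup X, A ≤ normalizer (M : Set X) := fun A => by
    rw [Subgroup.normalizer_eq_top_iff.mpr hMn]; exact le_top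
  have hnormP : ∀ A : Subgroup X, A ≤ normalizer (P : Set X) := fun A => by
    rw [Subgroup.normalizer_eq_top_iff.mpr hPn]; exact le_top
  rcases qs_normal hq _ hMbn with h | h
  · left
    have h1 : M ⊔ D = ⊤ := by
      have := congrArg (Subgroup.comap (QuotientGroup.mk' D)) h
      rwa [Subgroup.comap_map_eq, QuotientGroup.ker_mk', Subgroup.comap_top] at this
    have h2 : ⁅M ⊔ D, (⊤ : Subgroup X)⁆ ≤ M :=
      wf_comm_sup_le (hnormM _) (hnormM _) (Subgroup.commutator_le_left M ⊤) (hDP.trans hPM)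
    rw [h1, hperf] at h2
    have hMtop : M = ⊤ := top_le_iff.mp h2
    rw [hNM, hMtop]
    exact Subgroup.map_top_of_surjective _ (QuotientGroup.mk'_surjective P)
  · right
    have h1 : ⁅M, (⊤ : Subgroup X)⁆ ≤ D := by
      rw [Subgroup.commutator_le]
      intro m hm x _
      have hc : (QuotientGroup.mk' D m) ∈ Subgroup.center (X ⧸ D) :=
        h (Subgroup.mem_map_of_mem _ hm)
      have hcm := Subgroup.mem_center_iff.mp hc (QuotientGroup.mk' D x)
      have h5 : (QuotientGroup.mk' D) ⁅m, x⁆ = 1 := by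
        rw [map_commutatorElement, commutatorElement_eq_one_iff_mul_comm]
        exact hcm.symm
      exact (QuotientGroup.eq_one_iff _).mp h5
    have h2 : ⁅⁅M, (⊤ : Subgroup X)⁆, (⊤ : Subgroup X)⁆ ≤ P :=
      (Subgroup.commutator_mono h1 le_rfl).trans hDP
    have h3 : ⁅⁅(⊤ : Subgroup X), (⊤ : Subgroup X)⁆, M⁆ ≤ P := by
      apply three_subgroups_mod (hnormP _) (hnormP _) (hnormP _)
      · rw [Subgroup.commutator_comm ⊤ M]; exact h2
      · exact h2
    rw [hperf, Subgroup.commutator_comm] at h3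
    rw [hNM]
    rintro _ ⟨m, hm, rfl⟩
    rw [Subgroup.mem_center_iff]
    intro g
    obtain ⟨x, rfl⟩ := QuotientGroup.mk'_surjective P g
    have h4 : ⁅m, x⁆ ∈ P := h3 (Subgroup.commutator_mem_commutator hm (Subgroup.mem_top x))
    have h5 : (QuotientGroup.mk' P) ⁅m, x⁆ = 1 := (QuotientGroup.eq_one_iff _).mpr h4
    rw [map_commutatorElement, commutatorElement_eq_one_iff_mul_comm] at h5
    exact h5.symm

theorem wq_dedekind {G : Type*} [Group G] {A B K : Subgroup G}
    (hAB : A ≤ normalizer (B : Set G)) (hAK : A ≤ K) (h : K ≤ A ⊔ B) : K ≤ A ⊔ (K ⊓ B) := by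
  intro x hx
  have hx' : x ∈ B ⊔ A := by rw [sup_comm]; exact h hx
  obtain ⟨b, hb, a, ha, rfl⟩ := mem_sup_of_le_normalizer hAB hx'
  have hbK : b ∈ K := by
    have : b = (b * a) * a⁻¹ := by group
    rw [this]; exact mul_mem hx (inv_mem (hAK ha))
  exact mul_mem (Subgroup.mem_sup_right ⟨hbK, hb⟩) (Subgroup.mem_sup_left ha)

/-- S2860, with `C = C_G(U)`. -/
theorem wq_main {G : Type*} [Group G] [Finite G] {p : ℕ} [Fact p.Prime] (Q : Subgroup G)
    (hQp : IsPGroup p ↥Q) (hQ1 : Q ≠ ⊥) (hQ : Cfsg.IsLarge Q) (U : Subgroup G)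
    (hU : Cfsg.IsElementaryAbelian p U) (hU1 : U ≠ ⊥) (E : Subgroup G) (hQE : Q ≤ E)
    (hEU : E ≤ normalizer (U : Set G)) (hQn : ¬ E ≤ normalizer (Q : Set G))
    (C : Subgroup G) (hC : C = centralizer (U : Set G))
    [hn : (C.subgroupOf E).Normal]
    (hred : Cfsg.pCore p (↥E ⧸ C.subgroupOf E) = ⊥)
    (hqs : Cfsg.IsQuasisimple ↥(((Cfsg.pResidual p ↥E) ⊔ C.subgroupOf E).map
      (QuotientGroup.mk' (C.subgroupOf E))))
    (Er : Subgroup G)
    (hEr : Er = ((Cfsg.pResidual p ↥(Cfsg.weakClosure Q E)).map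
      ((Cfsg.weakClosure Q E)).subtype))
    [hn2 : (C.subgroupOf Er).Normal] :
    ((Cfsg.pResidual p ↥E).map (E).subtype) ⊔ (E ⊓ C) = Er ⊔ (E ⊓ C) ∧ ⁅Er, Er⁆ = Er ∧
      ((Cfsg.pResidual p ↥Er).map (Er).subtype) = Er ∧
      Cfsg.IsQuasisimple (↥Er ⧸ C.subgroupOf Er) ∧
      Cfsg.IsQuasisimple (↥Er ⧸ Cfsg.pCore p ↥Er) ∧
      ∀ Y : Subgroup G, Y ≤ E → IsPGroup p ↥Y → ¬ Y ≤ C → ⁅Er, Y⁆ = Er := by
  have hwc : Cfsg.IsWeaklyClosedSubgroup p Q := large_wc hQp hQ1 hQ
  have hUp : IsPGroup p ↥U := isPGroup_of_isElementaryAbelian hU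
  obtain ⟨W, hW⟩ : ∃ W : Subgroup G, W = Cfsg.weakClosure Q E := ⟨_, rfl⟩
  have hEr' : Er = (Cfsg.pResidual p ↥W).map W.subtype := by subst hW; exact hEr
  obtain ⟨hQW, hWE, hEW, hWEr, hErW, hpK, hgen, hWKQ, hKQ, hKN⟩ :=
    wf_wc hQp hwc hQE W Er hW hEr'
  have hErE : Er ≤ E := hErW.trans hWE
  have hCQ : C ≤ normalizer (Q : Set G) := by
    rw [hC]; exact large_centralizer_le_normalizer hQp hQ hUp hU1 (hQE.trans hEU)
  have hEC : E ≤ normalizer (C : Set G) := by
    rw [hC]; exact hEU.trans (normalizer_le_normalizer_centralizer U)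
  have hEW' : E ≤ normalizer (W : Set G) := Subgroup.le_normalizer.trans hEW
  have hEEr : E ≤ normalizer (Er : Set G) := hEW'.trans hWEr
  have hECE : E ≤ normalizer ((E ⊓ C : Subgroup G) : Set G) :=
    le_normalizer_inf' Subgroup.le_normalizer hEC
  haveI := pResidual_normal' p ↥E
  obtain ⟨RE, hRE⟩ : ∃ RE : Subgroup G, RE = (Cfsg.pResidual p ↥E).map E.subtype := ⟨_, rfl⟩
  have hREE : RE ≤ E := by rw [hRE]; exact map_pResidual_le p E
  have hErRE : Er ≤ RE :=
    hKN RE (fun x hx hc => by rw [hRE]; exact mem_map_pResidual (hWE hx) hc)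
  obtain ⟨t1, t2⟩ := wq_transl (C.subgroupOf E) hred hqs
  have hmapC : (C.subgroupOf E).map E.subtype = E ⊓ C := by
    rw [Subgroup.subgroupOf_map_subtype, inf_comm]
  have a1 : RE ≤ ⁅RE, RE⁆ ⊔ (E ⊓ C) := by
    have := Subgroup.map_mono (f := E.subtype) t1
    rwa [Subgroup.map_sup, Subgroup.map_commutator, hmapC, ← hRE] at this
  have a2 : ∀ Y : Subgroup G, Y ≤ E → IsPGroup p ↥Y → ¬ Y ≤ C →
      RE ≤ ⁅RE, Y⁆ ⊔ (E ⊓ C) := by
    intro Y hYE hYp hYC
    have h1 := t2 (Y.subgroupOf E) hYp.comap_subtype (fun h => hYC (fun y hy => by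
      have : (⟨y, hYE hy⟩ : E) ∈ C.subgroupOf E := h (Subgroup.mem_subgroupOf.mpr hy)
      exact Subgroup.mem_subgroupOf.mp this))
    have := Subgroup.map_mono (f := E.subtype) h1
    rwa [Subgroup.map_sup, Subgroup.map_commutator, hmapC, ← hRE,
      Subgroup.map_subgroupOf_eq_of_le hYE] at this
  have hQC : ¬ Q ≤ C := by
    intro h
    apply hQn
    rw [hC] at h
    have hUQ : U ≤ centralizer (Q : Set G) := Subgroup.le_centralizer_iff.mp h
    exact hEU.trans (hQ.2 U hUQ hU1)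
  -- (1)
  have hQE' : Q ≤ normalizer ((Er ⊔ (E ⊓ C) : Subgroup G) : Set G) :=
    hQE.trans (le_normalizer_sup hEEr hECE)
  have hEQW : ⁅RE, Q⁆ ≤ W := by
    rw [Subgroup.commutator_le]
    intro e he q hq
    have h1 : cj e Q ≤ W := by
      have : cj e Q ≤ E := cj_le_of_le_of_mem hQE (hREE he)
      rw [hW]; exact wf_gen_le this
    have e1 : ⁅e, q⁆ = (e * q * e⁻¹) * q⁻¹ := by rw [commutatorElement_def]
    rw [e1]
    exact mul_mem (h1 (conj_mem_cj hq)) (inv_mem (hQW hq))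
  have hREM : RE ≤ Er ⊔ (E ⊓ C) := by
    have h1 : RE ≤ (Er ⊔ (E ⊓ C)) ⊔ Q := by
      refine (a2 Q hQE hQp hQC).trans ?_
      refine sup_le (hEQW.trans ?_) (le_sup_right.trans le_sup_left)
      rw [hWKQ]
      exact sup_le (le_sup_left.trans le_sup_left) le_sup_right
    have h2 : (Cfsg.pResidual p ↥E).map E.subtype ≤ Er ⊔ (E ⊓ C) := by
      rw [map_pResidual_eq, Subgroup.closure_le]
      rintro x ⟨hx, hc⟩
      have hxRE : x ∈ RE := by rw [hRE]; exact mem_map_pResidual hx hc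
      exact fh_coprime_mem hQp hQE' (h1 hxRE) hc
    rw [hRE]; exact h2
  have c1 : RE ⊔ (E ⊓ C) = Er ⊔ (E ⊓ C) :=
    le_antisymm (sup_le hREM le_sup_right) (sup_le_sup_right hErRE _)
  -- `D = C_{Er}(U)` is central modulo `O_p(Er)`
  obtain ⟨D, hD⟩ : ∃ D : Subgroup G, D = Er ⊓ C := ⟨_, rfl⟩
  have hDEr : D ≤ Er := by rw [hD]; exact inf_le_left
  have hDC : D ≤ C := by rw [hD]; exact inf_le_right
  have hED : E ≤ normalizer (D : Set G) := by rw [hD]; exact le_normalizer_inf' hEEr hEC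
  obtain ⟨O, hO⟩ : ∃ O : Subgroup G, O = Cfsg.pCoreOf p Er := ⟨_, rfl⟩
  have hOp : IsPGroup p ↥O := by rw [hO]; exact pCoreOf_isPGroup' p Er
  have hOEr : O ≤ Er := by rw [hO]; exact pCoreOf_le' p Er
  have hEO : E ≤ normalizer (O : Set G) := by
    rw [hO]; exact hEEr.trans (normalizer_le_normalizer_pCoreOf p Er)
  have hDO : ⁅D, W⁆ ≤ O := by
    rw [Subgroup.commutator_comm, hW]
    refine commutator_iSup_le (fun g : {g : G // Q.map (MulAut.conj g).toMonoidHom ≤ E} =>
      Q.map (MulAut.conj (g : G)).toMonoidHom) D O ?_ ?_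
    · rintro ⟨g, hg⟩
      exact hg.trans hEO
    · rintro ⟨g, hg⟩
      show ⁅cj g Q, D⁆ ≤ O
      obtain ⟨k, hk, hke⟩ := hgen g hg
      rw [hke]
      have hkE : k ∈ E := hErE hk
      have hDn : D ≤ normalizer ((cj k Q : Subgroup G) : Set G) := by
        rw [normalizer_cj]
        have := cj_mono (g := k) (hDC.trans hCQ)
        rwa [cj_eq_self_of_mem_normalizer (hED hkE)] at this
      have hcjE : cj k Q ≤ E := cj_le_of_le_of_mem hQE hkE
      have h1 : ⁅cj k Q, D⁆ ≤ D ⊓ cj k Q :=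
        le_inf (commutator_le_right_of_le_normalizer (hcjE.trans hED))
          (commutator_le_left_of_le_normalizer hDn)
      have h2 : D ⊓ cj k Q ≤ Cfsg.pCoreOf p D :=
        le_pCoreOf' inf_le_left (le_normalizer_inf' Subgroup.le_normalizer hDn)
          ((isPGroup_cj hQp).to_le inf_le_right)
      have h3 : Cfsg.pCoreOf p D ≤ O := by
        rw [hO]; exact fh_pCoreOf_le hDEr (hErE.trans hED)
      exact h1.trans (h2.trans h3)
  -- (2)
  have hE' : E ≤ normalizer ((⁅Er, Er⁆ : Subgroup G) : Set G) :=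
    le_normalizer_commutator' hEEr hEEr
  have hEr'Er : ⁅Er, Er⁆ ≤ Er := commutator_le_left_of_le_normalizer Subgroup.le_normalizer
  have hCEn : ∀ A : Subgroup G, A ≤ E → ⁅E ⊓ C, A⁆ ≤ E ⊓ C := fun A hA =>
    commutator_le_left_of_le_normalizer (hA.trans hECE)
  have c2 : ⁅Er, Er⁆ = Er := by
    apply le_antisymm hEr'Er
    have hEN : E ≤ normalizer ((⁅Er, Er⁆ ⊔ (E ⊓ C) : Subgroup G) : Set G) :=
      le_normalizer_sup hE' hECE
    have h1 : ⁅Er ⊔ (E ⊓ C), Er ⊔ (E ⊓ C)⁆ ≤ ⁅Er, Er⁆ ⊔ (E ⊓ C) := by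
      apply wf_comm_sup_le (hErE.trans hEN) (inf_le_left.trans hEN)
      · rw [Subgroup.commutator_comm]
        exact wf_comm_sup_le (hErE.trans hEN) (inf_le_left.trans hEN) le_sup_left
          ((hCEn Er hErE).trans le_sup_right)
      · exact (hCEn _ (sup_le hErE inf_le_left)).trans le_sup_right
    have h2 : Er ≤ ⁅Er, Er⁆ ⊔ (E ⊓ C) :=
      hErRE.trans (a1.trans (sup_le ((Subgroup.commutator_mono hREM hREM).trans h1)
        le_sup_right))
    have h3 : Er ≤ ⁅Er, Er⁆ ⊔ D := by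
      have := wq_dedekind ((hEr'Er.trans hErE).trans hECE) hEr'Er h2
      refine this.trans (sup_le le_sup_left (le_trans ?_ le_sup_right))
      rw [hD]
      exact le_inf inf_le_left (inf_le_right.trans inf_le_right)
    have hErN : Er ≤ normalizer ((⁅Er, Er⁆ ⊔ O : Subgroup G) : Set G) :=
      hErE.trans (le_normalizer_sup hE' hEO)
    have h4 : Er ≤ ⁅Er, Er⁆ ⊔ O := by
      refine hKQ.ge.trans ((Subgroup.commutator_mono h3 le_rfl).trans ?_)
      apply wf_comm_sup_le (hEr'Er.trans hErN) (hDEr.trans hErN)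
      · exact (commutator_le_left_of_le_normalizer (hQE.trans hE')).trans le_sup_left
      · exact ((Subgroup.commutator_mono le_rfl hQW).trans hDO).trans le_sup_right
    apply hKN
    intro x hx hc
    exact fh_coprime_mem hOp ((hOEr.trans hErE).trans hE') (h4 (hpK x hx hc)) hc
  -- (3)
  have c3 : (Cfsg.pResidual p ↥Er).map Er.subtype = Er :=
    le_antisymm (map_pResidual_le p Er)
      (hKN _ (fun x hx hc => mem_map_pResidual (hpK x hx hc) hc))
  -- (6)
  have c6 : ∀ Y : Subgroup G, Y ≤ E → IsPGroup p ↥Y → ¬ Y ≤ C → ⁅Er, Y⁆ = Er := by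
    intro Y hYE hYp hYC
    have hFEr : ⁅Er, Y⁆ ≤ Er := commutator_le_left_of_le_normalizer (hYE.trans hEEr)
    apply le_antisymm hFEr
    have hErF : Er ≤ normalizer ((⁅Er, Y⁆ : Subgroup G) : Set G) :=
      le_normalizer_commutator_left Er Y
    have h1 : ⁅Er ⊔ (E ⊓ C), Y⁆ ≤ ⁅Er, Y⁆ ⊔ (E ⊓ C) := by
      apply wf_comm_sup_le (le_normalizer_sup hErF (hErE.trans hECE))
        (le_sup_right.trans Subgroup.le_normalizer) le_sup_left
      exact (hCEn Y hYE).trans le_sup_right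
    have h2 : Er ≤ ⁅Er, Y⁆ ⊔ (E ⊓ C) :=
      hErRE.trans ((a2 Y hYE hYp hYC).trans
        (sup_le ((Subgroup.commutator_mono hREM le_rfl).trans h1) le_sup_right))
    have h3 : Er ≤ ⁅Er, Y⁆ ⊔ D := by
      have := wq_dedekind ((hFEr.trans hErE).trans hECE) hFEr h2
      refine this.trans (sup_le le_sup_left (le_trans ?_ le_sup_right))
      rw [hD]
      exact le_inf inf_le_left (inf_le_right.trans inf_le_right)
    have hErN : Er ≤ normalizer ((⁅Er, Y⁆ ⊔ O : Subgroup G) : Set G) :=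
      le_normalizer_sup hErF (hErE.trans hEO)
    have h4 : Er ≤ ⁅Er, Y⁆ ⊔ O := by
      refine c2.ge.trans ((Subgroup.commutator_mono h3 le_rfl).trans ?_)
      apply wf_comm_sup_le (hFEr.trans hErN) (hDEr.trans hErN)
      · exact (commutator_le_left_of_le_normalizer hErF).trans le_sup_left
      · exact ((Subgroup.commutator_mono le_rfl hErW).trans hDO).trans le_sup_right
    apply hKN
    intro x hx hc
    exact fh_coprime_mem hOp (hOEr.trans hErF) (h4 (hpK x hx hc)) hc
  -- (4)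
  have c4 : Cfsg.IsQuasisimple (↥Er ⧸ C.subgroupOf Er) := by
    let f : ↥Er →* ↥E ⧸ C.subgroupOf E :=
      (QuotientGroup.mk' (C.subgroupOf E)).comp (Subgroup.inclusion hErE)
    have hker : f.ker = C.subgroupOf Er := by
      ext x
      rw [MonoidHom.mem_ker, Subgroup.mem_subgroupOf]
      show (QuotientGroup.mk' (C.subgroupOf E)) (Subgroup.inclusion hErE x) = 1 ↔ _
      rw [QuotientGroup.mk'_apply, QuotientGroup.eq_one_iff, Subgroup.mem_subgroupOf]
      rfl
    have hrange : f.range = ((Cfsg.pResidual p ↥E) ⊔ C.subgroupOf E).map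
        (QuotientGroup.mk' (C.subgroupOf E)) := by
      have h1 : f.range = (Er.subgroupOf E).map (QuotientGroup.mk' (C.subgroupOf E)) := by
        show ((QuotientGroup.mk' (C.subgroupOf E)).comp (Subgroup.inclusion hErE)).range = _
        rw [MonoidHom.range_comp, Subgroup.inclusion_range]
      have h2 : Er.subgroupOf E ⊔ C.subgroupOf E = Cfsg.pResidual p ↥E ⊔ C.subgroupOf E := by
        apply Subgroup.map_injective E.subtype_injective
        rw [Subgroup.map_sup, Subgroup.map_sup, hmapC, Subgroup.map_subgroupOf_eq_of_le hErE,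
          ← hRE]
        exact c1.symm
      rw [h1, ← h2, Subgroup.map_sup, QuotientGroup.map_mk'_self, sup_bot_eq]
    have e : (↥Er ⧸ C.subgroupOf Er) ≃* ↥(((Cfsg.pResidual p ↥E) ⊔ C.subgroupOf E).map
        (QuotientGroup.mk' (C.subgroupOf E))) :=
      ((QuotientGroup.quotientMulEquivOfEq hker.symm).trans
        (QuotientGroup.quotientKerEquivRange f)).trans (MulEquiv.subgroupCongr hrange)
    exact qs_of_equiv e.symm hqs
  -- (5)
  have c5 : Cfsg.IsQuasisimple (↥Er ⧸ Cfsg.pCore p ↥Er) := by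
    have hperf : ⁅(⊤ : Subgroup ↥Er), (⊤ : Subgroup ↥Er)⁆ = (⊤ : Subgroup ↥Er) := by
      rw [← _root_.commutator_def]; exact commutator_top_of_perfect c2
    have hmapO : (Cfsg.pCore p ↥Er).map Er.subtype = O := by rw [hO]; rfl
    apply wq_qs_lift hperf (C.subgroupOf Er) (Cfsg.pCore p ↥Er) c4
    · rw [← Subgroup.map_le_map_iff_of_injective Er.subtype_injective, Subgroup.map_commutator,
        hmapO, Subgroup.subgroupOf_map_subtype, ← MonoidHom.range_eq_map, Subgroup.range_subtype]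
      have : C ⊓ Er = D := by rw [hD, inf_comm]
      rw [this]
      exact (Subgroup.commutator_mono le_rfl hErW).trans hDO
    · intro htop
      have hOeq : O = Er := by
        rw [← hmapO, htop, ← MonoidHom.range_eq_map, Subgroup.range_subtype]
      have hErp : IsPGroup p ↥Er := by rw [← hOeq]; exact hOp
      have hbot : Er ≤ ⊥ := hKN ⊥ (fun x hx hc => by
        rw [Subgroup.mem_bot]
        exact eq_one_of_isPGroup_of_coprime hErp (hpK x hx hc) hc)
      have hsub : Subsingleton ↥Er := by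
        constructor
        intro a b
        apply Subtype.ext
        have ha := hbot a.2
        have hb := hbot b.2
        rw [Subgroup.mem_bot] at ha hb
        rw [ha, hb]
      have hnt := qs_nontrivial c4
      have : Subsingleton (↥Er ⧸ C.subgroupOf Er) :=
        (QuotientGroup.mk'_surjective _).subsingleton
      exact not_subsingleton _ this
  exact ⟨by rw [← hRE]; exact c1, c2, c3, c4, c5, c6⟩

end Cfsg.Agent.Helper10
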