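import Mathlib
import Cfsg.Agent.Helper10.WcQs
import Cfsg.Agent.Helper17.PClosed

set_option autoImplicit false

/-!
# Helper10: `p`-minimal and `p`-irreducible groups generated by a conjugacy class of subgroups (S2855)

`𝒦` an `H`-class of subgroups, `R = ⟨𝒦⟩ ≥ O^p(H)`, `E·O_p(H) ⊴ R·O_p(H)` for `E ∈ 𝒦`.
* `kp_common` : `H = RT`, `T` transitive on the `E·O_p(H)`, `T ∩ E ∈ Syl_p(E)`, normal `p`-subgroups
  of `E·O_p(H)` lie in `O_p(H)`;
* `kp_partA` : if the `E` are `p`-minimal then `H` is `p`-minimal;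
* `kp_partB` : if the `E` are strongly `p`-irreducible then `H` is `p`-irreducible, and the
  dichotomy for `O^p(E·O_p(H))`.
-/

namespace Cfsg.Agent.Helper10

open Subgroup Cfsg.Agent.Helper17
open scoped commutatorElement

theorem kp_ded {G : Type*} [Group G] {A B K : Subgroup G} (hBA : B ≤ normalizer (A : Set G))
    (hAK : A ≤ K) (h : K ≤ A ⊔ B) : K ≤ A ⊔ (K ⊓ B) := by
  intro x hx
  obtain ⟨a, ha, b, hb, rfl⟩ := mem_sup_of_le_normalizer hBA (h hx)
  have hbK : b ∈ K := by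
    have : b = a⁻¹ * (a * b) := by group
    rw [this]; exact mul_mem (inv_mem (hAK ha)) hx
  exact mul_mem (Subgroup.mem_sup_left ha) (Subgroup.mem_sup_right ⟨hbK, hb⟩)

/-- the elements centralizing the set `A` modulo the normal subgroup `O`. -/
def kp_centMod {G : Type*} [Group G] (A : Set G) (O : Subgroup G) [hO : O.Normal] :
    Subgroup G where
  carrier := {h | ∀ x ∈ A, ⁅x, h⁆ ∈ O}
  one_mem' := fun x _ => by rw [commutatorElement_one_right]; exact one_mem O
  mul_mem' := by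
    intro a b ha hb x hx
    rw [commutatorElement_mul_right']
    exact mul_mem (ha x hx) (hO.conj_mem _ (hb x hx) a)
  inv_mem' := by
    intro a ha x hx
    rw [commutatorElement_inv_right']
    exact hO.conj_mem _ (inv_mem (ha x hx)) a⁻¹

theorem kp_centMod_conj {G : Type*} [Group G] {A : Set G} {O : Subgroup G} [hO : O.Normal]
    {e t : G} (hA : ∀ x ∈ A, e⁻¹ * x * e ∈ A) (ht : t ∈ kp_centMod A O) :
    e * t * e⁻¹ ∈ kp_centMod A O := by
  intro x hx
  have e1 : ⁅x, e * t * e⁻¹⁆ = e * ⁅e⁻¹ * x * e, t⁆ * e⁻¹ := by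
    simp only [commutatorElement_def]; group
  rw [e1]
  exact hO.conj_mem _ (ht _ (hA x hx)) e

theorem kp_gen {H : Type*} [Group H] {p : ℕ} {E TE : Subgroup H} (T' : Sylow p ↥E)
    (hT' : (T' : Subgroup ↥E).map E.subtype = TE)
    (hgen : Subgroup.normalClosure ((T' : Subgroup ↥E) : Set ↥E) = ⊤) (S : Subgroup H)
    (hS : ∀ e ∈ E, ∀ t ∈ TE, e * t * e⁻¹ ∈ S) : E ≤ S := by
  have h1 : Subgroup.normalClosure ((T' : Subgroup ↥E) : Set ↥E) ≤ S.subgroupOf E := by
    show Subgroup.closure _ ≤ _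
    rw [Subgroup.closure_le]
    intro a ha
    obtain ⟨a₀, ha₀, hconj⟩ := Group.mem_conjugatesOfSet_iff.mp ha
    obtain ⟨c, hc⟩ := isConj_iff.mp hconj
    have h0 : (a₀ : H) ∈ TE := by rw [← hT']; exact ⟨a₀, ha₀, rfl⟩
    have hmem : ((c * a₀ * c⁻¹ : ↥E) : H) ∈ S := hS c c.2 a₀ h0
    rw [hc] at hmem
    exact Subgroup.mem_subgroupOf.mpr hmem
  rw [hgen] at h1
  intro e he
  have : (⟨e, he⟩ : E) ∈ S.subgroupOf E := h1 (Subgroup.mem_top _)
  exact Subgroup.mem_subgroupOf.mp this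

theorem kp_common {H : Type*} [Group H] [Finite H] {p : ℕ} [Fact p.Prime]
    (𝒦 : Set (Subgroup H))
    (hinv : ∀ h : H, ∀ E ∈ 𝒦, E.map (MulAut.conj h).toMonoidHom ∈ 𝒦)
    (htr : ∀ E ∈ 𝒦, ∀ K ∈ 𝒦, ∃ h : H, K = E.map (MulAut.conj h).toMonoidHom)
    (hres : Cfsg.pResidual p H ≤ sSup 𝒦)
    (hnorm : ∀ E ∈ 𝒦, sSup 𝒦 ⊔ Cfsg.pCore p H ≤
      Subgroup.normalizer ((E ⊔ Cfsg.pCore p H : Subgroup H) : Set H))
    (T : Sylow p H) :
    (∀ h : H, h ∈ normalizer ((sSup 𝒦 : Subgroup H) : Set H)) ∧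
    (∀ g : H, ∃ r ∈ sSup 𝒦, ∃ t ∈ (T : Subgroup H), g = r * t) ∧
    (∀ E ∈ 𝒦, ∀ K ∈ 𝒦, ∃ t ∈ (T : Subgroup H),
      K ⊔ Cfsg.pCore p H = cj t (E ⊔ Cfsg.pCore p H)) ∧
    (∀ E ∈ 𝒦, ∃ T' : Sylow p ↥E, (T' : Subgroup ↥E).map E.subtype = (T : Subgroup H) ⊓ E) ∧
    (∀ E ∈ 𝒦, ∀ D : Subgroup H, IsPGroup p ↥D → D ≤ E ⊔ Cfsg.pCore p H →
      E ⊔ Cfsg.pCore p H ≤ normalizer (D : Set H) → D ≤ Cfsg.pCore p H) := by
  obtain ⟨R, hR⟩ : ∃ R : Subgroup H, R = sSup 𝒦 := ⟨_, rfl⟩
  obtain ⟨O, hO⟩ : ∃ O : Subgroup H, O = Cfsg.pCore p H := ⟨_, rfl⟩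
  haveI hOn : O.Normal := by rw [hO]; infer_instance
  rw [← hR] at hres hnorm ⊢
  rw [← hO] at hnorm ⊢
  have hOnorm : ∀ x : H, x ∈ normalizer (O : Set H) := fun x => by
    rw [Subgroup.normalizer_eq_top_iff.mpr hOn]; exact Subgroup.mem_top x
  have hOT : O ≤ (T : Subgroup H) := by rw [hO]; exact pCore_le_sylow T
  have hOp : IsPGroup p ↥O := by rw [hO]; exact pCore_isPGroup p H
  have hRn : ∀ h : H, h ∈ normalizer (R : Set H) := by
    intro h
    apply mem_normalizer_of_cj_le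
    rw [cj_le_iff, hR]
    apply sSup_le
    intro E hE
    rw [le_cj_iff, inv_inv]
    exact le_sSup (hinv h E hE)
  have htop : R ⊔ (T : Subgroup H) = ⊤ := by
    rw [eq_top_iff, ← pResidual_sup_sylow T]
    exact sup_le_sup_right hres _
  have hdec : ∀ g : H, ∃ r ∈ R, ∃ t ∈ (T : Subgroup H), g = r * t := by
    intro g
    exact mem_sup_of_le_normalizer (fun t _ => hRn t) (by rw [htop]; exact Subgroup.mem_top g)
  have hXn : ∀ E ∈ 𝒦, ∀ r ∈ R, cj r (E ⊔ O) = E ⊔ O := fun E hE r hr =>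
    cj_eq_self_of_mem_normalizer (hnorm E hE (Subgroup.mem_sup_left hr))
  have hc5 : ∀ E ∈ 𝒦, ∀ K ∈ 𝒦, ∃ t ∈ (T : Subgroup H), K ⊔ O = cj t (E ⊔ O) := by
    intro E hE K hK
    obtain ⟨h, hKe⟩ := htr E hE K hK
    obtain ⟨r, hr, t, ht, hrt⟩ := hdec h⁻¹
    refine ⟨t⁻¹, inv_mem ht, ?_⟩
    have e1 : K ⊔ O = cj h (E ⊔ O) := by rw [cj_sup, cj_eq_of_normal h O, hKe]
    have hh : h = t⁻¹ * r⁻¹ := by rw [← mul_inv_rev, ← hrt, inv_inv]
    rw [e1, hh, cj_mul, hXn E hE r⁻¹ (inv_mem hr)]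
  have hS' : ∀ E ∈ 𝒦, ∀ P : Subgroup H, IsPGroup p ↥P → P ≤ E ⊔ O →
      ∃ r ∈ R, P ≤ cj r ((T : Subgroup H) ⊓ (E ⊔ O)) := by
    intro E hE P hP hPX
    obtain ⟨g, hg⟩ := exists_le_cj_sylow hP T
    obtain ⟨r, hr, t, ht, rfl⟩ := hdec g
    refine ⟨r, hr, ?_⟩
    rw [cj_mul, cj_eq_self_of_mem ht] at hg
    rw [cj_inf, hXn E hE r hr]
    exact le_inf hg hPX
  have hSyl : ∀ E ∈ 𝒦, ∃ T' : Sylow p ↥E,
      (T' : Subgroup ↥E).map E.subtype = (T : Subgroup H) ⊓ E := by
    intro E hE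
    have h1 : IsPGroup p ↥(((T : Subgroup H) ⊓ E).subgroupOf E) :=
      (T.isPGroup'.to_le inf_le_left).comap_subtype
    obtain ⟨T', hT'⟩ := h1.exists_le_sylow
    refine ⟨T', ?_⟩
    have hle : (T : Subgroup H) ⊓ E ≤ (T' : Subgroup ↥E).map E.subtype := by
      intro x hx
      exact ⟨⟨x, hx.2⟩, hT' (Subgroup.mem_subgroupOf.mpr hx), rfl⟩
    apply le_antisymm _ hle
    have hT''E : (T' : Subgroup ↥E).map E.subtype ≤ E := Subgroup.map_subtype_le _
    have hDp : IsPGroup p ↥((T' : Subgroup ↥E).map E.subtype ⊔ O : Subgroup H) :=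
      IsPGroup.to_sup_of_normal_right' (T'.isPGroup'.map _) hOp (fun x _ => hOnorm x)
    obtain ⟨r, hr, hD⟩ := hS' E hE _ hDp (sup_le (hT''E.trans le_sup_left) le_sup_right)
    have hTX : (T : Subgroup H) ⊓ (E ⊔ O) ≤ (T' : Subgroup ↥E).map E.subtype ⊔ O := by
      have := kp_ded (A := O) (B := E) (K := (T : Subgroup H) ⊓ (E ⊔ O))
        (fun x _ => hOnorm x) (le_inf hOT le_sup_right) (by rw [sup_comm]; exact inf_le_right)
      refine this.trans (sup_le le_sup_right (le_trans ?_ (hle.trans le_sup_left)))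
      exact le_inf (inf_le_left.trans inf_le_left) inf_le_right
    have hcard : Nat.card ↥((T' : Subgroup ↥E).map E.subtype ⊔ O : Subgroup H) ≤
        Nat.card ↥((T : Subgroup H) ⊓ (E ⊔ O) : Subgroup H) := by
      rw [← card_cj r ((T : Subgroup H) ⊓ (E ⊔ O))]
      exact Subgroup.card_le_of_le hD
    have heq : (T : Subgroup H) ⊓ (E ⊔ O) = (T' : Subgroup ↥E).map E.subtype ⊔ O :=
      Subgroup.eq_of_le_of_card_ge hTX hcard
    exact le_inf ((le_sup_left.trans heq.ge).trans inf_le_left) hT''E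
  have hPC : ∀ E ∈ 𝒦, ∀ D : Subgroup H, IsPGroup p ↥D → D ≤ E ⊔ O →
      E ⊔ O ≤ normalizer (D : Set H) → D ≤ O := by
    intro E hE D hDp hDX hXD
    have h1 : D ≤ Cfsg.pCoreOf p (E ⊔ O) := le_pCoreOf' hDX hXD hDp
    have hXRO : E ⊔ O ≤ R ⊔ O := sup_le_sup_right (by rw [hR]; exact le_sSup hE) _
    have h2 : Cfsg.pCoreOf p (E ⊔ O) ≤ Cfsg.pCoreOf p (R ⊔ O) :=
      fh_pCoreOf_le hXRO (hnorm E hE)
    have h3 : Cfsg.pCoreOf p (R ⊔ O) ≤ O := by
      have hn : (Cfsg.pCoreOf p (R ⊔ O)).Normal := by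
        rw [← Subgroup.normalizer_eq_top_iff, eq_top_iff]
        intro x _
        exact normalizer_le_normalizer_pCoreOf p (R ⊔ O)
          (le_normalizer_sup (C := ⊤) (fun y _ => hRn y) (fun y _ => hOnorm y)
            (Subgroup.mem_top x))
      have h4 := le_pCore hn (pCoreOf_isPGroup' p (R ⊔ O))
      rw [← hO] at h4
      exact h4
    exact h1.trans (h2.trans h3)
  exact ⟨hRn, hdec, hc5, hSyl, hPC⟩

theorem kp_partA {H : Type*} [Group H] [Finite H] {p : ℕ} [Fact p.Prime]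
    (𝒦 : Set (Subgroup H)) (hne : 𝒦.Nonempty)
    (hinv : ∀ h : H, ∀ E ∈ 𝒦, E.map (MulAut.conj h).toMonoidHom ∈ 𝒦)
    (htr : ∀ E ∈ 𝒦, ∀ K ∈ 𝒦, ∃ h : H, K = E.map (MulAut.conj h).toMonoidHom)
    (hres : Cfsg.pResidual p H ≤ sSup 𝒦)
    (hnorm : ∀ E ∈ 𝒦, sSup 𝒦 ⊔ Cfsg.pCore p H ≤
      Subgroup.normalizer ((E ⊔ Cfsg.pCore p H : Subgroup H) : Set H))
    (hmin : ∀ E ∈ 𝒦, ∀ T : Sylow p ↥E, Cfsg.IsMinimalOver (T : Subgroup ↥E))
    (T : Sylow p H) : Cfsg.IsMinimalOver (T : Subgroup H) := by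
  obtain ⟨hRn, hdec, hc5, hSyl, hPC⟩ := kp_common 𝒦 hinv htr hres hnorm T
  obtain ⟨R, hR⟩ : ∃ R : Subgroup H, R = sSup 𝒦 := ⟨_, rfl⟩
  obtain ⟨O, hO⟩ : ∃ O : Subgroup H, O = Cfsg.pCore p H := ⟨_, rfl⟩
  haveI hOn : O.Normal := by rw [hO]; infer_instance
  rw [← hR] at hRn hdec hnorm
  rw [← hO] at hc5 hPC hnorm
  have hOnorm : ∀ x : H, x ∈ normalizer (O : Set H) := fun x => by
    rw [Subgroup.normalizer_eq_top_iff.mpr hOn]; exact Subgroup.mem_top x
  have hOT : O ≤ (T : Subgroup H) := by rw [hO]; exact pCore_le_sylow T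
  have hG : ∀ E ∈ 𝒦, ∀ S : Subgroup H,
      (∀ e ∈ E, ∀ t ∈ (T : Subgroup H) ⊓ E, e * t * e⁻¹ ∈ S) → E ≤ S := by
    intro E hE S hS
    obtain ⟨T', hT'⟩ := hSyl E hE
    exact kp_gen T' hT' (hmin E hE T').1 S hS
  refine ⟨?_, ?_⟩
  · rw [eq_top_iff]
    have hN : ∀ E ∈ 𝒦, E ≤ Subgroup.normalClosure ((T : Subgroup H) : Set H) := by
      intro E hE
      apply hG E hE
      intro e _ t ht
      exact Subgroup.normalClosure_normal.conj_mem _ (Subgroup.le_normalClosure ht.1) e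
    intro g _
    obtain ⟨r, hr, t, ht, rfl⟩ := hdec g
    refine mul_mem ?_ (Subgroup.le_normalClosure ht)
    have : R ≤ Subgroup.normalClosure ((T : Subgroup H) : Set H) := by
      rw [hR]; exact sSup_le hN
    exact this hr
  · obtain ⟨g, hg⟩ : ∃ g : Subgroup H → Subgroup H, ∀ X : Subgroup H,
        g X = sSup {Y : Subgroup H | (T : Subgroup H) ⊓ X ≤ Y ∧ Y ≤ X ∧ Y ≠ X} :=
      ⟨_, fun X => rfl⟩
    have hg_le : ∀ X Y : Subgroup H, (T : Subgroup H) ⊓ X ≤ Y → Y ≤ X → Y ≠ X → Y ≤ g X := by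
      intro X Y h1 h2 h3
      rw [hg X]; exact le_sSup ⟨h1, h2, h3⟩
    have hF1 : ∀ E ∈ 𝒦, g (E ⊔ O) ≤ E ⊔ O ∧ g (E ⊔ O) ≠ E ⊔ O ∧
        (T : Subgroup H) ⊓ (E ⊔ O) ≤ g (E ⊔ O) := by
      intro E hE
      obtain ⟨T', hT'⟩ := hSyl E hE
      obtain ⟨-, M', ⟨hM'co, hT'M'⟩, huniq⟩ := hmin E hE T'
      obtain ⟨M₁, hM₁⟩ : ∃ M₁ : Subgroup H, M₁ = O ⊔ M'.map E.subtype := ⟨_, rfl⟩
      have hmapM : M'.map E.subtype ≤ E := Subgroup.map_subtype_le _
      have hTE : (T : Subgroup H) ⊓ E ≤ M'.map E.subtype := by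
        rw [← hT']; exact Subgroup.map_mono hT'M'
      have hOE : E ≤ normalizer (O : Set H) := fun x _ => hOnorm x
      have hM₁X : M₁ ≤ E ⊔ O := by
        rw [hM₁]; exact sup_le le_sup_right (hmapM.trans le_sup_left)
      have hM₁ne : M₁ ≠ E ⊔ O := by
        intro h
        apply hM'co.1
        rw [eq_top_iff]
        intro x _
        have hx : (x : H) ∈ O ⊔ M'.map E.subtype := by
          rw [← hM₁, h]; exact Subgroup.mem_sup_left x.2
        obtain ⟨o, ho, m, hm, hxe⟩ := mem_sup_of_le_normalizer (hmapM.trans hOE) hx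
        have hoE : o ∈ E := by
          have : o = (x : H) * m⁻¹ := by rw [hxe]; group
          rw [this]; exact mul_mem x.2 (inv_mem (hmapM hm))
        have hoM : o ∈ M'.map E.subtype := hTE ⟨hOT ho, hoE⟩
        have hxM : (x : H) ∈ M'.map E.subtype := by rw [hxe]; exact mul_mem hoM hm
        obtain ⟨y, hy, hyx⟩ := hxM
        have : y = x := Subtype.ext hyx
        rw [← this]; exact hy
      have hbound : ∀ Y : Subgroup H, (T : Subgroup H) ⊓ (E ⊔ O) ≤ Y → Y ≤ E ⊔ O →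
          Y ≠ E ⊔ O → Y ≤ M₁ := by
        intro Y hTY hYX hYne
        have hOY : O ≤ Y := (le_inf hOT le_sup_right).trans hTY
        have hT'Y : (T' : Subgroup ↥E) ≤ Y.subgroupOf E := by
          intro t ht
          rw [Subgroup.mem_subgroupOf]
          have : (t : H) ∈ (T : Subgroup H) ⊓ E := by rw [← hT']; exact ⟨t, ht, rfl⟩
          exact hTY ⟨this.1, Subgroup.mem_sup_left this.2⟩
        have hYtop : Y.subgroupOf E ≠ ⊤ := by
          intro h
          apply hYne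
          exact le_antisymm hYX (sup_le (Subgroup.subgroupOf_eq_top.mp h) hOY)
        rcases eq_top_or_exists_le_coatom (Y.subgroupOf E) with h | ⟨M'', hM''co, hYM''⟩
        · exact absurd h hYtop
        · have hM''eq : M'' = M' := huniq M'' ⟨hM''co, hT'Y.trans hYM''⟩
          rw [hM''eq] at hYM''
          have hYE : Y ⊓ E ≤ M'.map E.subtype := by
            intro y hy
            exact ⟨⟨y, hy.2⟩, hYM'' (Subgroup.mem_subgroupOf.mpr hy.1), rfl⟩
          have := kp_ded (A := O) (B := E) (K := Y) hOE hOY (by rw [sup_comm]; exact hYX)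
          rw [hM₁]
          exact this.trans (sup_le_sup_left hYE _)
      have hgM : g (E ⊔ O) ≤ M₁ := by
        rw [hg]; exact sSup_le (fun Y hY => hbound Y hY.1 hY.2.1 hY.2.2)
      have hTM₁ : (T : Subgroup H) ⊓ (E ⊔ O) ≤ M₁ := by
        have := kp_ded (A := O) (B := E) (K := (T : Subgroup H) ⊓ (E ⊔ O)) hOE
          (le_inf hOT le_sup_right) (by rw [sup_comm]; exact inf_le_right)
        rw [hM₁]
        refine this.trans (sup_le_sup_left (le_trans ?_ hTE) _)
        exact le_inf (inf_le_left.trans inf_le_left) inf_le_right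
      have hTne : (T : Subgroup H) ⊓ (E ⊔ O) ≠ E ⊔ O := by
        intro h
        exact hM₁ne (le_antisymm hM₁X (le_of_eq_of_le h.symm hTM₁))
      refine ⟨hgM.trans hM₁X, ?_, hg_le _ _ le_rfl inf_le_right hTne⟩
      intro h
      exact hM₁ne (le_antisymm hM₁X (le_of_eq_of_le h.symm hgM))
    have hF2 : ∀ E ∈ 𝒦, ¬ E ⊔ O ≤ normalizer ((g (E ⊔ O) : Subgroup H) : Set H) := by
      intro E hE hn
      obtain ⟨h1, h2, h3⟩ := hF1 E hE
      apply h2
      apply le_antisymm h1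
      refine sup_le ?_ ((le_inf hOT le_sup_right).trans h3)
      apply hG E hE
      intro e he t ht
      have htg : t ∈ g (E ⊔ O) := h3 ⟨ht.1, Subgroup.mem_sup_left ht.2⟩
      exact (Subgroup.mem_normalizer_iff.mp (hn (Subgroup.mem_sup_left he)) t).mp htg
    have hF3le : ∀ t ∈ (T : Subgroup H), ∀ X : Subgroup H, cj t (g X) ≤ g (cj t X) := by
      intro t ht X
      rw [cj_le_iff, hg X]
      apply sSup_le
      rintro Y ⟨hY1, hY2, hY3⟩
      rw [le_cj_iff, inv_inv]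
      apply hg_le
      · have : (T : Subgroup H) ⊓ cj t X = cj t ((T : Subgroup H) ⊓ X) := by
          rw [cj_inf, cj_eq_self_of_mem ht]
        rw [this]; exact cj_mono hY1
      · exact cj_mono hY2
      · intro h
        apply hY3
        have := congrArg (cj t⁻¹) h
        rwa [cj_inv_cj, cj_inv_cj] at this
    have hF3 : ∀ t ∈ (T : Subgroup H), ∀ X : Subgroup H, cj t (g X) = g (cj t X) := by
      intro t ht X
      apply le_antisymm (hF3le t ht X)
      have := hF3le t⁻¹ (inv_mem ht) (cj t X)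
      rw [cj_inv_cj, cj_le_iff, inv_inv] at this
      exact this
    have hF4 : ∀ L : Subgroup H, (T : Subgroup H) ≤ L → L ≠ ⊤ → ∀ E ∈ 𝒦, ∀ r ∈ R, r ∈ L →
        cj r (g (E ⊔ O)) = g (E ⊔ O) := by
      intro L hTL hL E hE r hr hrL
      obtain ⟨h1, h2, h3⟩ := hF1 E hE
      have hXr : cj r (E ⊔ O) = E ⊔ O :=
        cj_eq_self_of_mem_normalizer (hnorm E hE (Subgroup.mem_sup_left hr))
      have hLX : L ⊓ (E ⊔ O) ≠ E ⊔ O := by
        intro h
        have hXL : E ⊔ O ≤ L := le_of_eq_of_le h.symm inf_le_left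
        apply hL
        rw [eq_top_iff]
        have hRL : R ≤ L := by
          rw [hR]
          apply sSup_le
          intro K hK
          obtain ⟨t, ht, hKt⟩ := hc5 E hE K hK
          have : cj t (E ⊔ O) ≤ L := cj_le_of_le_of_mem hXL (hTL ht)
          exact le_sup_left.trans (hKt.le.trans this)
        intro g' _
        obtain ⟨r', hr', t', ht', rfl⟩ := hdec g'
        exact mul_mem (hRL hr') (hTL ht')
      have hLg : L ⊓ (E ⊔ O) ≤ g (E ⊔ O) :=
        hg_le _ _ (le_inf (inf_le_left.trans hTL) inf_le_right) inf_le_right hLX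
      have h4 : cj r⁻¹ (g (E ⊔ O)) ≤ g (E ⊔ O) := by
        apply hg_le
        · rw [le_cj_iff, inv_inv]
          refine le_trans ?_ hLg
          rw [cj_inf, hXr]
          exact le_inf (inf_le_left.trans (cj_le_of_le_of_mem hTL hrL)) inf_le_right
        · have := cj_mono (g := r⁻¹) h1
          rwa [cj_eq_self_of_mem_normalizer
            (hnorm E hE (Subgroup.mem_sup_left (inv_mem hr)))] at this
        · intro h
          apply h2
          have := congrArg (cj r) h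
          rwa [cj_cj_inv, hXr] at this
      have h5 : r⁻¹ ∈ normalizer ((g (E ⊔ O) : Subgroup H) : Set H) :=
        mem_normalizer_of_cj_le h4
      exact cj_eq_self_of_mem_normalizer (inv_mem_iff.mp h5)
    let Ms : Subgroup H :=
      { carrier := {h | ∀ E ∈ 𝒦, cj h (g (E ⊔ O)) = g (cj h (E ⊔ O))}
        one_mem' := by intro E _; rw [cj_one, cj_one]
        mul_mem' := by
          intro a b ha hb E hE
          have e1 : cj b (E ⊔ O) = cj b E ⊔ O := by rw [cj_sup, cj_eq_of_normal b O]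
          rw [cj_mul, cj_mul, hb E hE, e1]
          exact ha _ (hinv b E hE)
        inv_mem' := by
          intro a ha E hE
          have e1 : cj a⁻¹ (E ⊔ O) = cj a⁻¹ E ⊔ O := by rw [cj_sup, cj_eq_of_normal a⁻¹ O]
          have h1 := ha _ (hinv a⁻¹ E hE)
          rw [← e1, cj_cj_inv] at h1
          rw [← h1, cj_inv_cj] }
    have hTMs : (T : Subgroup H) ≤ Ms := fun t ht E _ => hF3 t ht _
    have hMs_ne : Ms ≠ ⊤ := by
      intro h
      obtain ⟨E, hE⟩ := hne
      apply hF2 E hE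
      intro x hx
      have hx' : x ∈ Ms := by rw [h]; exact Subgroup.mem_top x
      have h6 : cj x (g (E ⊔ O)) = g (cj x (E ⊔ O)) := hx' E hE
      rw [cj_eq_self_of_mem hx] at h6
      exact mem_normalizer_of_cj_eq_self h6
    have hLMs : ∀ L : Subgroup H, (T : Subgroup H) ≤ L → L ≠ ⊤ → L ≤ Ms := by
      intro L hTL hL x hx
      obtain ⟨r, hr, t, ht, rfl⟩ := hdec x
      have hrL : r ∈ L := by
        have : r = (r * t) * t⁻¹ := by group
        rw [this]; exact mul_mem hx (inv_mem (hTL ht))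
      have hrMs : r ∈ Ms := by
        intro E hE
        show cj r (g (E ⊔ O)) = g (cj r (E ⊔ O))
        rw [hF4 L hTL hL E hE r hr hrL,
          cj_eq_self_of_mem_normalizer (hnorm E hE (Subgroup.mem_sup_left hr))]
      exact mul_mem hrMs (hTMs ht)
    rcases eq_top_or_exists_le_coatom Ms with h | ⟨M₀, hM₀, hMsM₀⟩
    · exact absurd h hMs_ne
    · refine ⟨M₀, ⟨hM₀, hTMs.trans hMsM₀⟩, ?_⟩
      rintro M' ⟨hM', hTM'⟩
      have h1 : M' ≤ M₀ := (hLMs M' hTM' hM'.1).trans hMsM₀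
      rcases eq_or_lt_of_le h1 with h | h
      · exact h
      · exact absurd (hM'.2 M₀ h) hM₀.1

theorem kp_partB {H : Type*} [Group H] [Finite H] {p : ℕ} [Fact p.Prime]
    (𝒦 : Set (Subgroup H)) (hne : 𝒦.Nonempty)
    (hinv : ∀ h : H, ∀ E ∈ 𝒦, E.map (MulAut.conj h).toMonoidHom ∈ 𝒦)
    (htr : ∀ E ∈ 𝒦, ∀ K ∈ 𝒦, ∃ h : H, K = E.map (MulAut.conj h).toMonoidHom)
    (hres : Cfsg.pResidual p H ≤ sSup 𝒦)
    (hnorm : ∀ E ∈ 𝒦, sSup 𝒦 ⊔ Cfsg.pCore p H ≤
      Subgroup.normalizer ((E ⊔ Cfsg.pCore p H : Subgroup H) : Set H))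
    (hsi : ∀ E ∈ 𝒦, Cfsg.IsStronglyPIrreducible p ↥E) :
    Cfsg.IsPIrreducible p H ∧ ∀ E ∈ 𝒦, ∀ K ∈ 𝒦,
      (Cfsg.pResidual p ↥(E ⊔ Cfsg.pCore p H)).map (E ⊔ Cfsg.pCore p H).subtype =
        (Cfsg.pResidual p ↥(K ⊔ Cfsg.pCore p H)).map (K ⊔ Cfsg.pCore p H).subtype ∨
      ⁅E, K⁆ ≤ Cfsg.pCore p H := by
  obtain ⟨T⟩ : Nonempty (Sylow p H) := inferInstance
  obtain ⟨hRn, hdec, hc5, hSyl, hPC⟩ := kp_common 𝒦 hinv htr hres hnorm T
  obtain ⟨R, hR⟩ : ∃ R : Subgroup H, R = sSup 𝒦 := ⟨_, rfl⟩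
  obtain ⟨O, hO⟩ : ∃ O : Subgroup H, O = Cfsg.pCore p H := ⟨_, rfl⟩
  haveI hOn : O.Normal := by rw [hO]; infer_instance
  rw [← hR] at hRn hdec hnorm
  rw [← hO] at hc5 hPC hnorm ⊢
  have hOnorm : ∀ x : H, x ∈ normalizer (O : Set H) := fun x => by
    rw [Subgroup.normalizer_eq_top_iff.mpr hOn]; exact Subgroup.mem_top x
  have hOT : O ≤ (T : Subgroup H) := by rw [hO]; exact pCore_le_sylow T
  have hOp : IsPGroup p ↥O := by rw [hO]; exact pCore_isPGroup p H
  have hER : ∀ E ∈ 𝒦, E ≤ R := fun E hE => by rw [hR]; exact le_sSup hE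
  -- each `E` is generated by the conjugates of a Sylow subgroup
  have hgen : ∀ E ∈ 𝒦, ∀ T' : Sylow p ↥E,
      Subgroup.normalClosure ((T' : Subgroup ↥E) : Set ↥E) = ⊤ := by
    intro E hE T'
    obtain ⟨hnc, hirr⟩ := hsi E hE
    by_contra hne'
    have hNn : (Subgroup.normalClosure ((T' : Subgroup ↥E) : Set ↥E)).Normal :=
      Subgroup.normalClosure_normal
    have h1 : ⁅Subgroup.normalClosure ((T' : Subgroup ↥E) : Set ↥E), (⊤ : Subgroup ↥E)⁆ ≤
        Cfsg.pCore p ↥E := by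
      by_contra h
      apply hne'
      have h2 := hirr _ hNn h
      rw [eq_top_iff, ← pResidual_sup_sylow T']
      exact sup_le h2 Subgroup.le_normalClosure
    apply hnc
    apply isPClosed_of_normal_sylow T'
    constructor
    intro t ht e
    have hc : ⁅t, e⁆ ∈ Cfsg.pCore p ↥E :=
      h1 (Subgroup.commutator_mem_commutator (Subgroup.le_normalClosure ht)
        (Subgroup.mem_top e))
    have e1 : e * t * e⁻¹ = (⁅t, e⁆)⁻¹ * t := by rw [commutatorElement_def]; group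
    rw [e1]
    exact mul_mem (inv_mem (pCore_le_sylow T' hc)) ht
  have hG : ∀ E ∈ 𝒦, ∀ S : Subgroup H,
      (∀ e ∈ E, ∀ t ∈ (T : Subgroup H) ⊓ E, e * t * e⁻¹ ∈ S) → E ≤ S := by
    intro E hE S hS
    obtain ⟨T', hT'⟩ := hSyl E hE
    exact kp_gen T' hT' (hgen E hE T') S hS
  have hKT : ∀ E ∈ 𝒦, E ≤ (Cfsg.pResidual p ↥E).map E.subtype ⊔ ((T : Subgroup H) ⊓ E) := by
    intro E hE
    obtain ⟨T', hT'⟩ := hSyl E hE
    have h := pResidual_sup_sylow T'
    have h2 := congrArg (Subgroup.map E.subtype) h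
    rw [Subgroup.map_sup, hT', ← MonoidHom.range_eq_map, Subgroup.range_subtype] at h2
    exact h2.ge
  have hb1 : ¬ Cfsg.IsPClosed p H := by
    intro hcl
    obtain ⟨E, hE⟩ := hne
    apply (hsi E hE).1
    rw [isPClosed_subgroup_iff]
    obtain ⟨S, hS, hall⟩ := isPClosed_iff.mp hcl
    exact ⟨S, hS, fun x _ hx => hall x hx⟩
  have hOpE : ∀ E ∈ 𝒦, Cfsg.pCoreOf p E ≤ O := by
    intro E hE
    have hD : IsPGroup p ↥(Cfsg.pCoreOf p E ⊔ O : Subgroup H) :=
      IsPGroup.to_sup_of_normal_right' (pCoreOf_isPGroup' p E) hOp (fun x _ => hOnorm x)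
    have hn : E ⊔ O ≤ normalizer ((Cfsg.pCoreOf p E ⊔ O : Subgroup H) : Set H) :=
      sup_le (le_normalizer_sup (le_normalizer_pCoreOf p E) (fun x _ => hOnorm x))
        (le_sup_right.trans Subgroup.le_normalizer)
    exact le_sup_left.trans
      (hPC E hE _ hD (sup_le ((pCoreOf_le' p E).trans le_sup_left) le_sup_right) hn)
  have hZ : ∀ E ∈ 𝒦, ∀ c ∈ E ⊔ O, (∀ y ∈ E ⊔ O, ⁅c, y⁆ ∈ O) → (∃ k : ℕ, c ^ p ^ k ∈ O) →
      c ∈ O := by
    rintro E hE c hc hcen ⟨k, hk⟩
    obtain ⟨j, hj⟩ := exists_pow_of_isPGroup hOp hk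
    have hcp : IsPGroup p ↥(Subgroup.zpowers c) :=
      isPGroup_zpowers_of_pow ⟨k + j, by rw [pow_add, pow_mul]; exact hj⟩
    have hD : IsPGroup p ↥(Subgroup.zpowers c ⊔ O : Subgroup H) :=
      IsPGroup.to_sup_of_normal_right' hcp hOp (fun x _ => hOnorm x)
    have hDX : Subgroup.zpowers c ⊔ O ≤ E ⊔ O :=
      sup_le (Subgroup.zpowers_le.mpr hc) le_sup_right
    have hn : E ⊔ O ≤ normalizer ((Subgroup.zpowers c ⊔ O : Subgroup H) : Set H) := by
      intro y hy
      apply mem_normalizer_of_cj_le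
      rw [cj_sup, cj_eq_of_normal y O]
      refine sup_le ?_ le_sup_right
      rw [Subgroup.map_le_iff_le_comap, Subgroup.zpowers_le, Subgroup.mem_comap]
      show (MulAut.conj y) c ∈ _
      rw [MulAut.conj_apply]
      have e1 : y * c * y⁻¹ = (⁅c, y⁆)⁻¹ * c := by rw [commutatorElement_def]; group
      rw [e1]
      exact mul_mem (Subgroup.mem_sup_right (inv_mem (hcen y hy)))
        (Subgroup.mem_sup_left (Subgroup.mem_zpowers c))
    exact hPC E hE _ hD hDX hn (Subgroup.mem_sup_left (Subgroup.mem_zpowers c))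
  have hCT : ∀ E ∈ 𝒦, ∀ x t : H, t ∈ E ⊔ O → (∃ k : ℕ, t ^ p ^ k = 1) → ⁅x, t⁆ ∈ E ⊔ O →
      (∀ y ∈ E ⊔ O, ⁅⁅x, t⁆, y⁆ ∈ O) → ⁅x, t⁆ ∈ O := by
    rintro E hE x t ht ⟨k, hk⟩ hz hcen
    apply hZ E hE _ hz hcen
    refine ⟨k, ?_⟩
    have hc : Commute ((QuotientGroup.mk' O x) * (QuotientGroup.mk' O t) *
        (QuotientGroup.mk' O x)⁻¹ * (QuotientGroup.mk' O t)⁻¹) (QuotientGroup.mk' O t) := by
      have h1 : (QuotientGroup.mk' O) ⁅⁅x, t⁆, t⁆ = 1 :=
        (QuotientGroup.eq_one_iff _).mpr (hcen t ht)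
      rw [map_commutatorElement, commutatorElement_eq_one_iff_mul_comm,
        map_commutatorElement] at h1
      exact h1
    have hk' : (QuotientGroup.mk' O t) ^ p ^ k = 1 := by rw [← map_pow, hk, map_one]
    have h2 := commutator_pow_eq_one hc hk'
    rw [← QuotientGroup.eq_one_iff (N := O)]
    show (QuotientGroup.mk' O) (⁅x, t⁆ ^ p ^ k) = 1
    rw [map_pow, map_commutatorElement]
    exact h2
  have hCM : ∀ E ∈ 𝒦, ∀ B : Subgroup H, ⁅B, E⁆ ≤ O → ∀ z ∈ O ⊔ B, ∀ y ∈ E ⊔ O,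
      ⁅z, y⁆ ∈ O := by
    intro E hE B hB z hz y hy
    have h1 : ⁅O ⊔ B, E ⊔ O⁆ ≤ O := by
      apply wf_comm_sup_le (fun x _ => hOnorm x) (fun x _ => hOnorm x)
        (Subgroup.commutator_le_left O _)
      rw [Subgroup.commutator_comm]
      apply wf_comm_sup_le (fun x _ => hOnorm x) (fun x _ => hOnorm x)
      · rw [Subgroup.commutator_comm]; exact hB
      · exact Subgroup.commutator_le_left O _
    exact h1 (Subgroup.commutator_mem_commutator hz hy)
  have hROn : ∀ x : H, x ∈ normalizer ((R ⊔ O : Subgroup H) : Set H) := fun x =>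
    le_normalizer_sup (C := ⊤) (fun y _ => hRn y) (fun y _ => hOnorm y) (Subgroup.mem_top x)
  have hconjRO : ∀ (g x : H), x ∈ R ⊔ O → g * x * g⁻¹ ∈ R ⊔ O := fun g x hx =>
    (Subgroup.mem_normalizer_iff.mp (hROn g) x).mp hx
  have hEX : ∀ E ∈ 𝒦, ∀ (g x : H), g ∈ R ⊔ O → x ∈ E ⊔ O → g * x * g⁻¹ ∈ E ⊔ O :=
    fun E hE g x hg hx => (Subgroup.mem_normalizer_iff.mp (hnorm E hE hg) x).mp hx
  -- `p`-irreducibility
  have hb2 : ∀ N : Subgroup H, N.Normal → ¬ Cfsg.IsPClosed p ↥N → Cfsg.pResidual p H ≤ N := by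
    intro N hNn hNcl
    have hNnorm : ∀ x : H, x ∈ normalizer (N : Set H) := fun x => by
      rw [Subgroup.normalizer_eq_top_iff.mpr hNn]; exact Subgroup.mem_top x
    by_cases hall : ∀ E ∈ 𝒦, (Cfsg.pResidual p ↥E).map E.subtype ≤ N
    · have hEN : ∀ E ∈ 𝒦, E ≤ N ⊔ (T : Subgroup H) := fun E hE =>
        (hKT E hE).trans (sup_le_sup (hall E hE) inf_le_left)
      have hRN : R ≤ N ⊔ (T : Subgroup H) := by rw [hR]; exact sSup_le hEN
      show Subgroup.closure _ ≤ _
      rw [Subgroup.closure_le]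
      intro x hx
      have hxc : (orderOf x).Coprime p := hx
      obtain ⟨r, hr, t, ht, rfl⟩ := hdec x
      exact fh_coprime_mem T.isPGroup' (fun y _ => hNnorm y)
        (mul_mem (hRN hr) (Subgroup.mem_sup_right ht)) hxc
    · exfalso
      obtain ⟨E₀, hE₀, hE₀N⟩ : ∃ E₀ ∈ 𝒦, ¬ (Cfsg.pResidual p ↥E₀).map E₀.subtype ≤ N := by
        by_contra h
        apply hall
        intro E hE
        by_contra h'
        exact h ⟨E, hE, h'⟩
      apply hNcl
      obtain ⟨Np, hNp⟩ : ∃ Np : Subgroup H, Np = N ⊔ O := ⟨_, rfl⟩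
      have hNpn : ∀ x : H, x ∈ normalizer (Np : Set H) := fun x => by
        rw [hNp]
        exact le_normalizer_sup (C := ⊤) (fun y _ => hNnorm y) (fun y _ => hOnorm y)
          (Subgroup.mem_top x)
      have hONp : O ≤ Np := by rw [hNp]; exact le_sup_right
      have hNNp : N ≤ Np := by rw [hNp]; exact le_sup_left
      have hconjNp : ∀ (g x : H), x ∈ Np → g * x * g⁻¹ ∈ Np := fun g x hx =>
        (Subgroup.mem_normalizer_iff.mp (hNpn g) x).mp hx
      have hKNp : ∀ E ∈ 𝒦, ¬ (Cfsg.pResidual p ↥E).map E.subtype ≤ Np := by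
        intro E hE hle
        apply hE₀N
        obtain ⟨h, hh⟩ := htr E₀ hE₀ E hE
        rw [map_pResidual_eq, Subgroup.closure_le]
        rintro x ⟨hx, hc⟩
        have h1 : h * x * h⁻¹ ∈ (Cfsg.pResidual p ↥E).map E.subtype := by
          apply mem_map_pResidual
          · rw [hh]; exact conj_mem_cj hx
          · rw [orderOf_conj_eq]; exact hc
        have h2 : h * x * h⁻¹ ∈ Np := hle h1
        have h3 : x ∈ Np := by
          have := hconjNp h⁻¹ _ h2
          have e : h⁻¹ * (h * x * h⁻¹) * h⁻¹⁻¹ = x := by group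
          rwa [e] at this
        rw [hNp] at h3
        exact fh_coprime_mem hOp (fun y _ => hNnorm y) h3 hc
      have hs0 : ∀ E ∈ 𝒦, ⁅Np ⊓ E, E⁆ ≤ O := by
        intro E hE
        obtain ⟨-, hirr⟩ := hsi E hE
        have hn' : ((Np ⊓ E).subgroupOf E).Normal :=
          (Subgroup.normal_subgroupOf_iff_le_normalizer inf_le_right).mpr
            (le_normalizer_inf' (fun y _ => hNpn y) Subgroup.le_normalizer)
        have h1 : ⁅(Np ⊓ E).subgroupOf E, (⊤ : Subgroup ↥E)⁆ ≤ Cfsg.pCore p ↥E := by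
          by_contra h
          apply hKNp E hE
          have h2 := Subgroup.map_mono (f := E.subtype) (hirr _ hn' h)
          rw [Subgroup.map_subgroupOf_eq_of_le inf_le_right] at h2
          exact h2.trans inf_le_left
        have h3 := Subgroup.map_mono (f := E.subtype) h1
        rw [Subgroup.map_commutator, Subgroup.map_subgroupOf_eq_of_le inf_le_right,
          ← MonoidHom.range_eq_map, Subgroup.range_subtype] at h3
        exact h3.trans (hOpE E hE)
      obtain ⟨NR, hNR⟩ : ∃ NR : Subgroup H, NR = Np ⊓ (R ⊔ O) := ⟨_, rfl⟩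
      have hNRn : ∀ (g x : H), x ∈ NR → g * x * g⁻¹ ∈ NR := by
        intro g x hx
        rw [hNR] at hx ⊢
        exact ⟨hconjNp g x hx.1, hconjRO g x hx.2⟩
      have hs1 : ∀ E ∈ 𝒦, ∀ x ∈ NR, ∀ t ∈ (T : Subgroup H) ⊓ E, ⁅x, t⁆ ∈ O := by
        intro E hE x hx t ht
        rw [hNR] at hx
        have htX : t ∈ E ⊔ O := Subgroup.mem_sup_left ht.2
        have hzX : ⁅x, t⁆ ∈ E ⊔ O := by
          have e : ⁅x, t⁆ = (x * t * x⁻¹) * t⁻¹ := by rw [commutatorElement_def]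
          rw [e]; exact mul_mem (hEX E hE x t hx.2 htX) (inv_mem htX)
        have hzN : ⁅x, t⁆ ∈ Np := by
          have e : ⁅x, t⁆ = x * (t * x⁻¹ * t⁻¹) := by rw [commutatorElement_def]; group
          rw [e]; exact mul_mem hx.1 (hconjNp t _ (inv_mem hx.1))
        have hzd : ⁅x, t⁆ ∈ O ⊔ (Np ⊓ E) := by
          have := kp_ded (A := O) (B := E) (K := Np ⊓ (E ⊔ O)) (fun y _ => hOnorm y)
            (le_inf hONp le_sup_right) (by rw [sup_comm]; exact inf_le_right)
          have h2 := this ⟨hzN, hzX⟩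
          have h8 : O ⊔ (Np ⊓ (E ⊔ O) ⊓ E) ≤ O ⊔ (Np ⊓ E) :=
            sup_le_sup_left (le_inf (inf_le_left.trans inf_le_left) inf_le_right) O
          exact h8 h2
        exact hCT E hE x t htX (exists_pow_of_isPGroup T.isPGroup' ht.1) hzX
          (fun y hy => hCM E hE _ (hs0 E hE) _ hzd y hy)
      have hNRsub : ∀ x ∈ NR, ∀ y ∈ R ⊔ O, ⁅x, y⁆ ∈ O := by
        have hle : R ⊔ O ≤ kp_centMod (NR : Set H) O := by
          refine sup_le ?_ ?_
          · rw [hR]
            apply sSup_le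
            intro E hE
            apply hG E hE
            intro e he t ht
            apply kp_centMod_conj
            · intro x hx
              have := hNRn e⁻¹ x hx
              rwa [inv_inv] at this
            · intro x hx
              exact hs1 E hE x hx t ht
          · intro o ho x hx
            have e : ⁅x, o⁆ = (x * o * x⁻¹) * o⁻¹ := by rw [commutatorElement_def]
            rw [e]; exact mul_mem (hOn.conj_mem o ho x) (inv_mem ho)
        intro x hx y hy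
        exact hle hy x hx
      have hs3 : (T : Subgroup H) ⊓ NR ≤ O := by
        have hNRnormal : NR.Normal := ⟨fun x hx g => hNRn g x hx⟩
        have hD : IsPGroup p ↥(((T : Subgroup H) ⊓ NR) ⊔ O : Subgroup H) :=
          T.isPGroup'.to_le (sup_le inf_le_left hOT)
        have hONR : O ≤ NR := by rw [hNR]; exact le_inf hONp le_sup_right
        have hn : NR ≤ normalizer ((((T : Subgroup H) ⊓ NR) ⊔ O : Subgroup H) : Set H) := by
          intro n hn
          apply mem_normalizer_of_cj_le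
          rw [cj_sup, cj_eq_of_normal n O]
          refine sup_le ?_ le_sup_right
          intro y hy
          obtain ⟨d, hd, rfl⟩ := mem_cj'.mp hy
          have e : n * d * n⁻¹ = ⁅n, d⁆ * d := by rw [commutatorElement_def]; group
          rw [e]
          have hdRO : d ∈ R ⊔ O := by
            have h7 := hd.2
            rw [hNR] at h7
            exact h7.2
          exact mul_mem (Subgroup.mem_sup_right (hNRsub n hn d hdRO)) (Subgroup.mem_sup_left hd)
        have h1 : ((T : Subgroup H) ⊓ NR) ⊔ O ≤ Cfsg.pCoreOf p NR :=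
          le_pCoreOf' (sup_le inf_le_right hONR) hn hD
        have h2 : Cfsg.pCoreOf p NR ≤ O := by
          have hnn : (Cfsg.pCoreOf p NR).Normal := by
            rw [← Subgroup.normalizer_eq_top_iff, eq_top_iff]
            intro x _
            exact normalizer_le_normalizer_pCoreOf p NR
              (by rw [Subgroup.normalizer_eq_top_iff.mpr hNRnormal]; exact Subgroup.mem_top x)
          have h4 := le_pCore hnn (pCoreOf_isPGroup' p NR)
          rw [← hO] at h4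
          exact h4
        exact le_sup_left.trans (h1.trans h2)
      obtain ⟨P, hP⟩ : ∃ P : Subgroup H, P = (T : Subgroup H) ⊓ Np := ⟨_, rfl⟩
      have hs4 : ∀ x ∈ P, ∀ t ∈ (T : Subgroup H) ⊓ (R ⊔ O), ⁅x, t⁆ ∈ O := by
        intro x hx t ht
        rw [hP] at hx
        apply hs3
        refine ⟨?_, ?_⟩
        · rw [commutatorElement_def]
          have hxT : x ∈ (T : Subgroup H) := hx.1
          have htT : t ∈ (T : Subgroup H) := ht.1
          exact (T : Subgroup H).mul_mem ((T : Subgroup H).mul_mem ((T : Subgroup H).mul_mem hxT htT)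
            ((T : Subgroup H).inv_mem hxT)) ((T : Subgroup H).inv_mem htT)
        · rw [hNR]
          refine ⟨?_, ?_⟩
          · have e : ⁅x, t⁆ = x * (t * x⁻¹ * t⁻¹) := by rw [commutatorElement_def]; group
            have hxN : x ∈ Np := hx.2
            rw [e]; exact Np.mul_mem hxN (hconjNp t _ (Np.inv_mem hxN))
          · have e : ⁅x, t⁆ = (x * t * x⁻¹) * t⁻¹ := by rw [commutatorElement_def]
            have htRO : t ∈ R ⊔ O := ht.2
            rw [e]; exact (R ⊔ O).mul_mem (hconjRO x t htRO) ((R ⊔ O).inv_mem htRO)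
      have hs5 : ∀ x ∈ P, ∀ r ∈ R, ⁅x, r⁆ ∈ O := by
        intro x hx
        have hxNp : x ∈ Np := by rw [hP] at hx; exact hx.2
        have hle : R ≤ kp_centMod ({x} : Set H) O := by
          rw [hR]
          apply sSup_le
          intro E hE
          apply hG E hE
          intro e he t ht y hy
          rw [Set.mem_singleton_iff] at hy
          rw [hy]
          have heR : e ∈ R ⊔ O := Subgroup.mem_sup_left (hER E hE he)
          have hw : ⁅x⁻¹, e⁻¹⁆ ∈ NR := by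
            rw [hNR]
            refine ⟨?_, ?_⟩
            · have e1 : ⁅x⁻¹, e⁻¹⁆ = x⁻¹ * (e⁻¹ * x * e⁻¹⁻¹) := by
                rw [commutatorElement_def]; group
              rw [e1]
              have hx1 : x⁻¹ ∈ Np := Np.inv_mem hxNp
              exact Np.mul_mem hx1 (hconjNp e⁻¹ x hxNp)
            · have e1 : ⁅x⁻¹, e⁻¹⁆ = (x⁻¹ * e⁻¹ * x⁻¹⁻¹) * e := by
                rw [commutatorElement_def]; group
              rw [e1]
              have he2 : e⁻¹ ∈ R ⊔ O := (R ⊔ O).inv_mem heR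
              exact (R ⊔ O).mul_mem (hconjRO x⁻¹ e⁻¹ he2) heR
          have htRO : t ∈ R ⊔ O := Subgroup.mem_sup_left (hER E hE ht.2)
          have e2 : ⁅x, e * t * e⁻¹⁆ = e * (x * ⁅⁅x⁻¹, e⁻¹⁆, t⁆ * x⁻¹ * ⁅x, t⁆) * e⁻¹ := by
            simp only [commutatorElement_def]; group
          rw [e2]
          apply hOn.conj_mem
          exact mul_mem (hOn.conj_mem _ (hNRsub _ hw t htRO) x) (hs4 x hx t ⟨ht.1, htRO⟩)
        intro r hr
        exact hle hr x rfl
      have hOP : O ≤ P := by rw [hP]; exact le_inf hOT hONp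
      have hPn : P.Normal := by
        rw [← Subgroup.normalizer_eq_top_iff, eq_top_iff]
        intro g _
        obtain ⟨r, hr, t, ht, rfl⟩ := hdec g
        refine mul_mem ?_ ?_
        · apply mem_normalizer_of_cj_le
          intro y hy
          obtain ⟨x, hx, rfl⟩ := mem_cj'.mp hy
          have e : r * x * r⁻¹ = (⁅x, r⁆)⁻¹ * x := by rw [commutatorElement_def]; group
          rw [e]
          exact mul_mem (inv_mem (hOP (hs5 x hx r hr))) hx
        · have hTP : (T : Subgroup H) ≤ normalizer (P : Set H) := by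
            rw [hP]; exact le_normalizer_inf' Subgroup.le_normalizer (fun y _ => hNpn y)
          exact hTP ht
      have hPO : P ≤ O := by
        have h4 := le_pCore hPn (show IsPGroup p ↥P by
          rw [hP]; exact T.isPGroup'.to_le inf_le_left)
        rw [← hO] at h4
        exact h4
      rw [isPClosed_subgroup_iff]
      refine ⟨O, hOp, ?_⟩
      intro x hxN hxp
      obtain ⟨g, hg⟩ := exists_le_cj_sylow (isPGroup_zpowers_of_pow hxp) T
      have hxT : x ∈ cj g (T : Subgroup H) := hg (Subgroup.mem_zpowers x)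
      have h1 : g⁻¹ * x * g ∈ (T : Subgroup H) := mem_cj.mp hxT
      have h2 : g⁻¹ * x * g ∈ Np := by
        have := hconjNp g⁻¹ x (hNNp hxN)
        rwa [inv_inv] at this
      have h3 : g⁻¹ * x * g ∈ O := hPO (by rw [hP]; exact ⟨h1, h2⟩)
      have h4 := hOn.conj_mem _ h3 g
      have e : g * (g⁻¹ * x * g) * g⁻¹ = x := by group
      rwa [e] at h4
  -- the dichotomy
  have hb3 : ∀ E ∈ 𝒦, ∀ K ∈ 𝒦,
      (Cfsg.pResidual p ↥(E ⊔ O)).map (E ⊔ O).subtype =
        (Cfsg.pResidual p ↥(K ⊔ O)).map (K ⊔ O).subtype ∨ ⁅E, K⁆ ≤ O := by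
    intro E hE K hK
    obtain ⟨-, hirr⟩ := hsi E hE
    obtain ⟨I, hI⟩ : ∃ I : Subgroup H, I = (E ⊔ O) ⊓ (K ⊔ O) := ⟨_, rfl⟩
    have hEnX : E ≤ normalizer ((E ⊔ O : Subgroup H) : Set H) :=
      le_sup_left.trans Subgroup.le_normalizer
    have hERO : E ≤ R ⊔ O := (hER E hE).trans le_sup_left
    have hKRO : K ≤ R ⊔ O := (hER K hK).trans le_sup_left
    have hEnK : E ≤ normalizer ((K ⊔ O : Subgroup H) : Set H) := hERO.trans (hnorm K hK)
    have hEnI : E ≤ normalizer (I : Set H) := by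
      rw [hI]; exact le_normalizer_inf' hEnX hEnK
    have hn' : ((I ⊓ E).subgroupOf E).Normal :=
      (Subgroup.normal_subgroupOf_iff_le_normalizer inf_le_right).mpr
        (le_normalizer_inf' hEnI Subgroup.le_normalizer)
    by_cases hcase : ⁅(I ⊓ E).subgroupOf E, (⊤ : Subgroup ↥E)⁆ ≤ Cfsg.pCore p ↥E
    · right
      have h3 := Subgroup.map_mono (f := E.subtype) hcase
      rw [Subgroup.map_commutator, Subgroup.map_subgroupOf_eq_of_le inf_le_right,
        ← MonoidHom.range_eq_map, Subgroup.range_subtype] at h3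
      have hIE : ⁅I ⊓ E, E⁆ ≤ O := h3.trans (hOpE E hE)
      have hOI : O ≤ I := by rw [hI]; exact le_inf le_sup_right le_sup_right
      have hIX : I ≤ E ⊔ O := by rw [hI]; exact inf_le_left
      have h1 : ∀ k ∈ K ⊔ O, ∀ t ∈ (T : Subgroup H) ⊓ E, ⁅k, t⁆ ∈ O := by
        intro k hk t ht
        have htX : t ∈ E ⊔ O := Subgroup.mem_sup_left ht.2
        have hkRO : k ∈ R ⊔ O := (sup_le hKRO le_sup_right) hk
        have hzXE : ⁅k, t⁆ ∈ E ⊔ O := by
          have e : ⁅k, t⁆ = (k * t * k⁻¹) * t⁻¹ := by rw [commutatorElement_def]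
          rw [e]; exact mul_mem (hEX E hE k t hkRO htX) (inv_mem htX)
        have hzXK : ⁅k, t⁆ ∈ K ⊔ O := by
          have e : ⁅k, t⁆ = k * (t * k⁻¹ * t⁻¹) := by rw [commutatorElement_def]; group
          rw [e]
          exact mul_mem hk
            ((Subgroup.mem_normalizer_iff.mp (hEnK ht.2) k⁻¹).mp (inv_mem hk))
        have hzI : ⁅k, t⁆ ∈ I := by rw [hI]; exact ⟨hzXE, hzXK⟩
        have hzd : ⁅k, t⁆ ∈ O ⊔ (I ⊓ E) :=
          kp_ded (A := O) (B := E) (K := I) (fun y _ => hOnorm y) hOI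
            (by rw [sup_comm]; exact hIX) hzI
        exact hCT E hE k t htX (exists_pow_of_isPGroup T.isPGroup' ht.1) hzXE
          (fun y hy => hCM E hE _ hIE _ hzd y hy)
      have hle : E ≤ kp_centMod ((K ⊔ O : Subgroup H) : Set H) O := by
        apply hG E hE
        intro e he t ht
        apply kp_centMod_conj
        · intro x hx
          have := (Subgroup.mem_normalizer_iff.mp (hEnK (inv_mem he)) x).mp hx
          rwa [inv_inv] at this
        · intro x hx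
          exact h1 x hx t ht
      rw [Subgroup.commutator_comm, Subgroup.commutator_le]
      intro k hk e he
      exact hle he k (Subgroup.mem_sup_left hk)
    · left
      have h2 := Subgroup.map_mono (f := E.subtype) (hirr _ hn' hcase)
      rw [Subgroup.map_subgroupOf_eq_of_le inf_le_right] at h2
      have hKEK : (Cfsg.pResidual p ↥E).map E.subtype ≤ K ⊔ O := by
        refine h2.trans (inf_le_left.trans ?_)
        rw [hI]; exact inf_le_right
      have hle : (Cfsg.pResidual p ↥(E ⊔ O)).map (E ⊔ O).subtype ≤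
          (Cfsg.pResidual p ↥(K ⊔ O)).map (K ⊔ O).subtype := by
        rw [map_pResidual_eq p (E ⊔ O), Subgroup.closure_le]
        rintro y ⟨hy, hc⟩
        apply mem_map_pResidual _ hc
        haveI := pResidual_normal' p ↥E
        have hEK' : E ≤ normalizer
            (((Cfsg.pResidual p ↥E).map E.subtype : Subgroup H) : Set H) :=
          Cfsg.Agent.Helper17.le_normalizer_map_subtype _
        have hTn : (T : Subgroup H) ⊓ E ≤ normalizer
            ((((Cfsg.pResidual p ↥E).map E.subtype ⊔ O : Subgroup H)) : Set H) :=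
          inf_le_right.trans (le_normalizer_sup hEK' (fun z _ => hOnorm z))
        have hy' : y ∈ ((Cfsg.pResidual p ↥E).map E.subtype ⊔ O) ⊔ ((T : Subgroup H) ⊓ E) := by
          have h5 : E ⊔ O ≤ ((Cfsg.pResidual p ↥E).map E.subtype ⊔ O) ⊔
              ((T : Subgroup H) ⊓ E) :=
            sup_le ((hKT E hE).trans (sup_le (le_sup_left.trans le_sup_left) le_sup_right))
              (le_sup_right.trans le_sup_left)
          exact h5 hy
        have hy'' := fh_coprime_mem (T.isPGroup'.to_le inf_le_left) hTn hy' hc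
        exact (sup_le hKEK le_sup_right) hy''
      obtain ⟨h, hh⟩ := htr E hE K hK
      have hXK : K ⊔ O = cj h (E ⊔ O) := by rw [cj_sup, cj_eq_of_normal h O, hh]
      have hEQle : ∀ (g : H) (X Y : Subgroup H), Y = cj g X →
          cj g ((Cfsg.pResidual p ↥X).map X.subtype) ≤ (Cfsg.pResidual p ↥Y).map Y.subtype := by
        intro g X Y hY
        subst hY
        rw [map_pResidual_eq p X]
        show Subgroup.map _ (Subgroup.closure _) ≤ _
        rw [Subgroup.map_le_iff_le_comap, Subgroup.closure_le]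
        rintro y ⟨hy, hc⟩
        rw [SetLike.mem_coe, Subgroup.mem_comap]
        show g * y * g⁻¹ ∈ _
        exact mem_map_pResidual (conj_mem_cj hy) (by rw [orderOf_conj_eq]; exact hc)
      have h1 := hEQle h⁻¹ (K ⊔ O) (E ⊔ O) (by rw [hXK, cj_inv_cj])
      have hcard : Nat.card ↥((Cfsg.pResidual p ↥(K ⊔ O)).map (K ⊔ O).subtype) ≤
          Nat.card ↥((Cfsg.pResidual p ↥(E ⊔ O)).map (E ⊔ O).subtype) :=
        (card_cj h⁻¹ _).symm.le.trans (Subgroup.card_le_of_le h1)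
      exact Subgroup.eq_of_le_of_card_ge hle hcard
  exact ⟨⟨hb1, hb2⟩, hb3⟩

/-- S2855. -/
theorem kp_main {H : Type*} [Group H] [Finite H] {p : ℕ} [Fact p.Prime]
    (𝒦 : Set (Subgroup H)) (hne : 𝒦.Nonempty)
    (hinv : ∀ h : H, ∀ E ∈ 𝒦, E.map (MulAut.conj h).toMonoidHom ∈ 𝒦)
    (htr : ∀ E ∈ 𝒦, ∀ K ∈ 𝒦, ∃ h : H, K = E.map (MulAut.conj h).toMonoidHom)
    (hres : Cfsg.pResidual p H ≤ sSup 𝒦)
    (hnorm : ∀ E ∈ 𝒦, sSup 𝒦 ⊔ Cfsg.pCore p H ≤
      Subgroup.normalizer ((E ⊔ Cfsg.pCore p H : Subgroup H) : Set H)) :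
    ((∀ E ∈ 𝒦, ∀ T : Sylow p ↥E, Cfsg.IsMinimalOver (T : Subgroup ↥E)) →
      ∀ T : Sylow p H, Cfsg.IsMinimalOver (T : Subgroup H)) ∧
    ((∀ E ∈ 𝒦, Cfsg.IsStronglyPIrreducible p ↥E) → Cfsg.IsPIrreducible p H ∧
      ∀ E ∈ 𝒦, ∀ K ∈ 𝒦,
        (Cfsg.pResidual p ↥(E ⊔ Cfsg.pCore p H)).map (E ⊔ Cfsg.pCore p H).subtype =
          (Cfsg.pResidual p ↥(K ⊔ Cfsg.pCore p H)).map (K ⊔ Cfsg.pCore p H).subtype ∨
        ⁅E, K⁆ ≤ Cfsg.pCore p H) :=
  ⟨fun hmin T => kp_partA 𝒦 hne hinv htr hres hnorm hmin T,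
    fun hsi => kp_partB 𝒦 hne hinv htr hres hnorm hsi⟩

end Cfsg.Agent.Helper10
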