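import Mathlib
import Cfsg.Agent.Helper10.PQOdd
import Cfsg.Agent.Helper10.PCons
import Cfsg.Agent.Helper10.PLocal
import Cfsg.Agent.Helper13.PSolv
import Cfsg.Agent.S0629

/-!
# Applications of Thompson's `P × Q` lemma for odd primes

`A`-invariant `p'`-subgroups of `p`-constrained groups, for `A` an abelian `p`-subgroup containing
the elements of order `p` of its centralizer.
-/

set_option autoImplicit false
open Cfsg
open scoped commutatorElement Pointwise

namespace Cfsg.Agent.Helper10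

universe u

/-- Core-free form: if `R` is a normal `p`-subgroup containing its centralizer (`p` odd), `A` a
`p`-subgroup containing all elements of order dividing `p` of its centralizer, then an
`A`-invariant `p'`-subgroup is trivial. -/
theorem pprime_subgroup_trivial_of_omega {Y : Type*} [Group Y] [Finite Y] {p : ℕ}
    [hpf : Fact p.Prime] (hp : p ≠ 2) (R : Subgroup Y) [hRn : R.Normal] (hR : IsPGroup p R)
    (hRc : Subgroup.centralizer (R : Set Y) ≤ R) (A : Subgroup Y) (hA : IsPGroup p A)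
    (hΩ : ∀ y ∈ Subgroup.centralizer (A : Set Y), y ^ p = 1 → y ∈ A)
    (Q : Subgroup Y) (hQ : (Nat.card Q).Coprime p)
    (hAQ : A ≤ Subgroup.normalizer (Q : Set Y)) : Q = ⊥ := by
  by_contra hne
  have hRQ : ⁅R, Q⁆ ≠ ⊥ := by
    intro h
    have h1 : Q ≤ R := (Subgroup.le_centralizer_iff.mp
      (Subgroup.commutator_eq_bot_iff_le_centralizer.mp h)).trans hRc
    have h2 : IsPGroup p Q := hR.to_le h1
    obtain ⟨n, hn⟩ := IsPGroup.iff_card.mp h2
    have h3 : Nat.card Q = 1 := by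
      rcases Nat.eq_zero_or_pos n with h0 | h0
      · rw [hn, h0, pow_zero]
      · exfalso
        rw [hn] at hQ
        have := Nat.Coprime.eq_one_of_dvd hQ.symm (dvd_pow_self p h0.ne')
        exact hpf.out.one_lt.ne' this
    exact hne (Subgroup.eq_bot_of_card_eq _ h3)
  obtain ⟨B, hB⟩ : ∃ B : Subgroup Y, B = A ⊔ Q := ⟨_, rfl⟩
  have hAB : A ≤ B := by rw [hB]; exact le_sup_left
  have hQB : Q ≤ B := by rw [hB]; exact le_sup_right
  have hBQ : B ≤ Subgroup.normalizer (Q : Set Y) := by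
    rw [hB]; exact sup_le hAQ Subgroup.le_normalizer
  have hBR : B ≤ Subgroup.normalizer (R : Set Y) := by
    rw [Subgroup.normalizer_eq_top]; exact le_top
  obtain ⟨S, hSR, hSmin⟩ := Finite.exists_le_minimal
    (p := fun U : Subgroup Y => B ≤ Subgroup.normalizer (U : Set Y) ∧ ⁅U, Q⁆ ≠ ⊥) (a := R)
    ⟨hBR, hRQ⟩
  obtain ⟨⟨hBS, hSQ⟩, hSmin'⟩ := hSmin
  have hSp : IsPGroup p S := hR.to_le hSR
  have hmin : ∀ U : Subgroup Y, U < S → B ≤ Subgroup.normalizer (U : Set Y) → ⁅U, Q⁆ = ⊥ := by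
    intro U hU hUB
    by_contra hne'
    exact absurd (hSmin' ⟨hUB, hne'⟩ hU.le) (not_le_of_gt hU)
  obtain ⟨_, _, _, hexp⟩ := hall_higman_reduction B Q S hSp hBS hQB hBQ hQ hSQ hmin
  have hexp' := hexp hp
  have hSQbot : S ⊓ Q = ⊥ := by
    apply Disjoint.eq_bot
    apply Subgroup.disjoint_of_coprime_natCard
    obtain ⟨n, hn⟩ := IsPGroup.iff_card.mp hSp
    rw [hn]
    exact (Nat.Coprime.pow_right n hQ).symm
  have hfin := thompson_pq_odd hp A Q S hA hQ hAQ hSp (hAB.trans hBS) (hQB.trans hBS) (by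
    intro g hg
    obtain ⟨hgS, hgA⟩ := Subgroup.mem_inf.mp hg
    have hgA' : g ∈ A := hΩ g hgA (hexp' g hgS)
    rw [Subgroup.mem_centralizer_iff]
    intro q hq
    have h1 : g * q * g⁻¹ * q⁻¹ ∈ Q :=
      Q.mul_mem ((Subgroup.mem_normalizer_iff.mp (hAQ hgA') q).mp hq) (Q.inv_mem hq)
    have h2 : g * q * g⁻¹ * q⁻¹ ∈ S := by
      have h3 : q * g⁻¹ * q⁻¹ ∈ S :=
        (Subgroup.mem_normalizer_iff.mp (hBS (hQB hq)) g⁻¹).mp (S.inv_mem hgS)
      have e : g * q * g⁻¹ * q⁻¹ = g * (q * g⁻¹ * q⁻¹) := by group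
      rw [e]; exact S.mul_mem hgS h3
    have h4 : g * q * g⁻¹ * q⁻¹ ∈ S ⊓ Q := Subgroup.mem_inf.mpr ⟨h2, h1⟩
    rw [hSQbot, Subgroup.mem_bot] at h4
    calc q * g = (g * q * g⁻¹ * q⁻¹)⁻¹ * (g * q) := by group
      _ = g * q := by rw [h4, inv_one, one_mul])
  exact hSQ (Subgroup.commutator_eq_bot_iff_le_centralizer.mpr
    (Subgroup.le_centralizer_iff.mp hfin))

/-- In a `p`-constrained group (`p` odd), a `p'`-subgroup normalized by a `p`-subgroup `A`
containing every element of order `p` of `C(A)` lies in `O_{p'}`. -/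
theorem le_pPrimeCore_of_omega {X : Type u} [Group X] [Finite X] (p : ℕ) [hpf : Fact p.Prime]
    (hp : p ≠ 2) (hX : IsPConstrained p X) (A : Subgroup X) (hAp : IsPGroup p A)
    (hΩ : ∀ x ∈ Subgroup.centralizer (A : Set X), orderOf x = p → x ∈ A)
    (Q : Subgroup X) (hQ : ¬ p ∣ Nat.card Q) (hAQ : A ≤ Subgroup.normalizer (Q : Set X)) :
    Q ≤ pPrimeCore p X := by
  haveI hRn : (pCore p (X ⧸ pPrimeCore p X)).Normal := Cfsg.Agent.S0010.pCore_normal p
  have hR : IsPGroup p (pCore p (X ⧸ pPrimeCore p X)) := Cfsg.Agent.S0010.pCore_isPGroup p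
  have hRc := centralizer_pCore_le_of_layer_bot p
    ((pLayer_eq_bot_iff p).mp ((pConstrained_iff p).mp hX))
  have hcopN : (Nat.card (pPrimeCore p X)).Coprime p := pPrimeCore_coprime p X
  have hΩ' : ∀ y ∈ Subgroup.centralizer
      ((A.map (QuotientGroup.mk' (pPrimeCore p X)) : Subgroup _) : Set _), y ^ p = 1 →
      y ∈ A.map (QuotientGroup.mk' (pPrimeCore p X)) := by
    intro y hy hyp
    obtain ⟨y₀, hy₀, rfl⟩ := centralizer_map_le_map_centralizer p A hAp hy
    obtain ⟨k, hk1, hk0⟩ := Nat.chineseRemainder hcopN.symm 1 0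
    have hz : y₀ ^ p ∈ pPrimeCore p X := by
      rw [← QuotientGroup.eq_one_iff (N := pPrimeCore p X)]
      show QuotientGroup.mk' (pPrimeCore p X) (y₀ ^ p) = 1
      rw [map_pow, hyp]
    have hzn : (y₀ ^ p) ^ Nat.card (pPrimeCore p X) = 1 := by
      have := pow_card_eq_one' (G := pPrimeCore p X) (x := ⟨y₀ ^ p, hz⟩)
      exact congrArg Subtype.val this
    have h1 : (y₀ ^ k) ^ p = 1 := by
      rw [← pow_mul, mul_comm, pow_mul, pow_eq_pow_mod _ hzn, hk0, Nat.zero_mod, pow_zero]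
    have h2 : QuotientGroup.mk' (pPrimeCore p X) (y₀ ^ k) = QuotientGroup.mk' (pPrimeCore p X) y₀ := by
      rw [map_pow, pow_eq_pow_mod _ hyp, hk1, ← pow_eq_pow_mod _ hyp, pow_one]
    have h3 : y₀ ^ k ∈ Subgroup.centralizer (A : Set X) := Subgroup.pow_mem _ hy₀ k
    rw [← h2]
    by_cases h4 : y₀ ^ k = 1
    · rw [h4, map_one]; exact Subgroup.one_mem _
    · exact Subgroup.mem_map_of_mem _ (hΩ _ h3 (orderOf_eq_prime h1 h4))
  have hQ' : (Nat.card (Q.map (QuotientGroup.mk' (pPrimeCore p X)))).Coprime p :=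
    Nat.Coprime.coprime_dvd_left (Subgroup.card_map_dvd _ _)
      ((Nat.Prime.coprime_iff_not_dvd hpf.out).mpr hQ).symm
  have hAQ' : A.map (QuotientGroup.mk' (pPrimeCore p X)) ≤
      Subgroup.normalizer ((Q.map (QuotientGroup.mk' (pPrimeCore p X)) : Subgroup _) : Set _) :=
    (Subgroup.map_mono hAQ).trans (Subgroup.le_normalizer_map _)
  have hfin := pprime_subgroup_trivial_of_omega hp (pCore p (X ⧸ pPrimeCore p X)) hR hRc
    (A.map (QuotientGroup.mk' (pPrimeCore p X))) (hAp.map _) hΩ'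
    (Q.map (QuotientGroup.mk' (pPrimeCore p X))) hQ' hAQ'
  rw [Subgroup.map_eq_bot_iff, QuotientGroup.ker_mk'] at hfin
  exact hfin

/-- `p` odd, `G` `p`-solvable, `B` elementary abelian of order `p²` generated by the elements of
order `p` of a Sylow `p`-subgroup of `C_G(b₀)`, `b₀ ∈ B`: every `B`-invariant `p'`-subgroup
lies in `O_{p'}(G)`. -/
theorem le_pPrimeCore_of_omega_sylow_centralizer {G : Type u} [Group G] [Finite G] {p : ℕ}
    [hpf : Fact p.Prime] (hp : p ≠ 2) (hG : IsPSolvable p G) (B : Subgroup G)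
    (hB : IsElementaryAbelian p B) (b₀ : G) (hb₀ : b₀ ∈ B)
    (P : Sylow p ↥(Subgroup.centralizer ({b₀} : Set G)))
    (hBP : B = Subgroup.closure {x : G | x ∈ ((P : Subgroup ↥(Subgroup.centralizer
      ({b₀} : Set G))).map (Subgroup.centralizer ({b₀} : Set G)).subtype : Subgroup G) ∧
      orderOf x = p})
    (Q : Subgroup G) (hQ : ¬ p ∣ Nat.card Q) (hinv : ∀ b ∈ B, ∀ x ∈ Q, b * x * b⁻¹ ∈ Q) :
    Q ≤ pPrimeCore p G := by
  obtain ⟨hBc, hBe⟩ := hB
  have hBp : IsPGroup p B := by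
    intro g
    refine ⟨1, ?_⟩
    apply Subtype.ext
    rw [pow_one, Subgroup.coe_pow, Subgroup.coe_one]
    exact hBe g g.2
  have hcons : IsPConstrained p G := by
    obtain ⟨P₀⟩ : Nonempty (Sylow p ↥(pPrimePCore p G)) := inferInstance
    exact Cfsg.Agent.S0629.result P₀ (Cfsg.Agent.Helper13.isPSolvable_subgroup hG _)
  have hBQ : B ≤ Subgroup.normalizer (Q : Set G) := by
    intro b hb
    rw [Subgroup.mem_normalizer_iff]
    intro x
    constructor
    · exact hinv b hb x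
    · intro hx
      have := hinv b⁻¹ (B.inv_mem hb) _ hx
      have h2 : b⁻¹ * (b * x * b⁻¹) * b⁻¹⁻¹ = x := by group
      rwa [h2] at this
  apply le_pPrimeCore_of_omega p hp hcons B hBp _ Q hQ hBQ
  intro x hx hxp
  -- `x` centralizes `b₀`
  obtain ⟨C, hC⟩ : ∃ C : Subgroup G, C = Subgroup.centralizer ({b₀} : Set G) := ⟨_, rfl⟩
  have hxC : x ∈ Subgroup.centralizer ({b₀} : Set G) := by
    rw [Subgroup.mem_centralizer_iff]
    intro h hh
    rw [Set.mem_singleton_iff] at hh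
    rw [hh]
    exact Subgroup.mem_centralizer_iff.mp hx b₀ hb₀
  have hBC : B ≤ Subgroup.centralizer ({b₀} : Set G) := by
    intro b hb
    rw [Subgroup.mem_centralizer_iff]
    intro h hh
    rw [Set.mem_singleton_iff] at hh
    rw [hh]
    have := hBc.is_comm.comm ⟨b₀, hb₀⟩ ⟨b, hb⟩
    exact congrArg Subtype.val this
  -- `T = B ⟨x⟩` is a `p`-subgroup of the centralizer
  have hxpg : IsPGroup p (Subgroup.zpowers x) := by
    rw [IsPGroup]
    rintro ⟨g, hg⟩
    obtain ⟨j, rfl⟩ := Subgroup.mem_zpowers_iff.mp hg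
    refine ⟨1, ?_⟩
    apply Subtype.ext
    have hxp1 : x ^ p = 1 := by rw [← hxp]; exact pow_orderOf_eq_one x
    rw [pow_one, Subgroup.coe_pow, Subgroup.coe_mk, Subgroup.coe_one, ← zpow_natCast, ← zpow_mul,
      mul_comm, zpow_mul, zpow_natCast, hxp1, one_zpow]
  have hxB : Subgroup.zpowers x ≤ Subgroup.normalizer (B : Set G) := by
    rw [Subgroup.zpowers_le]
    exact Subgroup.centralizer_le_normalizer _ hx
  have hT : IsPGroup p (Subgroup.zpowers x ⊔ B : Subgroup G) :=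
    IsPGroup.to_sup_of_normal_right' hxpg hBp hxB
  have hTC : Subgroup.zpowers x ⊔ B ≤ Subgroup.centralizer ({b₀} : Set G) :=
    sup_le (Subgroup.zpowers_le.mpr hxC) hBC
  have hT' : IsPGroup p ((Subgroup.zpowers x ⊔ B).subgroupOf
      (Subgroup.centralizer ({b₀} : Set G))) :=
    hT.comap_subtype
  obtain ⟨P', hP'⟩ := hT'.exists_le_sylow
  obtain ⟨c, hc⟩ := MulAction.exists_smul_eq (Subgroup.centralizer ({b₀} : Set G)) P P'
  -- elements of order `p` of `T` lie in the conjugate of `B`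
  have key : ∀ y ∈ Subgroup.zpowers x ⊔ B, orderOf y = p →
      (c : G)⁻¹ * y * (c : G) ∈ B := by
    intro y hy hyp
    have h1 : (⟨y, hTC hy⟩ : Subgroup.centralizer ({b₀} : Set G)) ∈ (P' : Subgroup _) :=
      hP' (show (⟨y, hTC hy⟩ : Subgroup.centralizer ({b₀} : Set G)) ∈
        (Subgroup.zpowers x ⊔ B).subgroupOf _ from hy)
    rw [← hc, Sylow.coe_subgroup_smul, Subgroup.mem_smul_pointwise_iff_exists] at h1
    obtain ⟨s, hs, hsy⟩ := h1
    have hsy' : (c : G) * (s : G) * (c : G)⁻¹ = y := congrArg Subtype.val hsy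
    have hs' : (c : G)⁻¹ * y * (c : G) = s := by rw [← hsy']; group
    rw [hs', hBP]
    apply Subgroup.subset_closure
    refine ⟨⟨s, hs, rfl⟩, ?_⟩
    rw [← hyp, ← hsy']
    exact ((MulAut.conj (c : G)).orderOf_eq (s : G)).symm
  have hkey1 : ∀ y ∈ Subgroup.zpowers x ⊔ B, y ^ p = 1 → (c : G)⁻¹ * y * (c : G) ∈ B := by
    intro y hy hyp
    by_cases h1 : y = 1
    · rw [h1]; simp
    · exact key y hy (orderOf_eq_prime hyp h1)
  -- `B` is contained in its conjugate, hence equal to it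
  have hle : B.map (MulAut.conj (c : G)⁻¹).toMonoidHom ≤ B := by
    rintro _ ⟨b, hb, rfl⟩
    have := hkey1 b (Subgroup.mem_sup_right hb) (hBe b hb)
    simpa using this
  have heq : B.map (MulAut.conj (c : G)⁻¹).toMonoidHom = B := by
    apply Subgroup.eq_of_le_of_card_ge hle
    rw [Subgroup.card_map_of_injective (MulAut.conj (c : G)⁻¹).injective]
  have hxc : (c : G)⁻¹ * x * (c : G) ∈ B :=
    key x (Subgroup.mem_sup_left (Subgroup.mem_zpowers x)) hxp
  rw [← heq] at hxc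
  obtain ⟨b, hb, hbx⟩ := hxc
  have hbx' : (c : G)⁻¹ * b * (c : G)⁻¹⁻¹ = (c : G)⁻¹ * x * (c : G) := hbx
  have : b = x := by
    have h1 : b = (c : G) * ((c : G)⁻¹ * b * (c : G)⁻¹⁻¹) * (c : G)⁻¹ := by group
    rw [h1, hbx']; group
  rw [← this]; exact hb

end Cfsg.Agent.Helper10
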