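import Mathlib
import Cfsg.Agent.Helper5.S4016E

/-!
Counting lemma for S4016 in the shape announced by helper10: `L` an abelian subgroup of `N(P)`,
`P` a cyclic `p`-group, `P1` acting on `L` with the conjugates of `L ⊓ C(P)` meeting trivially.
Reduction to `Cfsg.Agent.S4016P.endgame_count` (helper5).
-/

set_option autoImplicit false

namespace Cfsg.Agent.Helper10

theorem s4016_count {G : Type*} [Group G] [Finite G] {p : ℕ} [Fact p.Prime] (P L P1 : Subgroup G)
    (hP : IsPGroup p P) (hcyc : IsCyclic P)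
    (hLab : ∀ a ∈ L, ∀ b ∈ L, a * b = b * a)
    (hLN : L ≤ Subgroup.normalizer (P : Set G))
    (hne : ¬ L ≤ Subgroup.centralizer (P : Set G))
    (hdvd : Nat.card L ∣ (p - 1) * Nat.card ↥(L ⊓ Subgroup.centralizer (P : Set G)))
    (hmod : Nat.card L % p = 1)
    (hP1 : p ≤ Nat.card P1)
    (hnorm : ∀ u ∈ P1, ∀ x ∈ L, u * x * u⁻¹ ∈ L)
    (hTI : ∀ u ∈ P1, u ≠ 1 → ∀ x ∈ L ⊓ Subgroup.centralizer (P : Set G),
      u * x * u⁻¹ ∈ L ⊓ Subgroup.centralizer (P : Set G) → x = 1) :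
    p = 3 ∧ Nat.card L = 4 ∧ Nat.card ↥(L ⊓ Subgroup.centralizer (P : Set G)) = 2 := by
  classical
  have hp : p.Prime := Fact.out
  have hp2' := hp.two_le
  have hle : L ⊓ Subgroup.centralizer (P : Set G) ≤ L := inf_le_left
  obtain ⟨d, hd⟩ : Nat.card ↥(L ⊓ Subgroup.centralizer (P : Set G)) ∣ Nat.card L :=
    Subgroup.card_dvd_of_le hle
  have hL0pos : 0 < Nat.card ↥(L ⊓ Subgroup.centralizer (P : Set G)) := Nat.card_pos
  have hd1 : d ≠ 1 := by
    rintro rfl
    apply hne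
    have h1 : L ⊓ Subgroup.centralizer (P : Set G) = L :=
      Subgroup.eq_of_le_of_card_ge hle (by rw [hd, mul_one])
    intro x hx
    have h2 : x ∈ L ⊓ Subgroup.centralizer (P : Set G) := by rw [h1]; exact hx
    exact h2.2
  have hdp : d ∣ p - 1 := by
    rw [hd, mul_comm (p - 1)] at hdvd
    exact (Nat.mul_dvd_mul_iff_left hL0pos).mp hdvd
  have hp2 : p ≠ 2 := by
    rintro rfl
    exact hd1 (Nat.dvd_one.mp (by simpa using hdp))
  have hL0ne : L ⊓ Subgroup.centralizer (P : Set G) ≠ ⊥ := by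
    intro hbot
    have h1 : Nat.card ↥(L ⊓ Subgroup.centralizer (P : Set G)) = 1 := by
      rw [hbot]; exact Subgroup.card_bot
    rw [h1, one_mul] at hd
    have hdle : d ≤ p - 1 := Nat.le_of_dvd (by omega) hdp
    rw [hd] at hmod
    have h3 : d % p = d := Nat.mod_eq_of_lt (by omega)
    omega
  obtain ⟨k, hk⟩ := IsPGroup.iff_card.mp hP
  haveI hcz : IsCyclic (ZMod (Nat.card P))ˣ := by
    rw [hk]; exact ZMod.isCyclic_units_of_prime_pow p hp hp2 k
  haveI hca : IsCyclic (MulAut ↥P) :=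
    isCyclic_of_surjective (IsCyclic.mulAutMulEquiv ↥P).symm (MulEquiv.surjective _)
  let f : ↥L →* MulAut ↥P := (Subgroup.normalizerMonoidHom P).comp (Subgroup.inclusion hLN)
  have hf : ∀ x : ↥L, f x = 1 → (x : G) ∈ L ⊓ Subgroup.centralizer (P : Set G) := by
    intro x hx
    refine ⟨x.2, ?_⟩
    have hker : Subgroup.inclusion hLN x ∈ (Subgroup.normalizerMonoidHom P).ker :=
      MonoidHom.mem_ker.mpr hx
    rw [Subgroup.normalizerMonoidHom_ker, Subgroup.mem_subgroupOf] at hker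
    exact hker
  let A : ↥P1 → Subgroup G := fun u =>
    (L ⊓ Subgroup.centralizer (P : Set G)).map (MulAut.conj (u : G)).toMonoidHom
  have hAL : ∀ u, A u ≤ L := by
    rintro u _ ⟨x, hx, rfl⟩
    exact hnorm u u.2 x hx.1
  have hA : ∀ u, Nat.card (A u) = Nat.card ↥(L ⊓ Subgroup.centralizer (P : Set G)) :=
    fun u => Subgroup.card_map_of_injective (MulAut.conj (u : G)).injective
  have hdisj : ∀ u v, u ≠ v → A u ⊓ A v = ⊥ := by
    intro u v huv
    rw [eq_bot_iff]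
    rintro z ⟨⟨x, hx, hxz⟩, ⟨y, hy, hyz⟩⟩
    have hxz' : (u : G) * x * (u : G)⁻¹ = z := hxz
    have hyz' : (v : G) * y * (v : G)⁻¹ = z := hyz
    have hw : ((v : G)⁻¹ * u) ≠ 1 := by
      intro h
      apply huv
      have h2 : (v : G) = u := inv_mul_eq_one.mp h
      exact (Subtype.ext h2).symm
    have hy' : ((v : G)⁻¹ * u) * x * ((v : G)⁻¹ * u)⁻¹ = y := by
      have h3 : y = (v : G)⁻¹ * z * v := by rw [← hyz']; group
      rw [h3, ← hxz']; group
    have hx1 : x = 1 :=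
      hTI ((v : G)⁻¹ * u) (P1.mul_mem (P1.inv_mem v.2) u.2) hw x hx (by rw [hy']; exact hy)
    rw [Subgroup.mem_bot, ← hxz', hx1]; group
  exact Cfsg.Agent.S4016P.endgame_count hp L (L ⊓ Subgroup.centralizer (P : Set G)) hLab hle
    hL0ne d hd hd1 hdp hmod f hf A hP1 hAL hA hdisj

end Cfsg.Agent.Helper10
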