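import Mathlib

/-!
For S4016: a `p'`-subgroup `L` of the normalizer of a cyclic `p`-group `P` has
`|L|` dividing `(p - 1) * |L ⊓ C(P)|`.
-/

set_option autoImplicit false

namespace Cfsg.Agent.Helper10

theorem h10_compl_dvd {G : Type*} [Group G] [Finite G] {p : ℕ} [Fact p.Prime] (P L : Subgroup G)
    (hP : IsPGroup p P) (hcyc : IsCyclic P)
    (hLN : L ≤ Subgroup.normalizer (P : Set G))
    (hLp : ¬ p ∣ Nat.card L) :
    Nat.card L ∣ (p - 1) * Nat.card ↥(L ⊓ Subgroup.centralizer (P : Set G)) := by
  classical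
  have hp : p.Prime := Fact.out
  let f : ↥L →* MulAut ↥P := (Subgroup.normalizerMonoidHom P).comp (Subgroup.inclusion hLN)
  have hker : f.ker = (L ⊓ Subgroup.centralizer (P : Set G)).subgroupOf L := by
    ext x
    rw [MonoidHom.mem_ker, Subgroup.mem_subgroupOf]
    constructor
    · intro hx
      refine ⟨x.2, ?_⟩
      have hk : Subgroup.inclusion hLN x ∈ (Subgroup.normalizerMonoidHom P).ker :=
        MonoidHom.mem_ker.mpr hx
      rw [Subgroup.normalizerMonoidHom_ker, Subgroup.mem_subgroupOf] at hk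
      exact hk
    · intro hx
      have hk : Subgroup.inclusion hLN x ∈ (Subgroup.normalizerMonoidHom P).ker := by
        rw [Subgroup.normalizerMonoidHom_ker, Subgroup.mem_subgroupOf]
        exact hx.2
      exact MonoidHom.mem_ker.mp hk
  have hkc : Nat.card f.ker = Nat.card ↥(L ⊓ Subgroup.centralizer (P : Set G)) := by
    rw [hker]
    exact Nat.card_congr (Subgroup.subgroupOfEquivOfLe inf_le_left).toEquiv
  have hmul : Nat.card f.ker * Nat.card f.range = Nat.card L := by
    rw [← Subgroup.index_ker]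
    exact Subgroup.card_mul_index f.ker
  have hr1 : Nat.card f.range ∣ Nat.totient (Nat.card P) := by
    rw [← IsCyclic.card_mulAut ↥P]
    exact Subgroup.card_subgroup_dvd_card f.range
  have hr2 : ¬ p ∣ Nat.card f.range := fun h => hLp (hmul ▸ Dvd.dvd.mul_left h _)
  have hr3 : Nat.card f.range ∣ p - 1 := by
    obtain ⟨k, hk⟩ := IsPGroup.iff_card.mp hP
    rw [hk] at hr1
    rcases Nat.eq_zero_or_pos k with rfl | hkpos
    · simp only [pow_zero, Nat.totient_one] at hr1
      exact Dvd.dvd.trans hr1 (one_dvd _)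
    · rw [Nat.totient_prime_pow hp hkpos] at hr1
      have hc : (Nat.card f.range).Coprime (p ^ (k - 1)) :=
        Nat.Coprime.pow_right _ (Nat.Coprime.symm ((Nat.Prime.coprime_iff_not_dvd hp).mpr hr2))
      exact hc.dvd_of_dvd_mul_left hr1
  rw [← hmul, hkc, mul_comm (p - 1)]
  exact Nat.mul_dvd_mul_left _ hr3

end Cfsg.Agent.Helper10
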